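import Cfsg.Agent.CosetCert.Basic

/-!
Machine-generated data: the 378 points of value one of the seven-dimensional orthogonal space over
three elements, a monomial lift of eight generators, and an equivariant family of vectors in a space
of dimension 27 over four elements (two bit planes of 27 bits).
-/

set_option autoImplicit false
set_option maxRecDepth 100000

namespace Cfsg.Agent.OmegaSevenCover

open Cfsg.Agent.CosetCert

/-- Numbers of the representatives of the points. -/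
def ptT2 : PTree := (.node (.node (.node (.node (.node (.node (.node (.node (.node (.leaf 0x1) (.leaf 0x12d)) (.node (.leaf 0x10f) (.leaf 0x0))) (.node (.node (.leaf 0x3d5) (.leaf 0x385)) (.node (.leaf 0x577) (.leaf 0x0)))) (.node (.node (.node (.leaf 0x1b9) (.leaf 0x4c6)) (.node (.leaf 0x3ac) (.leaf 0x0))) (.node (.node (.leaf 0x4e0) (.leaf 0x88)) (.node (.leaf 0x445) (.leaf 0x0))))) (.node (.node (.node (.node (.leaf 0x132) (.leaf 0x3fd)) (.node (.leaf 0x2da) (.leaf 0x0))) (.node (.node (.leaf 0x45f) (.leaf 0x3b8)) (.node (.leaf 0x190) (.leaf 0x0)))) (.node (.node (.node (.leaf 0x33f) (.leaf 0x5aa)) (.node (.leaf 0x48d) (.leaf 0x0))) (.node (.node (.leaf 0x57c) (.leaf 0x2b)) (.node (.leaf 0x511) (.leaf 0x0)))))) (.node (.node (.node (.node (.node (.leaf 0x93) (.leaf 0x1ae)) (.node (.leaf 0x18a) (.leaf 0x0))) (.node (.node (.leaf 0x41a) (.leaf 0x2ef)) (.node (.leaf 0x115) (.leaf 0x0))))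 (.node (.node (.node (.leaf 0x2fd) (.leaf 0x541)) (.node (.leaf 0x42d) (.leaf 0x0))) (.node (.node (.leaf 0x537) (.leaf 0x5b)) (.node (.leaf 0x4ae) (.leaf 0x0))))) (.node (.node (.node (.node (.leaf 0x177) (.leaf 0x45d)) (.node (.leaf 0x355) (.leaf 0x0))) (.node (.node (.leaf 0x4a7) (.leaf 0x1f)) (.node (.leaf 0x3d3) (.leaf 0x0)))) (.node (.node (.node (.leaf 0x38a) (.leaf 0x364)) (.node (.leaf 0x508) (.leaf 0x0))) (.node (.node (.leaf 0x1c) (.leaf 0x34)) (.node (.leaf 0x595) (.leaf 0x0))))))) (.node (.node (.node (.node (.node (.node (.leaf 0x6f) (.leaf 0x160)) (.node (.leaf 0x154) (.leaf 0x0))) (.node (.node (.leaf 0x3ea) (.leaf 0x2dd)) (.node (.leaf 0x5a4) (.leaf 0x0)))) (.node (.node (.node (.leaf 0x1e0) (.leaf 0x50e)) (.node (.leaf 0x3fa) (.leaf 0x0))) (.node (.node (.leaf 0x513) (.leaf 0x7f)) (.node (.leaf 0x46f) (.leaf 0x0))))) (.node (.node (.node (.node (.leaf 0x14d) (.leaf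 0x41e)) (.node (.leaf 0x2ec) (.leaf 0x0))) (.node (.node (.leaf 0x483) (.leaf 0x3ca)) (.node (.leaf 0x1b1) (.leaf 0x0)))) (.node (.node (.node (.leaf 0x366) (.leaf 0x2e9)) (.node (.leaf 0x4c0) (.leaf 0x0))) (.node (.node (.leaf 0x5a0) (.leaf 0xd)) (.node (.leaf 0x559) (.leaf 0x0)))))) (.node (.node (.node (.node (.node (.leaf 0x102) (.leaf 0x1e4)) (.node (.leaf 0x1bd) (.leaf 0x0))) (.node (.node (.leaf 0x438) (.leaf 0x334)) (.node (.leaf 0x15a) (.leaf 0x0)))) (.node (.node (.node (.leaf 0x309) (.leaf 0x562)) (.node (.leaf 0x46c) (.leaf 0x0))) (.node (.node (.leaf 0x55b) (.leaf 0x91)) (.node (.leaf 0x4e7) (.leaf 0x0))))) (.node (.node (.node (.node (.leaf 0x19b) (.leaf 0x499)) (.node (.leaf 0x39a) (.leaf 0x0))) (.node (.node (.leaf 0x4d4) (.leaf 0x52)) (.node (.leaf 0x412) (.leaf 0x0)))) (.node (.node (.node (.leaf 0x3a8) (.leaf 0x376)) (.node (.leaf 0x532) (.leaf 0x0))) (.node (.node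 (.leaf 0x2e) (.leaf 0x0)) (.node (.leaf 0xf7) (.leaf 0x0)))))))) (.node (.node (.node (.node (.node (.node (.node (.leaf 0x5d) (.leaf 0x145)) (.node (.leaf 0x12a) (.leaf 0x0))) (.node (.node (.leaf 0x3db) (.leaf 0x38e)) (.node (.leaf 0x580) (.leaf 0x0)))) (.node (.node (.node (.leaf 0x1d1) (.leaf 0x4ea)) (.node (.leaf 0x3cd) (.leaf 0x0))) (.node (.node (.leaf 0x501) (.leaf 0x64)) (.node (.leaf 0x457) (.leaf 0x0))))) (.node (.node (.node (.node (.leaf 0x138) (.leaf 0x40f)) (.node (.leaf 0x2e3) (.leaf 0x0))) (.node (.node (.leaf 0x474) (.leaf 0x3c1)) (.node (.leaf 0x196) (.leaf 0x0)))) (.node (.node (.node (.leaf 0x34e) (.leaf 0x2e0)) (.node (.leaf 0x4ba) (.leaf 0x0))) (.node (.node (.leaf 0x591) (.leaf 0x31)) (.node (.leaf 0x535) (.leaf 0x0)))))) (.node (.node (.node (.node (.node (.leaf 0xfc) (.leaf 0x1c9)) (.node (.leaf 0x1a2) (.leaf 0x0))) (.node (.node (.leaf 0x426) (.leaf 0x32b))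 (.node (.leaf 0x130) (.leaf 0x0)))) (.node (.node (.node (.leaf 0x303) (.leaf 0x54a)) (.node (.leaf 0x43f) (.leaf 0x0))) (.node (.node (.leaf 0x54c) (.leaf 0x76)) (.node (.leaf 0x4c3) (.leaf 0x0))))) (.node (.node (.node (.node (.leaf 0x183) (.leaf 0x487)) (.node (.leaf 0x35e) (.leaf 0x0))) (.node (.node (.leaf 0x4b6) (.leaf 0x22)) (.node (.leaf 0x400) (.leaf 0x0)))) (.node (.node (.node (.leaf 0x396) (.leaf 0x36d)) (.node (.leaf 0x529) (.leaf 0x0))) (.node (.node (.leaf 0x25) (.leaf 0x0)) (.node (.leaf 0x59e) (.leaf 0x0))))))) (.node (.node (.node (.node (.node (.node (.leaf 0x81) (.leaf 0x17b)) (.node (.leaf 0x16f) (.leaf 0x0))) (.node (.node (.leaf 0x414) (.leaf 0x2e6)) (.node (.leaf 0xfa) (.leaf 0x0)))) (.node (.node (.node (.leaf 0x2f7) (.leaf 0x51d)) (.node (.leaf 0x40c) (.leaf 0x0))) (.node (.node (.leaf 0x522) (.leaf 0x9a)) (.node (.leaf 0x49c) (.leaf 0x0))))) (.node (.node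 (.node (.node (.leaf 0x162) (.leaf 0x44b)) (.node (.leaf 0x34c) (.leaf 0x0))) (.node (.node (.leaf 0x495) (.leaf 0x4)) (.node (.leaf 0x1cc) (.leaf 0x0)))) (.node (.node (.node (.leaf 0x378) (.leaf 0x2f2)) (.node (.leaf 0x4e4) (.leaf 0x0))) (.node (.node (.leaf 0xa) (.leaf 0x28)) (.node (.leaf 0x571) (.leaf 0x0)))))) (.node (.node (.node (.node (.node (.leaf 0x11a) (.leaf 0x3d0)) (.node (.leaf 0x1d8) (.leaf 0x0))) (.node (.node (.leaf 0x44d) (.leaf 0x33d)) (.node (.leaf 0x175) (.leaf 0x0)))) (.node (.node (.node (.leaf 0x32d) (.leaf 0x586)) (.node (.leaf 0x47b) (.leaf 0x0))) (.node (.node (.leaf 0x56d) (.leaf 0x10)) (.node (.leaf 0x50b) (.leaf 0x0))))) (.node (.node (.node (.node (.leaf 0x1aa) (.leaf 0x4ab)) (.node (.leaf 0x3a3) (.leaf 0x0))) (.node (.node (.leaf 0x4da) (.leaf 0x6d)) (.node (.leaf 0x433) (.leaf 0x0)))) (.node (.node (.node (.leaf 0x3bd) (.leaf 0x37c)) (.node (.leaf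 0x556) (.leaf 0x0))) (.node (.node (.leaf 0xf4) (.leaf 0x0)) (.node (.leaf 0x112) (.leaf 0x0))))))))) (.node (.node (.node (.node (.node (.node (.node (.node (.leaf 0x54) (.leaf 0x12e)) (.node (.leaf 0x110) (.leaf 0x0))) (.node (.node (.leaf 0x3d8) (.leaf 0x386)) (.node (.leaf 0x578) (.leaf 0x0)))) (.node (.node (.node (.leaf 0x1c5) (.leaf 0x4c7)) (.node (.leaf 0x3ad) (.leaf 0x0))) (.node (.node (.leaf 0x4fe) (.leaf 0x89)) (.node (.leaf 0x446) (.leaf 0x0))))) (.node (.node (.node (.node (.leaf 0x135) (.leaf 0x3fe)) (.node (.leaf 0x2db) (.leaf 0x0))) (.node (.node (.leaf 0x465) (.leaf 0x3b9)) (.node (.leaf 0x191) (.leaf 0x0)))) (.node (.node (.node (.leaf 0x345) (.leaf 0x5ab)) (.node (.leaf 0x48e) (.leaf 0x0))) (.node (.node (.leaf 0x58b) (.leaf 0x2c)) (.node (.leaf 0x512) (.leaf 0x0)))))) (.node (.node (.node (.node (.node (.leaf 0x9c) (.leaf 0x1af)) (.node (.leaf 0x18b) (.leaf 0x0)))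 (.node (.node (.leaf 0x420) (.leaf 0x2f0)) (.node (.leaf 0x116) (.leaf 0x0)))) (.node (.node (.node (.leaf 0x300) (.leaf 0x542)) (.node (.leaf 0x42e) (.leaf 0x0))) (.node (.node (.leaf 0x543) (.leaf 0x5c)) (.node (.leaf 0x4af) (.leaf 0x0))))) (.node (.node (.node (.node (.leaf 0x17d) (.leaf 0x45e)) (.node (.leaf 0x356) (.leaf 0x0))) (.node (.node (.leaf 0x4b3) (.leaf 0x20)) (.node (.leaf 0x3d4) (.leaf 0x0)))) (.node (.node (.node (.leaf 0x393) (.leaf 0x365)) (.node (.leaf 0x509) (.leaf 0x0))) (.node (.node (.leaf 0x1d) (.leaf 0x35)) (.node (.leaf 0x596) (.leaf 0x0))))))) (.node (.node (.node (.node (.node (.node (.leaf 0x78) (.leaf 0x161)) (.node (.leaf 0x155) (.leaf 0x0))) (.node (.node (.leaf 0x3ed) (.leaf 0x2de)) (.node (.leaf 0x5a5) (.leaf 0x0)))) (.node (.node (.node (.leaf 0x2f4) (.leaf 0x50f)) (.node (.leaf 0x3fb) (.leaf 0x0))) (.node (.node (.leaf 0x51f) (.leaf 0x80)) (.node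 (.leaf 0x470) (.leaf 0x0))))) (.node (.node (.node (.node (.leaf 0x15c) (.leaf 0x41f)) (.node (.leaf 0x2ed) (.leaf 0x0))) (.node (.node (.leaf 0x489) (.leaf 0x3cb)) (.node (.leaf 0x1b2) (.leaf 0x0)))) (.node (.node (.node (.leaf 0x36f) (.leaf 0x2ea)) (.node (.leaf 0x4c1) (.leaf 0x0))) (.node (.node (.leaf 0x5af) (.leaf 0xe)) (.node (.leaf 0x55a) (.leaf 0x0)))))) (.node (.node (.node (.node (.node (.leaf 0x117) (.leaf 0x1e5)) (.node (.leaf 0x1be) (.leaf 0x0))) (.node (.node (.leaf 0x447) (.leaf 0x335)) (.node (.leaf 0x15b) (.leaf 0x0)))) (.node (.node (.node (.leaf 0x30c) (.leaf 0x563)) (.node (.leaf 0x46d) (.leaf 0x0))) (.node (.node (.leaf 0x567) (.leaf 0x92)) (.node (.leaf 0x4e8) (.leaf 0x0))))) (.node (.node (.node (.node (.leaf 0x19e) (.leaf 0x49a)) (.node (.leaf 0x39b) (.leaf 0x0))) (.node (.node (.leaf 0x4d7) (.leaf 0x53)) (.node (.leaf 0x413) (.leaf 0x0)))) (.node (.node (.node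 (.leaf 0x3b4) (.leaf 0x377)) (.node (.leaf 0x533) (.leaf 0x0))) (.node (.node (.leaf 0x2f) (.leaf 0x0)) (.node (.leaf 0xf8) (.leaf 0x0)))))))) (.node (.node (.node (.node (.node (.node (.node (.leaf 0x66) (.leaf 0x146)) (.node (.leaf 0x12b) (.leaf 0x0))) (.node (.node (.leaf 0x3e7) (.leaf 0x38f)) (.node (.leaf 0x581) (.leaf 0x0)))) (.node (.node (.node (.leaf 0x1d4) (.leaf 0x4eb)) (.node (.leaf 0x3ce) (.leaf 0x0))) (.node (.node (.leaf 0x504) (.leaf 0x65)) (.node (.leaf 0x458) (.leaf 0x0))))) (.node (.node (.node (.node (.leaf 0x147) (.leaf 0x410)) (.node (.leaf 0x2e4) (.leaf 0x0))) (.node (.node (.leaf 0x477) (.leaf 0x3c2)) (.node (.leaf 0x197) (.leaf 0x0)))) (.node (.node (.node (.leaf 0x357) (.leaf 0x2e1)) (.node (.leaf 0x4bb) (.leaf 0x0))) (.node (.node (.leaf 0x59a) (.leaf 0x32)) (.node (.leaf 0x536) (.leaf 0x0)))))) (.node (.node (.node (.node (.node (.leaf 0xff) (.leaf 0x1ca))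 (.node (.leaf 0x1a3) (.leaf 0x0))) (.node (.node (.leaf 0x435) (.leaf 0x32c)) (.node (.leaf 0x131) (.leaf 0x0)))) (.node (.node (.node (.leaf 0x306) (.leaf 0x54b)) (.node (.leaf 0x440) (.leaf 0x0))) (.node (.node (.leaf 0x54f) (.leaf 0x77)) (.node (.leaf 0x4c4) (.leaf 0x0))))) (.node (.node (.node (.node (.leaf 0x192) (.leaf 0x488)) (.node (.leaf 0x35f) (.leaf 0x0))) (.node (.node (.leaf 0x4d1) (.leaf 0x23)) (.node (.leaf 0x401) (.leaf 0x0)))) (.node (.node (.node (.leaf 0x39f) (.leaf 0x36e)) (.node (.leaf 0x52a) (.leaf 0x0))) (.node (.node (.leaf 0x26) (.leaf 0x0)) (.node (.leaf 0x59f) (.leaf 0x0))))))) (.node (.node (.node (.node (.node (.node (.leaf 0x8a) (.leaf 0x17c)) (.node (.leaf 0x170) (.leaf 0x0))) (.node (.node (.leaf 0x417) (.leaf 0x2e7)) (.node (.leaf 0xfb) (.leaf 0x0)))) (.node (.node (.node (.leaf 0x2fa) (.leaf 0x51e)) (.node (.leaf 0x40d) (.leaf 0x0))) (.node (.node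 (.leaf 0x52b) (.leaf 0x9b)) (.node (.leaf 0x49d) (.leaf 0x0))))) (.node (.node (.node (.node (.leaf 0x168) (.leaf 0x44c)) (.node (.leaf 0x34d) (.leaf 0x0))) (.node (.node (.leaf 0x4a1) (.leaf 0x5)) (.node (.leaf 0x1cd) (.leaf 0x0)))) (.node (.node (.node (.leaf 0x381) (.leaf 0x2f3)) (.node (.leaf 0x4e5) (.leaf 0x0))) (.node (.node (.leaf 0xb) (.leaf 0x29)) (.node (.leaf 0x572) (.leaf 0x0)))))) (.node (.node (.node (.node (.node (.leaf 0x11d) (.leaf 0x3d1)) (.node (.leaf 0x1d9) (.leaf 0x0))) (.node (.node (.leaf 0x459) (.leaf 0x33e)) (.node (.leaf 0x176) (.leaf 0x0)))) (.node (.node (.node (.leaf 0x336) (.leaf 0x587)) (.node (.leaf 0x47c) (.leaf 0x0))) (.node (.node (.leaf 0x573) (.leaf 0x11)) (.node (.leaf 0x50c) (.leaf 0x0))))) (.node (.node (.node (.node (.leaf 0x1b6) (.leaf 0x4ac)) (.node (.leaf 0x3a4) (.leaf 0x0))) (.node (.node (.leaf 0x4dd) (.leaf 0x6e)) (.node (.leaf 0x434)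 (.leaf 0x0)))) (.node (.node (.node (.leaf 0x3c6) (.leaf 0x37d)) (.node (.leaf 0x557) (.leaf 0x0))) (.node (.node (.leaf 0xf5) (.leaf 0x0)) (.node (.leaf 0x113) (.leaf 0x0))))))))))

/-- Point of a vector number; `511` off the points. -/
def idxT2 : PTree := (.node (.node (.node (.node (.node (.node (.node (.node (.node (.node (.node (.node (.leaf 0x1ff) (.leaf 0x1ff)) (.node (.leaf 0xda) (.leaf 0x0))) (.node (.node (.leaf 0x1ff) (.leaf 0x0)) (.node (.leaf 0x29) (.leaf 0x0)))) (.node (.node (.node (.leaf 0x1ff) (.leaf 0x0)) (.node (.leaf 0x1ff) (.leaf 0x0))) (.node (.node (.leaf 0x29) (.leaf 0x0)) (.node (.leaf 0x1ff) (.leaf 0x0))))) (.node (.node (.node (.node (.leaf 0x165) (.leaf 0x1ff)) (.node (.leaf 0x1ff) (.leaf 0x0))) (.node (.node (.leaf 0x1ff) (.leaf 0x0)) (.node (.leaf 0x13c) (.leaf 0x0)))) (.node (.node (.node (.leaf 0x1ff) (.leaf 0x0)) (.node (.leaf 0xc2) (.leaf 0x0))) (.node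 (.node (.leaf 0x1ff) (.leaf 0x0)) (.node (.leaf 0x1ff) (.leaf 0x0)))))) (.node (.node (.node (.node (.node (.leaf 0x7d) (.leaf 0x49)) (.node (.leaf 0xab) (.leaf 0x0))) (.node (.node (.leaf 0x1ff) (.leaf 0x0)) (.node (.leaf 0x9d) (.leaf 0x0)))) (.node (.node (.node (.leaf 0x1ff) (.leaf 0x0)) (.node (.leaf 0x1ff) (.leaf 0x0))) (.node (.node (.leaf 0x1ff) (.leaf 0x0)) (.node (.leaf 0x12e) (.leaf 0x0))))) (.node (.node (.node (.node (.leaf 0x1ff) (.leaf 0x0)) (.node (.leaf 0xb4) (.leaf 0x0))) (.node (.node (.leaf 0x104) (.leaf 0x0)) (.node (.leaf 0x1ff) (.leaf 0x0)))) (.node (.node (.node (.leaf 0x1ff) (.leaf 0x0)) (.node (.leaf 0x136) (.leaf 0x0))) (.node (.node (.leaf 0x1ff) (.leaf 0x0)) (.node (.leaf 0x1ff) (.leaf 0x0))))))) (.node (.node (.node (.node (.node (.node (.leaf 0x159) (.leaf 0x1ff)) (.node (.leaf 0x49) (.leaf 0x0))) (.node (.node (.leaf 0xc9) (.leaf 0x0)) (.node (.leaf 0x1ff)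 (.leaf 0x0)))) (.node (.node (.node (.leaf 0x1ff) (.leaf 0x0)) (.node (.leaf 0x1ff) (.leaf 0x0))) (.node (.node (.leaf 0x1ff) (.leaf 0x0)) (.node (.leaf 0x1ff) (.leaf 0x0))))) (.node (.node (.node (.node (.leaf 0x1ff) (.leaf 0x0)) (.node (.leaf 0x1ff) (.leaf 0x0))) (.node (.node (.leaf 0x1ff) (.leaf 0x0)) (.node (.leaf 0x99) (.leaf 0x0)))) (.node (.node (.node (.leaf 0x1ff) (.leaf 0x0)) (.node (.leaf 0x74) (.leaf 0x0))) (.node (.node (.leaf 0x1ff) (.leaf 0x0)) (.node (.leaf 0x10e) (.leaf 0x0)))))) (.node (.node (.node (.node (.node (.leaf 0x1ff) (.leaf 0x1ff)) (.node (.leaf 0x1ff) (.leaf 0x0))) (.node (.node (.leaf 0x10c) (.leaf 0x0)) (.node (.leaf 0x1ff) (.leaf 0x0)))) (.node (.node (.node (.leaf 0x104) (.leaf 0x0)) (.node (.leaf 0x1ff) (.leaf 0x0))) (.node (.node (.leaf 0x1ff) (.leaf 0x0)) (.node (.leaf 0x127) (.leaf 0x0))))) (.node (.node (.node (.node (.leaf 0x1ff) (.leaf 0x0))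 (.node (.leaf 0x60) (.leaf 0x0))) (.node (.node (.leaf 0x132) (.leaf 0x0)) (.node (.leaf 0x1ff) (.leaf 0x0)))) (.node (.node (.node (.leaf 0x24) (.leaf 0x0)) (.node (.leaf 0x1ff) (.leaf 0x0))) (.node (.node (.leaf 0x1ff) (.leaf 0x0)) (.node (.leaf 0x1ff) (.leaf 0x0)))))))) (.node (.node (.node (.node (.node (.node (.node (.leaf 0x16e) (.leaf 0x1ff)) (.node (.leaf 0x113) (.leaf 0x0))) (.node (.node (.leaf 0x1ff) (.leaf 0x0)) (.node (.leaf 0x1ff) (.leaf 0x0)))) (.node (.node (.node (.leaf 0x81) (.leaf 0x0)) (.node (.leaf 0x1ff) (.leaf 0x0))) (.node (.node (.leaf 0x1ff) (.leaf 0x0)) (.node (.leaf 0x1ff) (.leaf 0x0))))) (.node (.node (.node (.node (.leaf 0x1ff) (.leaf 0x0)) (.node (.leaf 0x1ff) (.leaf 0x0))) (.node (.node (.leaf 0x1ff) (.leaf 0x0)) (.node (.leaf 0x1ff) (.leaf 0x0)))) (.node (.node (.node (.leaf 0xd0) (.leaf 0x0)) (.node (.leaf 0x1ff) (.leaf 0x0))) (.node (.node (.leaf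 0x1ff) (.leaf 0x0)) (.node (.leaf 0xf3) (.leaf 0x0)))))) (.node (.node (.node (.node (.node (.leaf 0x176) (.leaf 0xa9)) (.node (.leaf 0x1ff) (.leaf 0x0))) (.node (.node (.leaf 0x8b) (.leaf 0x0)) (.node (.leaf 0x1ff) (.leaf 0x0)))) (.node (.node (.node (.leaf 0x1ff) (.leaf 0x0)) (.node (.leaf 0x1ff) (.leaf 0x0))) (.node (.node (.leaf 0x1ff) (.leaf 0x0)) (.node (.leaf 0x66) (.leaf 0x0))))) (.node (.node (.node (.node (.leaf 0x16d) (.leaf 0x0)) (.node (.leaf 0x1ff) (.leaf 0x0))) (.node (.node (.leaf 0x17) (.leaf 0x0)) (.node (.leaf 0xef) (.leaf 0x0)))) (.node (.node (.node (.leaf 0x1ff) (.leaf 0x0)) (.node (.leaf 0x1ff) (.leaf 0x0))) (.node (.node (.leaf 0x10e) (.leaf 0x0)) (.node (.leaf 0x1ff) (.leaf 0x0))))))) (.node (.node (.node (.node (.node (.node (.leaf 0x1ff) (.leaf 0x1ff)) (.node (.leaf 0x1ff) (.leaf 0x0))) (.node (.node (.leaf 0x1ff) (.leaf 0x0)) (.node (.leaf 0x1ff) (.leaf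 0x0)))) (.node (.node (.node (.leaf 0xca) (.leaf 0x0)) (.node (.leaf 0x1ff) (.leaf 0x0))) (.node (.node (.leaf 0x1ff) (.leaf 0x0)) (.node (.leaf 0x1ff) (.leaf 0x0))))) (.node (.node (.node (.node (.leaf 0x1ff) (.leaf 0x0)) (.node (.leaf 0x1ff) (.leaf 0x0))) (.node (.node (.leaf 0x1ff) (.leaf 0x0)) (.node (.leaf 0x1ff) (.leaf 0x0)))) (.node (.node (.node (.leaf 0x1ff) (.leaf 0x0)) (.node (.leaf 0x1ff) (.leaf 0x0))) (.node (.node (.leaf 0x1ff) (.leaf 0x0)) (.node (.leaf 0x41) (.leaf 0x0)))))) (.node (.node (.node (.node (.node (.leaf 0x1ff) (.leaf 0x4c)) (.node (.leaf 0xe5) (.leaf 0x0))) (.node (.node (.leaf 0x1f) (.leaf 0x0)) (.node (.leaf 0x1ff) (.leaf 0x0)))) (.node (.node (.node (.leaf 0x87) (.leaf 0x0)) (.node (.leaf 0x1ff) (.leaf 0x0))) (.node (.node (.leaf 0x1ff) (.leaf 0x0)) (.node (.leaf 0x1ff) (.leaf 0x0))))) (.node (.node (.node (.node (.leaf 0x5) (.leaf 0x0)) (.node (.leaf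 0x1ff) (.leaf 0x0))) (.node (.node (.leaf 0x149) (.leaf 0x0)) (.node (.leaf 0x1ff) (.leaf 0x0)))) (.node (.node (.node (.leaf 0x1ff) (.leaf 0x0)) (.node (.leaf 0x1ff) (.leaf 0x0))) (.node (.node (.leaf 0x1ff) (.leaf 0x0)) (.node (.leaf 0x1ff) (.leaf 0x0))))))))) (.node (.node (.node (.node (.node (.node (.node (.node (.leaf 0x156) (.leaf 0x11f)) (.node (.leaf 0x1ff) (.leaf 0x0))) (.node (.node (.leaf 0x101) (.leaf 0x0)) (.node (.leaf 0x1ff) (.leaf 0x0)))) (.node (.node (.node (.leaf 0x1ff) (.leaf 0x0)) (.node (.leaf 0xb8) (.leaf 0x0))) (.node (.node (.leaf 0x1ff) (.leaf 0x0)) (.node (.leaf 0x1ff) (.leaf 0x0))))) (.node (.node (.node (.node (.leaf 0x160) (.leaf 0x1ff)) (.node (.leaf 0x11b) (.leaf 0x0))) (.node (.node (.leaf 0x1ff) (.leaf 0x0)) (.node (.leaf 0x13b) (.leaf 0x0)))) (.node (.node (.node (.leaf 0x1ff) (.leaf 0x0)) (.node (.leaf 0x1ff) (.leaf 0x0))) (.node (.node (.leaf 0x1ff)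 (.leaf 0x0)) (.node (.leaf 0x1ff) (.leaf 0x0)))))) (.node (.node (.node (.node (.node (.leaf 0x1ff) (.leaf 0x1ff)) (.node (.leaf 0x1ff) (.leaf 0x0))) (.node (.node (.leaf 0x1ff) (.leaf 0x0)) (.node (.leaf 0x1ff) (.leaf 0x0)))) (.node (.node (.node (.leaf 0x1ff) (.leaf 0x0)) (.node (.leaf 0x1ff) (.leaf 0x0))) (.node (.node (.leaf 0x1ff) (.leaf 0x0)) (.node (.leaf 0xf1) (.leaf 0x0))))) (.node (.node (.node (.node (.leaf 0x166) (.leaf 0x0)) (.node (.leaf 0x1ff) (.leaf 0x0))) (.node (.node (.leaf 0x1ff) (.leaf 0x0)) (.node (.leaf 0x1ff) (.leaf 0x0)))) (.node (.node (.node (.leaf 0x1ff) (.leaf 0x0)) (.node (.leaf 0x135) (.leaf 0x0))) (.node (.node (.leaf 0x1ff) (.leaf 0x0)) (.node (.leaf 0x1ff) (.leaf 0x0))))))) (.node (.node (.node (.node (.node (.node (.leaf 0x176) (.leaf 0x1ff)) (.node (.leaf 0x1ff) (.leaf 0x0))) (.node (.node (.leaf 0x1ff) (.leaf 0x0)) (.node (.leaf 0x1ff) (.leaf 0x0))))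 (.node (.node (.node (.leaf 0x1ff) (.leaf 0x0)) (.node (.leaf 0x1ff) (.leaf 0x0))) (.node (.node (.leaf 0x1ff) (.leaf 0x0)) (.node (.leaf 0x1ff) (.leaf 0x0))))) (.node (.node (.node (.node (.leaf 0x1) (.leaf 0x0)) (.node (.leaf 0x1ff) (.leaf 0x0))) (.node (.node (.leaf 0x1ff) (.leaf 0x0)) (.node (.leaf 0x1ff) (.leaf 0x0)))) (.node (.node (.node (.leaf 0x1ff) (.leaf 0x0)) (.node (.leaf 0x1ff) (.leaf 0x0))) (.node (.node (.leaf 0x3c) (.leaf 0x0)) (.node (.leaf 0x1ff) (.leaf 0x0)))))) (.node (.node (.node (.node (.node (.leaf 0x1ff) (.leaf 0x119)) (.node (.leaf 0x1ff) (.leaf 0x0))) (.node (.node (.leaf 0x1ff) (.leaf 0x0)) (.node (.leaf 0x14c) (.leaf 0x0)))) (.node (.node (.node (.leaf 0x17) (.leaf 0x0)) (.node (.leaf 0x1ff) (.leaf 0x0))) (.node (.node (.leaf 0x1ff) (.leaf 0x0)) (.node (.leaf 0x1ff) (.leaf 0x0))))) (.node (.node (.node (.node (.leaf 0x1ff) (.leaf 0x0)) (.node (.leaf 0xed)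 (.leaf 0x0))) (.node (.node (.leaf 0x1ff) (.leaf 0x0)) (.node (.leaf 0x1ff) (.leaf 0x0)))) (.node (.node (.node (.leaf 0x7e) (.leaf 0x0)) (.node (.leaf 0x25) (.leaf 0x0))) (.node (.node (.leaf 0x1ff) (.leaf 0x0)) (.node (.leaf 0x1ff) (.leaf 0x0)))))))) (.node (.node (.node (.node (.node (.node (.node (.leaf 0x1ff) (.leaf 0xe8)) (.node (.leaf 0x1ff) (.leaf 0x0))) (.node (.node (.leaf 0x1ff) (.leaf 0x0)) (.node (.leaf 0x38) (.leaf 0x0)))) (.node (.node (.node (.leaf 0x1ff) (.leaf 0x0)) (.node (.leaf 0x1ff) (.leaf 0x0))) (.node (.node (.leaf 0x1ff) (.leaf 0x0)) (.node (.leaf 0x1ff) (.leaf 0x0))))) (.node (.node (.node (.node (.leaf 0x1ff) (.leaf 0x0)) (.node (.leaf 0x1ff) (.leaf 0x0))) (.node (.node (.leaf 0xcd) (.leaf 0x0)) (.node (.leaf 0x9a) (.leaf 0x0)))) (.node (.node (.node (.leaf 0x1ff) (.leaf 0x0)) (.node (.leaf 0x1ff) (.leaf 0x0))) (.node (.node (.leaf 0x1ff) (.leaf 0x0)) (.node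 (.leaf 0x1ff) (.leaf 0x0)))))) (.node (.node (.node (.node (.node (.leaf 0x1ff) (.leaf 0x4f)) (.node (.leaf 0xe3) (.leaf 0x0))) (.node (.node (.leaf 0x1ff) (.leaf 0x0)) (.node (.leaf 0x1ff) (.leaf 0x0)))) (.node (.node (.node (.leaf 0x1ff) (.leaf 0x0)) (.node (.leaf 0x1ff) (.leaf 0x0))) (.node (.node (.leaf 0x1ff) (.leaf 0x0)) (.node (.leaf 0x1ff) (.leaf 0x0))))) (.node (.node (.node (.node (.leaf 0x1ff) (.leaf 0x0)) (.node (.leaf 0x1ff) (.leaf 0x0))) (.node (.node (.leaf 0x1ff) (.leaf 0x0)) (.node (.leaf 0x62) (.leaf 0x0)))) (.node (.node (.node (.leaf 0x8e) (.leaf 0x0)) (.node (.leaf 0x1ff) (.leaf 0x0))) (.node (.node (.leaf 0x41) (.leaf 0x0)) (.node (.leaf 0xa5) (.leaf 0x0))))))) (.node (.node (.node (.node (.node (.node (.leaf 0x78) (.leaf 0x1ff)) (.node (.leaf 0x4c) (.leaf 0x0))) (.node (.node (.leaf 0xd3) (.leaf 0x0)) (.node (.leaf 0x1ff) (.leaf 0x0)))) (.node (.node (.node (.leaf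 0x12) (.leaf 0x0)) (.node (.leaf 0x1ff) (.leaf 0x0))) (.node (.node (.leaf 0x1ff) (.leaf 0x0)) (.node (.leaf 0x1ff) (.leaf 0x0))))) (.node (.node (.node (.node (.leaf 0x1ff) (.leaf 0x0)) (.node (.leaf 0x1ff) (.leaf 0x0))) (.node (.node (.leaf 0x1ff) (.leaf 0x0)) (.node (.leaf 0x1ff) (.leaf 0x0)))) (.node (.node (.node (.leaf 0x1ff) (.leaf 0x0)) (.node (.leaf 0x1ff) (.leaf 0x0))) (.node (.node (.leaf 0x150) (.leaf 0x0)) (.node (.leaf 0x1ff) (.leaf 0x0)))))) (.node (.node (.node (.node (.node (.leaf 0x5) (.leaf 0x1ff)) (.node (.leaf 0x1ff) (.leaf 0x0))) (.node (.node (.leaf 0x1ff) (.leaf 0x0)) (.node (.leaf 0x1ff) (.leaf 0x0)))) (.node (.node (.node (.leaf 0x1ff) (.leaf 0x0)) (.node (.leaf 0xc1) (.leaf 0x0))) (.node (.node (.leaf 0x36) (.leaf 0x0)) (.node (.leaf 0xbf) (.leaf 0x0))))) (.node (.node (.node (.node (.leaf 0xfd) (.leaf 0x0)) (.node (.leaf 0x1ff) (.leaf 0x0))) (.node (.node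 (.leaf 0x1ff) (.leaf 0x0)) (.node (.leaf 0x12c) (.leaf 0x0)))) (.node (.node (.node (.leaf 0xa) (.leaf 0x0)) (.node (.leaf 0x1ff) (.leaf 0x0))) (.node (.node (.leaf 0x1ff) (.leaf 0x0)) (.node (.leaf 0x54) (.leaf 0x0)))))))))) (.node (.node (.node (.node (.node (.node (.node (.node (.node (.leaf 0x156) (.leaf 0x1ff)) (.node (.leaf 0x1ff) (.leaf 0x0))) (.node (.node (.leaf 0x1ff) (.leaf 0x0)) (.node (.leaf 0x13f) (.leaf 0x0)))) (.node (.node (.node (.leaf 0x1ff) (.leaf 0x0)) (.node (.leaf 0x63) (.leaf 0x0))) (.node (.node (.leaf 0x1ff) (.leaf 0x0)) (.node (.leaf 0x1ff) (.leaf 0x0))))) (.node (.node (.node (.node (.leaf 0x1ff) (.leaf 0x1ff)) (.node (.leaf 0x1ff) (.leaf 0x0))) (.node (.node (.leaf 0x1ff) (.leaf 0x0)) (.node (.leaf 0x35) (.leaf 0x0)))) (.node (.node (.node (.leaf 0x1ff) (.leaf 0x0)) (.node (.leaf 0x1ff) (.leaf 0x0))) (.node (.node (.leaf 0x1ff) (.leaf 0x0)) (.node (.leaf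 0x1ff) (.leaf 0x0)))))) (.node (.node (.node (.node (.node (.leaf 0x178) (.leaf 0x1ff)) (.node (.leaf 0x1ff) (.leaf 0x0))) (.node (.node (.leaf 0x109) (.leaf 0x0)) (.node (.leaf 0x1ff) (.leaf 0x0)))) (.node (.node (.node (.leaf 0x1ff) (.leaf 0x0)) (.node (.leaf 0x1ff) (.leaf 0x0))) (.node (.node (.leaf 0x1ff) (.leaf 0x0)) (.node (.leaf 0x1ff) (.leaf 0x0))))) (.node (.node (.node (.node (.leaf 0x1ff) (.leaf 0x0)) (.node (.leaf 0xeb) (.leaf 0x0))) (.node (.node (.leaf 0x16) (.leaf 0x0)) (.node (.leaf 0x1ff) (.leaf 0x0)))) (.node (.node (.node (.leaf 0x1ff) (.leaf 0x0)) (.node (.leaf 0x1ff) (.leaf 0x0))) (.node (.node (.leaf 0x1ff) (.leaf 0x0)) (.node (.leaf 0x1ff) (.leaf 0x0))))))) (.node (.node (.node (.node (.node (.node (.leaf 0x1ff) (.leaf 0x1ff)) (.node (.leaf 0x1ff) (.leaf 0x0))) (.node (.node (.leaf 0xfe) (.leaf 0x0)) (.node (.leaf 0x3d) (.leaf 0x0)))) (.node (.node (.node (.leaf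 0x1ff) (.leaf 0x0)) (.node (.leaf 0x1ff) (.leaf 0x0))) (.node (.node (.leaf 0x1ff) (.leaf 0x0)) (.node (.leaf 0x1ff) (.leaf 0x0))))) (.node (.node (.node (.node (.leaf 0x15c) (.leaf 0x0)) (.node (.leaf 0x1ff) (.leaf 0x0))) (.node (.node (.leaf 0x107) (.leaf 0x0)) (.node (.leaf 0x1ff) (.leaf 0x0)))) (.node (.node (.node (.leaf 0x1ff) (.leaf 0x0)) (.node (.leaf 0xc4) (.leaf 0x0))) (.node (.node (.leaf 0x9f) (.leaf 0x0)) (.node (.leaf 0x1ff) (.leaf 0x0)))))) (.node (.node (.node (.node (.node (.leaf 0x162) (.leaf 0x1ff)) (.node (.leaf 0x1ff) (.leaf 0x0))) (.node (.node (.leaf 0x23) (.leaf 0x0)) (.node (.leaf 0x1ff) (.leaf 0x0)))) (.node (.node (.node (.leaf 0x1ff) (.leaf 0x0)) (.node (.leaf 0x1ff) (.leaf 0x0))) (.node (.node (.leaf 0x138) (.leaf 0x0)) (.node (.leaf 0x1ff) (.leaf 0x0))))) (.node (.node (.node (.node (.leaf 0x1ff) (.leaf 0x0)) (.node (.leaf 0xb6) (.leaf 0x0))) (.node (.node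 (.leaf 0x93) (.leaf 0x0)) (.node (.leaf 0x1ff) (.leaf 0x0)))) (.node (.node (.node (.leaf 0x10c) (.leaf 0x0)) (.node (.leaf 0x1ff) (.leaf 0x0))) (.node (.node (.leaf 0x1ff) (.leaf 0x0)) (.node (.leaf 0x1ff) (.leaf 0x0)))))))) (.node (.node (.node (.node (.node (.node (.node (.leaf 0x76) (.leaf 0xb3)) (.node (.leaf 0x46) (.leaf 0x0))) (.node (.node (.leaf 0x1ff) (.leaf 0x0)) (.node (.leaf 0x1ff) (.leaf 0x0)))) (.node (.node (.node (.leaf 0x1ff) (.leaf 0x0)) (.node (.leaf 0x1ff) (.leaf 0x0))) (.node (.node (.leaf 0x1ff) (.leaf 0x0)) (.node (.leaf 0x1ff) (.leaf 0x0))))) (.node (.node (.node (.node (.leaf 0x1ff) (.leaf 0x0)) (.node (.leaf 0x1ff) (.leaf 0x0))) (.node (.node (.leaf 0x15) (.leaf 0x0)) (.node (.leaf 0x1ff) (.leaf 0x0)))) (.node (.node (.node (.leaf 0x1ff) (.leaf 0x0)) (.node (.leaf 0x1ff) (.leaf 0x0))) (.node (.node (.leaf 0x1ff) (.leaf 0x0)) (.node (.leaf 0x1ff) (.leaf 0x0))))))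 (.node (.node (.node (.node (.node (.leaf 0x1) (.leaf 0x1ff)) (.node (.leaf 0x1ff) (.leaf 0x0))) (.node (.node (.leaf 0xd6) (.leaf 0x0)) (.node (.leaf 0x1ff) (.leaf 0x0)))) (.node (.node (.node (.leaf 0x84) (.leaf 0x0)) (.node (.leaf 0x1ff) (.leaf 0x0))) (.node (.node (.leaf 0x1ff) (.leaf 0x0)) (.node (.leaf 0xbb) (.leaf 0x0))))) (.node (.node (.node (.node (.leaf 0x1ff) (.leaf 0x0)) (.node (.leaf 0x5c) (.leaf 0x0))) (.node (.node (.leaf 0x87) (.leaf 0x0)) (.node (.leaf 0x1ff) (.leaf 0x0)))) (.node (.node (.node (.leaf 0x23) (.leaf 0x0)) (.node (.leaf 0x1ff) (.leaf 0x0))) (.node (.node (.leaf 0xd9) (.leaf 0x0)) (.node (.leaf 0x44) (.leaf 0x0))))))) (.node (.node (.node (.node (.node (.node (.leaf 0x178) (.leaf 0x1ff)) (.node (.leaf 0xdf) (.leaf 0x0))) (.node (.node (.leaf 0xe) (.leaf 0x0)) (.node (.leaf 0x153) (.leaf 0x0)))) (.node (.node (.node (.leaf 0x1ff) (.leaf 0x0)) (.node (.leaf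 0x1ff) (.leaf 0x0))) (.node (.node (.leaf 0x14c) (.leaf 0x0)) (.node (.leaf 0xc2) (.leaf 0x0))))) (.node (.node (.node (.node (.leaf 0x1ff) (.leaf 0x0)) (.node (.leaf 0x1ff) (.leaf 0x0))) (.node (.node (.leaf 0xd0) (.leaf 0x0)) (.node (.leaf 0x5c) (.leaf 0x0)))) (.node (.node (.node (.leaf 0x1ff) (.leaf 0x0)) (.node (.leaf 0x90) (.leaf 0x0))) (.node (.node (.leaf 0x3d) (.leaf 0x0)) (.node (.leaf 0x1ff) (.leaf 0x0)))))) (.node (.node (.node (.node (.node (.leaf 0x1ff) (.leaf 0xab)) (.node (.leaf 0x52) (.leaf 0x0))) (.node (.node (.leaf 0x1ff) (.leaf 0x0)) (.node (.leaf 0x1ff) (.leaf 0x0)))) (.node (.node (.node (.leaf 0x1ff) (.leaf 0x0)) (.node (.leaf 0x1ff) (.leaf 0x0))) (.node (.node (.leaf 0x1ff) (.leaf 0x0)) (.node (.leaf 0x6b) (.leaf 0x0))))) (.node (.node (.node (.node (.leaf 0x7e) (.leaf 0x0)) (.node (.leaf 0x1ff) (.leaf 0x0))) (.node (.node (.leaf 0x25) (.leaf 0x0)) (.node (.leaf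 0xed) (.leaf 0x0)))) (.node (.node (.node (.leaf 0x1ff) (.leaf 0x0)) (.node (.leaf 0x2d) (.leaf 0x0))) (.node (.node (.leaf 0x1ff) (.leaf 0x0)) (.node (.leaf 0x1ff) (.leaf 0x0))))))))) (.node (.node (.node (.node (.node (.node (.node (.node (.leaf 0x1ff) (.leaf 0x1ff)) (.node (.leaf 0xa6) (.leaf 0x0))) (.node (.node (.leaf 0x1ff) (.leaf 0x0)) (.node (.leaf 0x1ff) (.leaf 0x0)))) (.node (.node (.node (.leaf 0x1ff) (.leaf 0x0)) (.node (.leaf 0xef) (.leaf 0x0))) (.node (.node (.leaf 0x2d) (.leaf 0x0)) (.node (.leaf 0xf7) (.leaf 0x0))))) (.node (.node (.node (.node (.leaf 0x1ff) (.leaf 0x0)) (.node (.leaf 0x1ff) (.leaf 0x0))) (.node (.node (.leaf 0x1ff) (.leaf 0x0)) (.node (.leaf 0x1ff) (.leaf 0x0)))) (.node (.node (.node (.leaf 0x1ff) (.leaf 0x0)) (.node (.leaf 0x1ff) (.leaf 0x0))) (.node (.node (.leaf 0x1ff) (.leaf 0x0)) (.node (.leaf 0x1ff) (.leaf 0x0)))))) (.node (.node (.node (.node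 (.node (.leaf 0x171) (.leaf 0x4a)) (.node (.leaf 0x117) (.leaf 0x0))) (.node (.node (.leaf 0x1ff) (.leaf 0x0)) (.node (.leaf 0x1ff) (.leaf 0x0)))) (.node (.node (.node (.leaf 0x1ff) (.leaf 0x0)) (.node (.leaf 0x6a) (.leaf 0x0))) (.node (.node (.leaf 0x96) (.leaf 0x0)) (.node (.leaf 0x1ff) (.leaf 0x0))))) (.node (.node (.node (.node (.leaf 0x9) (.leaf 0x0)) (.node (.leaf 0x1ff) (.leaf 0x0))) (.node (.node (.leaf 0x1ff) (.leaf 0x0)) (.node (.leaf 0x1ff) (.leaf 0x0)))) (.node (.node (.node (.leaf 0xd6) (.leaf 0x0)) (.node (.leaf 0x146) (.leaf 0x0))) (.node (.node (.leaf 0x1ff) (.leaf 0x0)) (.node (.leaf 0x113) (.leaf 0x0))))))) (.node (.node (.node (.node (.node (.node (.leaf 0x171) (.leaf 0x1ff)) (.node (.leaf 0x1ff) (.leaf 0x0))) (.node (.node (.leaf 0x1ff) (.leaf 0x0)) (.node (.leaf 0x154) (.leaf 0x0)))) (.node (.node (.node (.leaf 0x1ff) (.leaf 0x0)) (.node (.leaf 0x1ff) (.leaf 0x0)))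 (.node (.node (.leaf 0x14b) (.leaf 0x0)) (.node (.leaf 0x70) (.leaf 0x0))))) (.node (.node (.node (.node (.leaf 0x163) (.leaf 0x0)) (.node (.leaf 0x11f) (.leaf 0x0))) (.node (.node (.leaf 0x1ff) (.leaf 0x0)) (.node (.leaf 0xeb) (.leaf 0x0)))) (.node (.node (.node (.leaf 0x1ff) (.leaf 0x0)) (.node (.leaf 0x1ff) (.leaf 0x0))) (.node (.node (.leaf 0xa0) (.leaf 0x0)) (.node (.leaf 0x1ff) (.leaf 0x0)))))) (.node (.node (.node (.node (.node (.leaf 0x1ff) (.leaf 0x1ff)) (.node (.leaf 0xac) (.leaf 0x0))) (.node (.node (.leaf 0x8e) (.leaf 0x0)) (.node (.leaf 0x2f) (.leaf 0x0)))) (.node (.node (.node (.leaf 0x1ff) (.leaf 0x0)) (.node (.leaf 0x1ff) (.leaf 0x0))) (.node (.node (.leaf 0x1ff) (.leaf 0x0)) (.node (.leaf 0xf5) (.leaf 0x0))))) (.node (.node (.node (.node (.leaf 0x16a) (.leaf 0x0)) (.node (.leaf 0x1ff) (.leaf 0x0))) (.node (.node (.leaf 0x94) (.leaf 0x0)) (.node (.leaf 0x1ff) (.leaf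 0x0)))) (.node (.node (.node (.leaf 0x1ff) (.leaf 0x0)) (.node (.leaf 0x1ff) (.leaf 0x0))) (.node (.node (.leaf 0x1ff) (.leaf 0x0)) (.node (.leaf 0x52) (.leaf 0x0)))))))) (.node (.node (.node (.node (.node (.node (.node (.leaf 0x78) (.leaf 0x1ff)) (.node (.leaf 0x1ff) (.leaf 0x0))) (.node (.node (.leaf 0x1ff) (.leaf 0x0)) (.node (.leaf 0x1ff) (.leaf 0x0)))) (.node (.node (.node (.leaf 0x1ff) (.leaf 0x0)) (.node (.leaf 0x1ff) (.leaf 0x0))) (.node (.node (.leaf 0x1ff) (.leaf 0x0)) (.node (.leaf 0x130) (.leaf 0x0))))) (.node (.node (.node (.node (.leaf 0x9) (.leaf 0x0)) (.node (.leaf 0xe6) (.leaf 0x0))) (.node (.node (.leaf 0x1ff) (.leaf 0x0)) (.node (.leaf 0x32) (.leaf 0x0)))) (.node (.node (.node (.leaf 0x1ff) (.leaf 0x0)) (.node (.leaf 0x1ff) (.leaf 0x0))) (.node (.node (.leaf 0x1ff) (.leaf 0x0)) (.node (.leaf 0xd9) (.leaf 0x0)))))) (.node (.node (.node (.node (.node (.leaf 0x169)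 (.leaf 0xe3)) (.node (.leaf 0x1ff) (.leaf 0x0))) (.node (.node (.leaf 0x1ff) (.leaf 0x0)) (.node (.leaf 0x1ff) (.leaf 0x0)))) (.node (.node (.node (.leaf 0x15) (.leaf 0x0)) (.node (.leaf 0x1ff) (.leaf 0x0))) (.node (.node (.leaf 0x1ff) (.leaf 0x0)) (.node (.leaf 0x65) (.leaf 0x0))))) (.node (.node (.node (.node (.leaf 0x1ff) (.leaf 0x0)) (.node (.leaf 0x1ff) (.leaf 0x0))) (.node (.node (.leaf 0x1ff) (.leaf 0x0)) (.node (.leaf 0x1ff) (.leaf 0x0)))) (.node (.node (.node (.leaf 0x1ff) (.leaf 0x0)) (.node (.leaf 0x1ff) (.leaf 0x0))) (.node (.node (.leaf 0x1ff) (.leaf 0x0)) (.node (.leaf 0xda) (.leaf 0x0))))))) (.node (.node (.node (.node (.node (.node (.leaf 0x1ff) (.leaf 0x114)) (.node (.leaf 0x1ff) (.leaf 0x0))) (.node (.node (.leaf 0x1ff) (.leaf 0x0)) (.node (.leaf 0x1ff) (.leaf 0x0)))) (.node (.node (.node (.leaf 0x1ff) (.leaf 0x0)) (.node (.leaf 0x1ff) (.leaf 0x0))) (.node (.node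 (.leaf 0x1ff) (.leaf 0x0)) (.node (.leaf 0x1ff) (.leaf 0x0))))) (.node (.node (.node (.node (.leaf 0x1ff) (.leaf 0x0)) (.node (.leaf 0x1ff) (.leaf 0x0))) (.node (.node (.leaf 0x1ff) (.leaf 0x0)) (.node (.leaf 0x1ff) (.leaf 0x0)))) (.node (.node (.node (.leaf 0x1ff) (.leaf 0x0)) (.node (.leaf 0x95) (.leaf 0x0))) (.node (.node (.leaf 0x1ff) (.leaf 0x0)) (.node (.leaf 0x46) (.leaf 0x0)))))) (.node (.node (.node (.node (.node (.leaf 0x1ff) (.leaf 0x1ff)) (.node (.leaf 0xaf) (.leaf 0x0))) (.node (.node (.leaf 0x21) (.leaf 0x0)) (.node (.leaf 0x1ff) (.leaf 0x0)))) (.node (.node (.node (.leaf 0x107) (.leaf 0x0)) (.node (.leaf 0x70) (.leaf 0x0))) (.node (.node (.leaf 0x13e) (.leaf 0x0)) (.node (.leaf 0x1ff) (.leaf 0x0))))) (.node (.node (.node (.node (.leaf 0xa) (.leaf 0x0)) (.node (.leaf 0x1ff) (.leaf 0x0))) (.node (.node (.leaf 0x1ff) (.leaf 0x0)) (.node (.leaf 0x1ff) (.leaf 0x0)))) (.node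 (.node (.node (.leaf 0x1ff) (.leaf 0x0)) (.node (.leaf 0x1ff) (.leaf 0x0))) (.node (.node (.leaf 0x1ff) (.leaf 0x0)) (.node (.leaf 0x1ff) (.leaf 0x0))))))))))) (.node (.node (.node (.node (.node (.node (.node (.node (.node (.node (.leaf 0x0) (.leaf 0xaf)) (.node (.leaf 0x1ff) (.leaf 0x0))) (.node (.node (.leaf 0x83) (.leaf 0x0)) (.node (.leaf 0x1ff) (.leaf 0x0)))) (.node (.node (.node (.leaf 0xc) (.leaf 0x0)) (.node (.leaf 0x1ff) (.leaf 0x0))) (.node (.node (.leaf 0x1ff) (.leaf 0x0)) (.node (.leaf 0x1ff) (.leaf 0x0))))) (.node (.node (.node (.node (.leaf 0x1ff) (.leaf 0x1ff)) (.node (.leaf 0x1ff) (.leaf 0x0))) (.node (.node (.leaf 0x1ff) (.leaf 0x0)) (.node (.leaf 0x1ff) (.leaf 0x0)))) (.node (.node (.node (.leaf 0x1ff) (.leaf 0x0)) (.node (.leaf 0x1ff) (.leaf 0x0))) (.node (.node (.leaf 0x1ff) (.leaf 0x0)) (.node (.leaf 0xbc) (.leaf 0x0)))))) (.node (.node (.node (.node (.node (.leaf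 0x1ff) (.leaf 0x1ff)) (.node (.leaf 0x1ff) (.leaf 0x0))) (.node (.node (.leaf 0x1ff) (.leaf 0x0)) (.node (.leaf 0x3c) (.leaf 0x0)))) (.node (.node (.node (.leaf 0x1ff) (.leaf 0x0)) (.node (.leaf 0x129) (.leaf 0x0))) (.node (.node (.leaf 0x1ff) (.leaf 0x0)) (.node (.leaf 0x1ff) (.leaf 0x0))))) (.node (.node (.node (.node (.leaf 0x1ff) (.leaf 0x0)) (.node (.leaf 0x1ff) (.leaf 0x0))) (.node (.node (.leaf 0x1ff) (.leaf 0x0)) (.node (.leaf 0x1ff) (.leaf 0x0)))) (.node (.node (.node (.leaf 0x1ff) (.leaf 0x0)) (.node (.leaf 0x149) (.leaf 0x0))) (.node (.node (.leaf 0x153) (.leaf 0x0)) (.node (.leaf 0x47) (.leaf 0x0))))))) (.node (.node (.node (.node (.node (.node (.leaf 0x15a) (.leaf 0x1ff)) (.node (.leaf 0x1ff) (.leaf 0x0))) (.node (.node (.leaf 0x1ff) (.leaf 0x0)) (.node (.leaf 0x151) (.leaf 0x0)))) (.node (.node (.node (.leaf 0x1ff) (.leaf 0x0)) (.node (.leaf 0x66) (.leaf 0x0))) (.node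 (.node (.leaf 0x1ff) (.leaf 0x0)) (.node (.leaf 0x1ff) (.leaf 0x0))))) (.node (.node (.node (.node (.leaf 0x1ff) (.leaf 0x0)) (.node (.leaf 0x1ff) (.leaf 0x0))) (.node (.node (.leaf 0x1ff) (.leaf 0x0)) (.node (.leaf 0x1ff) (.leaf 0x0)))) (.node (.node (.node (.leaf 0x8a) (.leaf 0x0)) (.node (.leaf 0x1ff) (.leaf 0x0))) (.node (.node (.leaf 0x1ff) (.leaf 0x0)) (.node (.leaf 0x1ff) (.leaf 0x0)))))) (.node (.node (.node (.node (.node (.leaf 0x1ff) (.leaf 0xad)) (.node (.leaf 0x1ff) (.leaf 0x0))) (.node (.node (.leaf 0x1ff) (.leaf 0x0)) (.node (.leaf 0x1ff) (.leaf 0x0)))) (.node (.node (.node (.leaf 0x16) (.leaf 0x0)) (.node (.leaf 0x12c) (.leaf 0x0))) (.node (.node (.leaf 0x1ff) (.leaf 0x0)) (.node (.leaf 0x1ff) (.leaf 0x0))))) (.node (.node (.node (.node (.leaf 0x165) (.leaf 0x0)) (.node (.leaf 0x1ff) (.leaf 0x0))) (.node (.node (.leaf 0x1ff) (.leaf 0x0)) (.node (.leaf 0x1ff) (.leaf 0x0))))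 (.node (.node (.node (.leaf 0x1ff) (.leaf 0x0)) (.node (.leaf 0x1ff) (.leaf 0x0))) (.node (.node (.leaf 0x1ff) (.leaf 0x0)) (.node (.leaf 0x1ff) (.leaf 0x0)))))))) (.node (.node (.node (.node (.node (.node (.node (.leaf 0x1ff) (.leaf 0x1ff)) (.node (.leaf 0xdc) (.leaf 0x0))) (.node (.node (.leaf 0x1ff) (.leaf 0x0)) (.node (.leaf 0x1ff) (.leaf 0x0)))) (.node (.node (.node (.leaf 0xfe) (.leaf 0x0)) (.node (.leaf 0xf1) (.leaf 0x0))) (.node (.node (.leaf 0x1ff) (.leaf 0x0)) (.node (.leaf 0x1ff) (.leaf 0x0))))) (.node (.node (.node (.node (.leaf 0x16d) (.leaf 0x0)) (.node (.leaf 0x1ff) (.leaf 0x0))) (.node (.node (.leaf 0x1ff) (.leaf 0x0)) (.node (.leaf 0x1ff) (.leaf 0x0)))) (.node (.node (.node (.leaf 0x1b) (.leaf 0x0)) (.node (.leaf 0x1ff) (.leaf 0x0))) (.node (.node (.leaf 0x1ff) (.leaf 0x0)) (.node (.leaf 0x1ff) (.leaf 0x0)))))) (.node (.node (.node (.node (.node (.leaf 0x15c) (.leaf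 0x1ff)) (.node (.leaf 0x1ff) (.leaf 0x0))) (.node (.node (.leaf 0x1ff) (.leaf 0x0)) (.node (.leaf 0x9f) (.leaf 0x0)))) (.node (.node (.node (.leaf 0x1ff) (.leaf 0x0)) (.node (.leaf 0x1ff) (.leaf 0x0))) (.node (.node (.leaf 0x1ff) (.leaf 0x0)) (.node (.leaf 0x1ff) (.leaf 0x0))))) (.node (.node (.node (.node (.leaf 0x1ff) (.leaf 0x0)) (.node (.leaf 0x1ff) (.leaf 0x0))) (.node (.node (.leaf 0x1ff) (.leaf 0x0)) (.node (.leaf 0x61) (.leaf 0x0)))) (.node (.node (.node (.leaf 0x1ff) (.leaf 0x0)) (.node (.leaf 0x1ff) (.leaf 0x0))) (.node (.node (.leaf 0x1ff) (.leaf 0x0)) (.node (.leaf 0x1ff) (.leaf 0x0))))))) (.node (.node (.node (.node (.node (.node (.leaf 0x173) (.leaf 0x1ff)) (.node (.leaf 0x1ff) (.leaf 0x0))) (.node (.node (.leaf 0x1ff) (.leaf 0x0)) (.node (.leaf 0x1ff) (.leaf 0x0)))) (.node (.node (.node (.leaf 0x10) (.leaf 0x0)) (.node (.leaf 0xbc) (.leaf 0x0))) (.node (.node (.leaf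 0x1ff) (.leaf 0x0)) (.node (.leaf 0x1ff) (.leaf 0x0))))) (.node (.node (.node (.node (.leaf 0x1ff) (.leaf 0x0)) (.node (.leaf 0x1ff) (.leaf 0x0))) (.node (.node (.leaf 0x1ff) (.leaf 0x0)) (.node (.leaf 0x1ff) (.leaf 0x0)))) (.node (.node (.node (.leaf 0xd5) (.leaf 0x0)) (.node (.leaf 0x1ff) (.leaf 0x0))) (.node (.node (.leaf 0x1ff) (.leaf 0x0)) (.node (.leaf 0x1ff) (.leaf 0x0)))))) (.node (.node (.node (.node (.node (.leaf 0x1ff) (.leaf 0x1ff)) (.node (.leaf 0x1ff) (.leaf 0x0))) (.node (.node (.leaf 0x1ff) (.leaf 0x0)) (.node (.leaf 0x34) (.leaf 0x0)))) (.node (.node (.node (.leaf 0x1ff) (.leaf 0x0)) (.node (.leaf 0xf7) (.leaf 0x0))) (.node (.node (.leaf 0x1ff) (.leaf 0x0)) (.node (.leaf 0x1ff) (.leaf 0x0))))) (.node (.node (.node (.node (.leaf 0x1ff) (.leaf 0x0)) (.node (.leaf 0x1ff) (.leaf 0x0))) (.node (.node (.leaf 0x136) (.leaf 0x0)) (.node (.leaf 0x122) (.leaf 0x0)))) (.node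 (.node (.node (.leaf 0x1ff) (.leaf 0x0)) (.node (.leaf 0x1ff) (.leaf 0x0))) (.node (.node (.leaf 0x1ff) (.leaf 0x0)) (.node (.leaf 0x1ff) (.leaf 0x0))))))))) (.node (.node (.node (.node (.node (.node (.node (.node (.leaf 0x76) (.leaf 0x58)) (.node (.leaf 0x1ff) (.leaf 0x0))) (.node (.node (.leaf 0x1ff) (.leaf 0x0)) (.node (.leaf 0x1ff) (.leaf 0x0)))) (.node (.node (.node (.leaf 0x1ff) (.leaf 0x0)) (.node (.leaf 0x1ff) (.leaf 0x0))) (.node (.node (.leaf 0x1ff) (.leaf 0x0)) (.node (.leaf 0x1ff) (.leaf 0x0))))) (.node (.node (.node (.node (.leaf 0x7) (.leaf 0xe0)) (.node (.leaf 0x1ff) (.leaf 0x0))) (.node (.node (.leaf 0x102) (.leaf 0x0)) (.node (.leaf 0x31) (.leaf 0x0)))) (.node (.node (.node (.leaf 0x88) (.leaf 0x0)) (.node (.leaf 0x1ff) (.leaf 0x0))) (.node (.node (.leaf 0x38) (.leaf 0x0)) (.node (.leaf 0x1ff) (.leaf 0x0)))))) (.node (.node (.node (.node (.node (.leaf 0x7a) (.leaf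 0xdf)) (.node (.leaf 0x1ff) (.leaf 0x0))) (.node (.node (.leaf 0x1ff) (.leaf 0x0)) (.node (.leaf 0xa0) (.leaf 0x0)))) (.node (.node (.node (.leaf 0x1ff) (.leaf 0x0)) (.node (.leaf 0x12a) (.leaf 0x0))) (.node (.node (.leaf 0x1ff) (.leaf 0x0)) (.node (.leaf 0x1ff) (.leaf 0x0))))) (.node (.node (.node (.node (.leaf 0x1ff) (.leaf 0x0)) (.node (.leaf 0x1ff) (.leaf 0x0))) (.node (.node (.leaf 0x18) (.leaf 0x0)) (.node (.leaf 0xb9) (.leaf 0x0)))) (.node (.node (.node (.leaf 0x10b) (.leaf 0x0)) (.node (.leaf 0x1ff) (.leaf 0x0))) (.node (.node (.leaf 0x154) (.leaf 0x0)) (.node (.leaf 0xdc) (.leaf 0x0))))))) (.node (.node (.node (.node (.node (.node (.leaf 0x1ff) (.leaf 0xe6)) (.node (.leaf 0x1ff) (.leaf 0x0))) (.node (.node (.leaf 0x1ff) (.leaf 0x0)) (.node (.leaf 0x1ff) (.leaf 0x0)))) (.node (.node (.node (.leaf 0x82) (.leaf 0x0)) (.node (.leaf 0xbb) (.leaf 0x0))) (.node (.node (.leaf 0x1ff)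 (.leaf 0x0)) (.node (.leaf 0xc5) (.leaf 0x0))))) (.node (.node (.node (.node (.leaf 0x1ff) (.leaf 0x0)) (.node (.leaf 0x1ff) (.leaf 0x0))) (.node (.node (.leaf 0x1ff) (.leaf 0x0)) (.node (.leaf 0x120) (.leaf 0x0)))) (.node (.node (.node (.leaf 0x1e) (.leaf 0x0)) (.node (.leaf 0x130) (.leaf 0x0))) (.node (.node (.leaf 0x1ff) (.leaf 0x0)) (.node (.leaf 0x40) (.leaf 0x0)))))) (.node (.node (.node (.node (.node (.leaf 0x1ff) (.leaf 0x1ff)) (.node (.leaf 0x1ff) (.leaf 0x0))) (.node (.node (.leaf 0x1ff) (.leaf 0x0)) (.node (.leaf 0x1ff) (.leaf 0x0)))) (.node (.node (.node (.leaf 0x1ff) (.leaf 0x0)) (.node (.leaf 0x1ff) (.leaf 0x0))) (.node (.node (.leaf 0x1ff) (.leaf 0x0)) (.node (.leaf 0x12a) (.leaf 0x0))))) (.node (.node (.node (.node (.leaf 0x1ff) (.leaf 0x0)) (.node (.leaf 0x122) (.leaf 0x0))) (.node (.node (.leaf 0x135) (.leaf 0x0)) (.node (.leaf 0x1ff) (.leaf 0x0)))) (.node (.node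 (.node (.leaf 0xc7) (.leaf 0x0)) (.node (.leaf 0x1ff) (.leaf 0x0))) (.node (.node (.leaf 0x44) (.leaf 0x0)) (.node (.leaf 0xe5) (.leaf 0x0)))))))) (.node (.node (.node (.node (.node (.node (.node (.leaf 0x174) (.leaf 0x1ff)) (.node (.leaf 0x48) (.leaf 0x0))) (.node (.node (.leaf 0x1ff) (.leaf 0x0)) (.node (.leaf 0x1ff) (.leaf 0x0)))) (.node (.node (.node (.leaf 0xe) (.leaf 0x0)) (.node (.leaf 0x1ff) (.leaf 0x0))) (.node (.node (.leaf 0x1ff) (.leaf 0x0)) (.node (.leaf 0x1ff) (.leaf 0x0))))) (.node (.node (.node (.node (.leaf 0x166) (.leaf 0x0)) (.node (.leaf 0x11d) (.leaf 0x0))) (.node (.node (.leaf 0x14) (.leaf 0x0)) (.node (.leaf 0x1ff) (.leaf 0x0)))) (.node (.node (.node (.leaf 0x1ff) (.leaf 0x0)) (.node (.leaf 0x73) (.leaf 0x0))) (.node (.node (.leaf 0x9c) (.leaf 0x0)) (.node (.leaf 0xa2) (.leaf 0x0)))))) (.node (.node (.node (.node (.node (.leaf 0x1ff) (.leaf 0x1ff)) (.node (.leaf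 0x1ff) (.leaf 0x0))) (.node (.node (.leaf 0x1ff) (.leaf 0x0)) (.node (.leaf 0x2e) (.leaf 0x0)))) (.node (.node (.node (.leaf 0xcc) (.leaf 0x0)) (.node (.leaf 0xf5) (.leaf 0x0))) (.node (.node (.leaf 0x1ff) (.leaf 0x0)) (.node (.leaf 0x1ff) (.leaf 0x0))))) (.node (.node (.node (.node (.leaf 0x15e) (.leaf 0x0)) (.node (.leaf 0x5e) (.leaf 0x0))) (.node (.node (.leaf 0x90) (.leaf 0x0)) (.node (.leaf 0x1ff) (.leaf 0x0)))) (.node (.node (.node (.leaf 0x1ff) (.leaf 0x0)) (.node (.leaf 0x1ff) (.leaf 0x0))) (.node (.node (.leaf 0x1ff) (.leaf 0x0)) (.node (.leaf 0x1ff) (.leaf 0x0))))))) (.node (.node (.node (.node (.node (.node (.leaf 0x15b) (.leaf 0x1ff)) (.node (.leaf 0x1ff) (.leaf 0x0))) (.node (.node (.leaf 0x1c) (.leaf 0x0)) (.node (.leaf 0x1ff) (.leaf 0x0)))) (.node (.node (.node (.leaf 0x1ff) (.leaf 0x0)) (.node (.leaf 0x1ff) (.leaf 0x0))) (.node (.node (.leaf 0x1ff) (.leaf 0x0)) (.node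 (.leaf 0xf8) (.leaf 0x0))))) (.node (.node (.node (.node (.leaf 0x2) (.leaf 0x0)) (.node (.leaf 0xb2) (.leaf 0x0))) (.node (.node (.leaf 0x88) (.leaf 0x0)) (.node (.leaf 0x1ff) (.leaf 0x0)))) (.node (.node (.node (.leaf 0x1ff) (.leaf 0x0)) (.node (.leaf 0x144) (.leaf 0x0))) (.node (.node (.leaf 0x1ff) (.leaf 0x0)) (.node (.leaf 0x1ff) (.leaf 0x0)))))) (.node (.node (.node (.node (.node (.leaf 0x1ff) (.leaf 0x117)) (.node (.leaf 0x1ff) (.leaf 0x0))) (.node (.node (.leaf 0x10b) (.leaf 0x0)) (.node (.leaf 0x1ff) (.leaf 0x0)))) (.node (.node (.node (.leaf 0x1ff) (.leaf 0x0)) (.node (.leaf 0x1ff) (.leaf 0x0))) (.node (.node (.leaf 0x1ff) (.leaf 0x0)) (.node (.leaf 0x1ff) (.leaf 0x0))))) (.node (.node (.node (.node (.leaf 0xc6) (.leaf 0x0)) (.node (.leaf 0x1ff) (.leaf 0x0))) (.node (.node (.leaf 0x27) (.leaf 0x0)) (.node (.leaf 0x1ff) (.leaf 0x0)))) (.node (.node (.node (.leaf 0x1ff) (.leaf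 0x0)) (.node (.leaf 0x28) (.leaf 0x0))) (.node (.node (.leaf 0xa4) (.leaf 0x0)) (.node (.leaf 0x1ff) (.leaf 0x0)))))))))) (.node (.node (.node (.node (.node (.node (.node (.node (.node (.leaf 0x1ff) (.leaf 0x1ff)) (.node (.leaf 0x1ff) (.leaf 0x0))) (.node (.node (.leaf 0xca) (.leaf 0x0)) (.node (.leaf 0x37) (.leaf 0x0)))) (.node (.node (.node (.leaf 0x1ff) (.leaf 0x0)) (.node (.leaf 0x1ff) (.leaf 0x0))) (.node (.node (.leaf 0x2b) (.leaf 0x0)) (.node (.leaf 0xc1) (.leaf 0x0))))) (.node (.node (.node (.node (.leaf 0x1ff) (.leaf 0x1ff)) (.node (.leaf 0x1ff) (.leaf 0x0))) (.node (.node (.leaf 0x8d) (.leaf 0x0)) (.node (.leaf 0x1ff) (.leaf 0x0)))) (.node (.node (.node (.leaf 0x1ff) (.leaf 0x0)) (.node (.leaf 0x12e) (.leaf 0x0))) (.node (.node (.leaf 0x141) (.leaf 0x0)) (.node (.leaf 0x1ff) (.leaf 0x0)))))) (.node (.node (.node (.node (.node (.leaf 0x173) (.leaf 0x4b)) (.node (.leaf 0xe1)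 (.leaf 0x0))) (.node (.node (.leaf 0x1e) (.leaf 0x0)) (.node (.leaf 0x1ff) (.leaf 0x0)))) (.node (.node (.node (.leaf 0x103) (.leaf 0x0)) (.node (.leaf 0x1ff) (.leaf 0x0))) (.node (.node (.leaf 0x1ff) (.leaf 0x0)) (.node (.leaf 0x1ff) (.leaf 0x0))))) (.node (.node (.node (.node (.leaf 0x1ff) (.leaf 0x0)) (.node (.leaf 0x120) (.leaf 0x0))) (.node (.node (.leaf 0x1ff) (.leaf 0x0)) (.node (.leaf 0x1ff) (.leaf 0x0)))) (.node (.node (.node (.leaf 0x1ff) (.leaf 0x0)) (.node (.leaf 0x92) (.leaf 0x0))) (.node (.node (.leaf 0x3f) (.leaf 0x0)) (.node (.leaf 0xa7) (.leaf 0x0))))))) (.node (.node (.node (.node (.node (.node (.leaf 0x7b) (.leaf 0xb1)) (.node (.leaf 0x4a) (.leaf 0x0))) (.node (.node (.leaf 0x1ff) (.leaf 0x0)) (.node (.leaf 0x1ff) (.leaf 0x0)))) (.node (.node (.node (.leaf 0x1ff) (.leaf 0x0)) (.node (.leaf 0x1ff) (.leaf 0x0))) (.node (.node (.leaf 0x1ff) (.leaf 0x0)) (.node (.leaf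 0x1ff) (.leaf 0x0))))) (.node (.node (.node (.node (.leaf 0x1ff) (.leaf 0x0)) (.node (.leaf 0x1ff) (.leaf 0x0))) (.node (.node (.leaf 0x1ff) (.leaf 0x0)) (.node (.leaf 0xb5) (.leaf 0x0)))) (.node (.node (.node (.leaf 0x1ff) (.leaf 0x0)) (.node (.leaf 0x1ff) (.leaf 0x0))) (.node (.node (.leaf 0x1ff) (.leaf 0x0)) (.node (.leaf 0x1ff) (.leaf 0x0)))))) (.node (.node (.node (.node (.node (.leaf 0x3) (.leaf 0x1ff)) (.node (.leaf 0x1ff) (.leaf 0x0))) (.node (.node (.leaf 0x1ff) (.leaf 0x0)) (.node (.leaf 0x1ff) (.leaf 0x0)))) (.node (.node (.node (.leaf 0x1ff) (.leaf 0x0)) (.node (.leaf 0x1ff) (.leaf 0x0))) (.node (.node (.leaf 0x34) (.leaf 0x0)) (.node (.leaf 0x1ff) (.leaf 0x0))))) (.node (.node (.node (.node (.leaf 0x1ff) (.leaf 0x0)) (.node (.leaf 0x1ff) (.leaf 0x0))) (.node (.node (.leaf 0x146) (.leaf 0x0)) (.node (.leaf 0x1ff) (.leaf 0x0)))) (.node (.node (.node (.leaf 0x1ff) (.leaf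 0x0)) (.node (.leaf 0x1ff) (.leaf 0x0))) (.node (.node (.leaf 0x1ff) (.leaf 0x0)) (.node (.leaf 0x1ff) (.leaf 0x0)))))))) (.node (.node (.node (.node (.node (.node (.node (.leaf 0x16f) (.leaf 0x1ff)) (.node (.leaf 0x1ff) (.leaf 0x0))) (.node (.node (.leaf 0x12) (.leaf 0x0)) (.node (.leaf 0x141) (.leaf 0x0)))) (.node (.node (.node (.leaf 0xc9) (.leaf 0x0)) (.node (.leaf 0x1ff) (.leaf 0x0))) (.node (.node (.leaf 0x1ff) (.leaf 0x0)) (.node (.leaf 0xfa) (.leaf 0x0))))) (.node (.node (.node (.node (.leaf 0x1ff) (.leaf 0x0)) (.node (.leaf 0x1ff) (.leaf 0x0))) (.node (.node (.leaf 0x1ff) (.leaf 0x0)) (.node (.leaf 0x1ff) (.leaf 0x0)))) (.node (.node (.node (.leaf 0xd2) (.leaf 0x0)) (.node (.leaf 0xf9) (.leaf 0x0))) (.node (.node (.leaf 0x3a) (.leaf 0x0)) (.node (.leaf 0x1ff) (.leaf 0x0)))))) (.node (.node (.node (.node (.node (.leaf 0x1ff) (.leaf 0x1ff)) (.node (.leaf 0x1ff) (.leaf 0x0)))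 (.node (.node (.leaf 0x1ff) (.leaf 0x0)) (.node (.leaf 0x14a) (.leaf 0x0)))) (.node (.node (.node (.leaf 0x1ff) (.leaf 0x0)) (.node (.leaf 0xbe) (.leaf 0x0))) (.node (.node (.leaf 0x99) (.leaf 0x0)) (.node (.leaf 0x1ff) (.leaf 0x0))))) (.node (.node (.node (.node (.leaf 0x1ff) (.leaf 0x0)) (.node (.leaf 0x1ff) (.leaf 0x0))) (.node (.node (.leaf 0x1ff) (.leaf 0x0)) (.node (.leaf 0x1ff) (.leaf 0x0)))) (.node (.node (.node (.leaf 0x1ff) (.leaf 0x0)) (.node (.leaf 0x1ff) (.leaf 0x0))) (.node (.node (.leaf 0x1ff) (.leaf 0x0)) (.node (.leaf 0x1ff) (.leaf 0x0))))))) (.node (.node (.node (.node (.node (.node (.leaf 0x1ff) (.leaf 0x11c)) (.node (.leaf 0x1ff) (.leaf 0x0))) (.node (.node (.leaf 0x1ff) (.leaf 0x0)) (.node (.leaf 0x3e) (.leaf 0x0)))) (.node (.node (.node (.leaf 0x1ff) (.leaf 0x0)) (.node (.leaf 0xf3) (.leaf 0x0))) (.node (.node (.leaf 0x2f) (.leaf 0x0)) (.node (.leaf 0x1ff) (.leaf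 0x0))))) (.node (.node (.node (.node (.leaf 0x168) (.leaf 0x0)) (.node (.leaf 0x5a) (.leaf 0x0))) (.node (.node (.leaf 0x1ff) (.leaf 0x0)) (.node (.leaf 0x1ff) (.leaf 0x0)))) (.node (.node (.node (.leaf 0x1f) (.leaf 0x0)) (.node (.leaf 0x133) (.leaf 0x0))) (.node (.node (.leaf 0x1ff) (.leaf 0x0)) (.node (.leaf 0x1ff) (.leaf 0x0)))))) (.node (.node (.node (.node (.node (.leaf 0x16a) (.leaf 0x1ff)) (.node (.leaf 0x1ff) (.leaf 0x0))) (.node (.node (.leaf 0x1ff) (.leaf 0x0)) (.node (.leaf 0x139) (.leaf 0x0)))) (.node (.node (.node (.leaf 0xcf) (.leaf 0x0)) (.node (.leaf 0x1ff) (.leaf 0x0))) (.node (.node (.leaf 0x13c) (.leaf 0x0)) (.node (.leaf 0x1ff) (.leaf 0x0))))) (.node (.node (.node (.node (.leaf 0x1ff) (.leaf 0x0)) (.node (.leaf 0x1ff) (.leaf 0x0))) (.node (.node (.leaf 0x1ff) (.leaf 0x0)) (.node (.leaf 0x1ff) (.leaf 0x0)))) (.node (.node (.node (.leaf 0x1ff) (.leaf 0x0)) (.node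 (.leaf 0x1ff) (.leaf 0x0))) (.node (.node (.leaf 0x1ff) (.leaf 0x0)) (.node (.leaf 0x11b) (.leaf 0x0))))))))) (.node (.node (.node (.node (.node (.node (.node (.node (.leaf 0x175) (.leaf 0x1ff)) (.node (.leaf 0x1ff) (.leaf 0x0))) (.node (.node (.leaf 0x1ff) (.leaf 0x0)) (.node (.leaf 0x142) (.leaf 0x0)))) (.node (.node (.node (.leaf 0x1ff) (.leaf 0x0)) (.node (.leaf 0x124) (.leaf 0x0))) (.node (.node (.leaf 0x1ff) (.leaf 0x0)) (.node (.leaf 0x6e) (.leaf 0x0))))) (.node (.node (.node (.node (.leaf 0x1ff) (.leaf 0x0)) (.node (.leaf 0xb1) (.leaf 0x0))) (.node (.node (.leaf 0x13) (.leaf 0x0)) (.node (.leaf 0x97) (.leaf 0x0)))) (.node (.node (.node (.leaf 0x1ff) (.leaf 0x0)) (.node (.leaf 0x1ff) (.leaf 0x0))) (.node (.node (.leaf 0x142) (.leaf 0x0)) (.node (.leaf 0x128) (.leaf 0x0)))))) (.node (.node (.node (.node (.node (.leaf 0x1ff) (.leaf 0x1ff)) (.node (.leaf 0x1ff) (.leaf 0x0))) (.node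 (.node (.leaf 0x1ff) (.leaf 0x0)) (.node (.leaf 0x1ff) (.leaf 0x0)))) (.node (.node (.node (.leaf 0x1ff) (.leaf 0x0)) (.node (.leaf 0x1ff) (.leaf 0x0))) (.node (.node (.leaf 0x32) (.leaf 0x0)) (.node (.leaf 0x1ff) (.leaf 0x0))))) (.node (.node (.node (.node (.leaf 0x1ff) (.leaf 0x0)) (.node (.leaf 0x1ff) (.leaf 0x0))) (.node (.node (.leaf 0xcf) (.leaf 0x0)) (.node (.leaf 0x124) (.leaf 0x0)))) (.node (.node (.node (.leaf 0x1ff) (.leaf 0x0)) (.node (.leaf 0x1ff) (.leaf 0x0))) (.node (.node (.leaf 0xa3) (.leaf 0x0)) (.node (.leaf 0x43) (.leaf 0x0))))))) (.node (.node (.node (.node (.node (.node (.leaf 0x7c) (.leaf 0x1ff)) (.node (.leaf 0xa9) (.leaf 0x0))) (.node (.node (.leaf 0xd) (.leaf 0x0)) (.node (.leaf 0x1ff) (.leaf 0x0)))) (.node (.node (.node (.leaf 0x101) (.leaf 0x0)) (.node (.leaf 0x1ff) (.leaf 0x0))) (.node (.node (.leaf 0x1ff) (.leaf 0x0)) (.node (.leaf 0x1ff) (.leaf 0x0)))))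 (.node (.node (.node (.node (.leaf 0x1ff) (.leaf 0x0)) (.node (.leaf 0xe8) (.leaf 0x0))) (.node (.node (.leaf 0x1ff) (.leaf 0x0)) (.node (.leaf 0x5b) (.leaf 0x0)))) (.node (.node (.node (.leaf 0x108) (.leaf 0x0)) (.node (.leaf 0x1ff) (.leaf 0x0))) (.node (.node (.leaf 0x1ff) (.leaf 0x0)) (.node (.leaf 0x1ff) (.leaf 0x0)))))) (.node (.node (.node (.node (.node (.leaf 0x15f) (.leaf 0x1ff)) (.node (.leaf 0x1ff) (.leaf 0x0))) (.node (.node (.leaf 0xd5) (.leaf 0x0)) (.node (.leaf 0x1ff) (.leaf 0x0)))) (.node (.node (.node (.leaf 0x1ff) (.leaf 0x0)) (.node (.leaf 0x1ff) (.leaf 0x0))) (.node (.node (.leaf 0x13b) (.leaf 0x0)) (.node (.leaf 0x1ff) (.leaf 0x0))))) (.node (.node (.node (.node (.leaf 0x1ff) (.leaf 0x0)) (.node (.leaf 0x1ff) (.leaf 0x0))) (.node (.node (.leaf 0x1ff) (.leaf 0x0)) (.node (.leaf 0xb7) (.leaf 0x0)))) (.node (.node (.node (.leaf 0xfc) (.leaf 0x0)) (.node (.leaf 0x26)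 (.leaf 0x0))) (.node (.node (.leaf 0x1ff) (.leaf 0x0)) (.node (.leaf 0x1ff) (.leaf 0x0)))))))) (.node (.node (.node (.node (.node (.node (.node (.leaf 0x1ff) (.leaf 0x1ff)) (.node (.leaf 0x114) (.leaf 0x0))) (.node (.node (.leaf 0x80) (.leaf 0x0)) (.node (.leaf 0x1ff) (.leaf 0x0)))) (.node (.node (.node (.leaf 0x1ff) (.leaf 0x0)) (.node (.leaf 0x127) (.leaf 0x0))) (.node (.node (.leaf 0x1ff) (.leaf 0x0)) (.node (.leaf 0x1ff) (.leaf 0x0))))) (.node (.node (.node (.node (.leaf 0x1ff) (.leaf 0x0)) (.node (.leaf 0x1ff) (.leaf 0x0))) (.node (.node (.leaf 0x85) (.leaf 0x0)) (.node (.leaf 0x1ff) (.leaf 0x0)))) (.node (.node (.node (.leaf 0x1d) (.leaf 0x0)) (.node (.leaf 0xfa) (.leaf 0x0))) (.node (.node (.leaf 0x1ff) (.leaf 0x0)) (.node (.leaf 0x1ff) (.leaf 0x0)))))) (.node (.node (.node (.node (.node (.leaf 0x1ff) (.leaf 0x51)) (.node (.leaf 0x119) (.leaf 0x0))) (.node (.node (.leaf 0x1ff)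 (.leaf 0x0)) (.node (.leaf 0x14f) (.leaf 0x0)))) (.node (.node (.node (.leaf 0x1ff) (.leaf 0x0)) (.node (.leaf 0x1ff) (.leaf 0x0))) (.node (.node (.leaf 0x9a) (.leaf 0x0)) (.node (.leaf 0x1ff) (.leaf 0x0))))) (.node (.node (.node (.node (.leaf 0x4) (.leaf 0x0)) (.node (.leaf 0x1ff) (.leaf 0x0))) (.node (.node (.leaf 0x145) (.leaf 0x0)) (.node (.leaf 0x60) (.leaf 0x0)))) (.node (.node (.node (.leaf 0x1ff) (.leaf 0x0)) (.node (.leaf 0x1ff) (.leaf 0x0))) (.node (.node (.leaf 0x1ff) (.leaf 0x0)) (.node (.leaf 0x111) (.leaf 0x0))))))) (.node (.node (.node (.node (.node (.node (.leaf 0x158) (.leaf 0x1ff)) (.node (.leaf 0x1ff) (.leaf 0x0))) (.node (.node (.leaf 0x1ff) (.leaf 0x0)) (.node (.leaf 0x1ff) (.leaf 0x0)))) (.node (.node (.node (.leaf 0x1ff) (.leaf 0x0)) (.node (.leaf 0x1ff) (.leaf 0x0))) (.node (.node (.leaf 0x14f) (.leaf 0x0)) (.node (.leaf 0x1ff) (.leaf 0x0))))) (.node (.node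 (.node (.node (.leaf 0x161) (.leaf 0x0)) (.node (.leaf 0x1ff) (.leaf 0x0))) (.node (.node (.leaf 0x1ff) (.leaf 0x0)) (.node (.leaf 0x1ff) (.leaf 0x0)))) (.node (.node (.node (.leaf 0x8d) (.leaf 0x0)) (.node (.leaf 0x1ff) (.leaf 0x0))) (.node (.node (.leaf 0x1ff) (.leaf 0x0)) (.node (.leaf 0x1ff) (.leaf 0x0)))))) (.node (.node (.node (.node (.node (.leaf 0x1ff) (.leaf 0x1ff)) (.node (.leaf 0x1ff) (.leaf 0x0))) (.node (.node (.leaf 0x1ff) (.leaf 0x0)) (.node (.leaf 0x1ff) (.leaf 0x0)))) (.node (.node (.node (.leaf 0x1ff) (.leaf 0x0)) (.node (.leaf 0x1ff) (.leaf 0x0))) (.node (.node (.leaf 0x1ff) (.leaf 0x0)) (.node (.leaf 0x1ff) (.leaf 0x0))))) (.node (.node (.node (.node (.leaf 0x1ff) (.leaf 0x0)) (.node (.leaf 0x61) (.leaf 0x0))) (.node (.node (.leaf 0x1ff) (.leaf 0x0)) (.node (.leaf 0x1ff) (.leaf 0x0)))) (.node (.node (.node (.leaf 0xb) (.leaf 0x0)) (.node (.leaf 0x1ff) (.leaf 0x0)))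 (.node (.node (.leaf 0x111) (.leaf 0x0)) (.node (.leaf 0x1ff) (.leaf 0x0)))))))))))) (.node (.node (.node (.node (.node (.node (.node (.node (.node (.node (.node (.leaf 0x0) (.leaf 0x1ff)) (.node (.leaf 0xdb) (.leaf 0x0))) (.node (.node (.leaf 0x1ff) (.leaf 0x0)) (.node (.leaf 0x1ff) (.leaf 0x0)))) (.node (.node (.node (.leaf 0x1ff) (.leaf 0x0)) (.node (.leaf 0x62) (.leaf 0x0))) (.node (.node (.leaf 0x1ff) (.leaf 0x0)) (.node (.leaf 0x1ff) (.leaf 0x0))))) (.node (.node (.node (.node (.leaf 0x6) (.leaf 0x1ff)) (.node (.leaf 0x1ff) (.leaf 0x0))) (.node (.node (.leaf 0x1ff) (.leaf 0x0)) (.node (.leaf 0x1ff) (.leaf 0x0)))) (.node (.node (.node (.leaf 0x1ff) (.leaf 0x0)) (.node (.leaf 0xc3) (.leaf 0x0))) (.node (.node (.leaf 0x37) (.leaf 0x0)) (.node (.leaf 0xbd) (.leaf 0x0)))))) (.node (.node (.node (.node (.node (.leaf 0x7c) (.leaf 0x1ff)) (.node (.leaf 0x1ff) (.leaf 0x0))) (.node (.node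 (.leaf 0x1ff) (.leaf 0x0)) (.node (.leaf 0x9c) (.leaf 0x0)))) (.node (.node (.node (.leaf 0x1ff) (.leaf 0x0)) (.node (.leaf 0x128) (.leaf 0x0))) (.node (.node (.leaf 0x1ff) (.leaf 0x0)) (.node (.leaf 0x71) (.leaf 0x0))))) (.node (.node (.node (.node (.leaf 0x1ff) (.leaf 0x0)) (.node (.leaf 0xb5) (.leaf 0x0))) (.node (.node (.leaf 0x1ff) (.leaf 0x0)) (.node (.leaf 0x1ff) (.leaf 0x0)))) (.node (.node (.node (.leaf 0x1ff) (.leaf 0x0)) (.node (.leaf 0x1ff) (.leaf 0x0))) (.node (.node (.leaf 0x152) (.leaf 0x0)) (.node (.leaf 0x1ff) (.leaf 0x0))))))) (.node (.node (.node (.node (.node (.node (.leaf 0x1ff) (.leaf 0x1ff)) (.node (.leaf 0x1ff) (.leaf 0x0))) (.node (.node (.leaf 0xc8) (.leaf 0x0)) (.node (.leaf 0x1ff) (.leaf 0x0)))) (.node (.node (.node (.leaf 0x1ff) (.leaf 0x0)) (.node (.leaf 0x1ff) (.leaf 0x0))) (.node (.node (.leaf 0x1ff) (.leaf 0x0)) (.node (.leaf 0x1ff) (.leaf 0x0)))))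 (.node (.node (.node (.node (.leaf 0x1ff) (.leaf 0x0)) (.node (.leaf 0x57) (.leaf 0x0))) (.node (.node (.leaf 0x1ff) (.leaf 0x0)) (.node (.leaf 0x98) (.leaf 0x0)))) (.node (.node (.node (.leaf 0x1ff) (.leaf 0x0)) (.node (.leaf 0x1ff) (.leaf 0x0))) (.node (.node (.leaf 0x1ff) (.leaf 0x0)) (.node (.leaf 0x1ff) (.leaf 0x0)))))) (.node (.node (.node (.node (.node (.leaf 0x1ff) (.leaf 0x1ff)) (.node (.leaf 0x1ff) (.leaf 0x0))) (.node (.node (.leaf 0x24) (.leaf 0x0)) (.node (.leaf 0x1ff) (.leaf 0x0)))) (.node (.node (.node (.leaf 0x105) (.leaf 0x0)) (.node (.leaf 0x1ff) (.leaf 0x0))) (.node (.node (.leaf 0x1ff) (.leaf 0x0)) (.node (.leaf 0x126) (.leaf 0x0))))) (.node (.node (.node (.node (.leaf 0x1ff) (.leaf 0x0)) (.node (.leaf 0x1ff) (.leaf 0x0))) (.node (.node (.leaf 0x133) (.leaf 0x0)) (.node (.leaf 0x5f) (.leaf 0x0)))) (.node (.node (.node (.leaf 0x1ff) (.leaf 0x0)) (.node (.leaf 0x1ff)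 (.leaf 0x0))) (.node (.node (.leaf 0x1ff) (.leaf 0x0)) (.node (.leaf 0x1ff) (.leaf 0x0)))))))) (.node (.node (.node (.node (.node (.node (.node (.leaf 0x16f) (.leaf 0x1ff)) (.node (.leaf 0x1ff) (.leaf 0x0))) (.node (.node (.leaf 0x1ff) (.leaf 0x0)) (.node (.leaf 0x1ff) (.leaf 0x0)))) (.node (.node (.node (.leaf 0x1ff) (.leaf 0x0)) (.node (.leaf 0xf0) (.leaf 0x0))) (.node (.node (.leaf 0x1ff) (.leaf 0x0)) (.node (.leaf 0x1ff) (.leaf 0x0))))) (.node (.node (.node (.node (.leaf 0x16c) (.leaf 0x0)) (.node (.leaf 0x1ff) (.leaf 0x0))) (.node (.node (.leaf 0x1ff) (.leaf 0x0)) (.node (.leaf 0x1ff) (.leaf 0x0)))) (.node (.node (.node (.leaf 0xd1) (.leaf 0x0)) (.node (.leaf 0x72) (.leaf 0x0))) (.node (.node (.leaf 0x1ff) (.leaf 0x0)) (.node (.leaf 0xf2) (.leaf 0x0)))))) (.node (.node (.node (.node (.node (.leaf 0x1ff) (.leaf 0xa8)) (.node (.leaf 0x1ff) (.leaf 0x0))) (.node (.node (.leaf 0x8a)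 (.leaf 0x0)) (.node (.leaf 0x1ff) (.leaf 0x0)))) (.node (.node (.node (.leaf 0x1ff) (.leaf 0x0)) (.node (.leaf 0x1ff) (.leaf 0x0))) (.node (.node (.leaf 0x1ff) (.leaf 0x0)) (.node (.leaf 0x1ff) (.leaf 0x0))))) (.node (.node (.node (.node (.leaf 0x16c) (.leaf 0x0)) (.node (.leaf 0x5b) (.leaf 0x0))) (.node (.node (.leaf 0x1ff) (.leaf 0x0)) (.node (.leaf 0xee) (.leaf 0x0)))) (.node (.node (.node (.leaf 0x22) (.leaf 0x0)) (.node (.leaf 0x1ff) (.leaf 0x0))) (.node (.node (.leaf 0x10f) (.leaf 0x0)) (.node (.leaf 0x45) (.leaf 0x0))))))) (.node (.node (.node (.node (.node (.node (.leaf 0x172) (.leaf 0x1ff)) (.node (.leaf 0x1ff) (.leaf 0x0))) (.node (.node (.leaf 0xf) (.leaf 0x0)) (.node (.leaf 0x1ff) (.leaf 0x0)))) (.node (.node (.node (.leaf 0xcb) (.leaf 0x0)) (.node (.leaf 0x1ff) (.leaf 0x0))) (.node (.node (.leaf 0x1ff) (.leaf 0x0)) (.node (.leaf 0x1ff) (.leaf 0x0))))) (.node (.node (.node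 (.node (.leaf 0x3) (.leaf 0x0)) (.node (.leaf 0x1ff) (.leaf 0x0))) (.node (.node (.leaf 0x1ff) (.leaf 0x0)) (.node (.leaf 0x5d) (.leaf 0x0)))) (.node (.node (.node (.leaf 0xd4) (.leaf 0x0)) (.node (.leaf 0x1ff) (.leaf 0x0))) (.node (.node (.leaf 0x1ff) (.leaf 0x0)) (.node (.leaf 0x1ff) (.leaf 0x0)))))) (.node (.node (.node (.node (.node (.leaf 0x1ff) (.leaf 0x1ff)) (.node (.leaf 0x1ff) (.leaf 0x0))) (.node (.node (.leaf 0x1ff) (.leaf 0x0)) (.node (.leaf 0x1ff) (.leaf 0x0)))) (.node (.node (.node (.leaf 0x1ff) (.leaf 0x0)) (.node (.leaf 0xf6) (.leaf 0x0))) (.node (.node (.leaf 0x1ff) (.leaf 0x0)) (.node (.leaf 0x6c) (.leaf 0x0))))) (.node (.node (.node (.node (.leaf 0x1ff) (.leaf 0x0)) (.node (.leaf 0x1ff) (.leaf 0x0))) (.node (.node (.leaf 0x1ff) (.leaf 0x0)) (.node (.leaf 0x123) (.leaf 0x0)))) (.node (.node (.node (.leaf 0x1ff) (.leaf 0x0)) (.node (.leaf 0x2b) (.leaf 0x0))) (.node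 (.node (.leaf 0x1ff) (.leaf 0x0)) (.node (.leaf 0x1ff) (.leaf 0x0))))))))) (.node (.node (.node (.node (.node (.node (.node (.node (.leaf 0x1ff) (.leaf 0x11e)) (.node (.leaf 0x1ff) (.leaf 0x0))) (.node (.node (.leaf 0x100) (.leaf 0x0)) (.node (.leaf 0x1ff) (.leaf 0x0)))) (.node (.node (.node (.leaf 0x1ff) (.leaf 0x0)) (.node (.leaf 0xb9) (.leaf 0x0))) (.node (.node (.leaf 0x2c) (.leaf 0x0)) (.node (.leaf 0x1ff) (.leaf 0x0))))) (.node (.node (.node (.node (.leaf 0x161) (.leaf 0xe1)) (.node (.leaf 0x55) (.leaf 0x0))) (.node (.node (.leaf 0x103) (.leaf 0x0)) (.node (.leaf 0x13a) (.leaf 0x0)))) (.node (.node (.node (.leaf 0x1ff) (.leaf 0x0)) (.node (.leaf 0x1ff) (.leaf 0x0))) (.node (.node (.leaf 0x1ff) (.leaf 0x0)) (.node (.leaf 0x69) (.leaf 0x0)))))) (.node (.node (.node (.node (.node (.leaf 0x7b) (.leaf 0x1ff)) (.node (.leaf 0x1ff) (.leaf 0x0))) (.node (.node (.leaf 0x1d) (.leaf 0x0))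 (.node (.leaf 0xa1) (.leaf 0x0)))) (.node (.node (.node (.leaf 0x1ff) (.leaf 0x0)) (.node (.leaf 0x1ff) (.leaf 0x0))) (.node (.node (.leaf 0x1ff) (.leaf 0x0)) (.node (.leaf 0xf0) (.leaf 0x0))))) (.node (.node (.node (.node (.leaf 0x1ff) (.leaf 0x0)) (.node (.leaf 0x1ff) (.leaf 0x0))) (.node (.node (.leaf 0x1ff) (.leaf 0x0)) (.node (.leaf 0x1ff) (.leaf 0x0)))) (.node (.node (.node (.leaf 0x10a) (.leaf 0x0)) (.node (.leaf 0x134) (.leaf 0x0))) (.node (.node (.leaf 0x1ff) (.leaf 0x0)) (.node (.leaf 0xdd) (.leaf 0x0))))))) (.node (.node (.node (.node (.node (.node (.leaf 0x177) (.leaf 0xe7)) (.node (.leaf 0x1ff) (.leaf 0x0))) (.node (.node (.leaf 0x1ff) (.leaf 0x0)) (.node (.leaf 0x1ff) (.leaf 0x0)))) (.node (.node (.node (.leaf 0x1ff) (.leaf 0x0)) (.node (.leaf 0xba) (.leaf 0x0))) (.node (.node (.leaf 0x1ff) (.leaf 0x0)) (.node (.leaf 0x1ff) (.leaf 0x0))))) (.node (.node (.node (.node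 (.leaf 0x1ff) (.leaf 0x0)) (.node (.leaf 0x1ff) (.leaf 0x0))) (.node (.node (.leaf 0x19) (.leaf 0x0)) (.node (.leaf 0x121) (.leaf 0x0)))) (.node (.node (.node (.leaf 0x1ff) (.leaf 0x0)) (.node (.leaf 0x1ff) (.leaf 0x0))) (.node (.node (.leaf 0x1ff) (.leaf 0x0)) (.node (.leaf 0x1ff) (.leaf 0x0)))))) (.node (.node (.node (.node (.node (.leaf 0x1ff) (.leaf 0x118)) (.node (.leaf 0x1ff) (.leaf 0x0))) (.node (.node (.leaf 0x1ff) (.leaf 0x0)) (.node (.leaf 0x1ff) (.leaf 0x0)))) (.node (.node (.node (.leaf 0x1ff) (.leaf 0x0)) (.node (.leaf 0x1ff) (.leaf 0x0))) (.node (.node (.leaf 0x1ff) (.leaf 0x0)) (.node (.leaf 0x12b) (.leaf 0x0))))) (.node (.node (.node (.node (.leaf 0x1ff) (.leaf 0x0)) (.node (.leaf 0x1ff) (.leaf 0x0))) (.node (.node (.leaf 0x134) (.leaf 0x0)) (.node (.leaf 0x1ff) (.leaf 0x0)))) (.node (.node (.node (.leaf 0x1ff) (.leaf 0x0)) (.node (.leaf 0x1ff) (.leaf 0x0))) (.node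 (.node (.leaf 0x1ff) (.leaf 0x0)) (.node (.leaf 0x1ff) (.leaf 0x0)))))))) (.node (.node (.node (.node (.node (.node (.node (.leaf 0x175) (.leaf 0x59)) (.node (.leaf 0x1ff) (.leaf 0x0))) (.node (.node (.leaf 0x11) (.leaf 0x0)) (.node (.leaf 0x1ff) (.leaf 0x0)))) (.node (.node (.node (.leaf 0x1ff) (.leaf 0x0)) (.node (.leaf 0x1ff) (.leaf 0x0))) (.node (.node (.leaf 0x1ff) (.leaf 0x0)) (.node (.leaf 0x1ff) (.leaf 0x0))))) (.node (.node (.node (.node (.leaf 0x1ff) (.leaf 0x0)) (.node (.leaf 0x11c) (.leaf 0x0))) (.node (.node (.leaf 0xcc) (.leaf 0x0)) (.node (.leaf 0x1ff) (.leaf 0x0)))) (.node (.node (.node (.leaf 0x1ff) (.leaf 0x0)) (.node (.leaf 0x1ff) (.leaf 0x0))) (.node (.node (.leaf 0x1ff) (.leaf 0x0)) (.node (.leaf 0xa3) (.leaf 0x0)))))) (.node (.node (.node (.node (.node (.leaf 0x1ff) (.leaf 0x1ff)) (.node (.leaf 0x4f) (.leaf 0x0))) (.node (.node (.leaf 0x1ff) (.leaf 0x0)) (.node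 (.leaf 0x1ff) (.leaf 0x0)))) (.node (.node (.node (.leaf 0x1ff) (.leaf 0x0)) (.node (.leaf 0xf4) (.leaf 0x0))) (.node (.node (.leaf 0x1ff) (.leaf 0x0)) (.node (.leaf 0x1ff) (.leaf 0x0))))) (.node (.node (.node (.node (.leaf 0x15f) (.leaf 0x0)) (.node (.leaf 0x1ff) (.leaf 0x0))) (.node (.node (.leaf 0x1ff) (.leaf 0x0)) (.node (.leaf 0x1ff) (.leaf 0x0)))) (.node (.node (.node (.leaf 0x8f) (.leaf 0x0)) (.node (.leaf 0x1ff) (.leaf 0x0))) (.node (.node (.leaf 0x1ff) (.leaf 0x0)) (.node (.leaf 0xa4) (.leaf 0x0))))))) (.node (.node (.node (.node (.node (.node (.leaf 0x1ff) (.leaf 0x1ff)) (.node (.leaf 0x1ff) (.leaf 0x0))) (.node (.node (.leaf 0xd2) (.leaf 0x0)) (.node (.leaf 0x3a) (.leaf 0x0)))) (.node (.node (.node (.leaf 0x1ff) (.leaf 0x0)) (.node (.leaf 0x1ff) (.leaf 0x0))) (.node (.node (.leaf 0x1ff) (.leaf 0x0)) (.node (.leaf 0xf9) (.leaf 0x0))))) (.node (.node (.node (.node (.leaf 0x1ff)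 (.leaf 0x0)) (.node (.leaf 0x1ff) (.leaf 0x0))) (.node (.node (.leaf 0x89) (.leaf 0x0)) (.node (.leaf 0x1ff) (.leaf 0x0)))) (.node (.node (.node (.leaf 0x20) (.leaf 0x0)) (.node (.leaf 0x145) (.leaf 0x0))) (.node (.node (.leaf 0x151) (.leaf 0x0)) (.node (.leaf 0x1ff) (.leaf 0x0)))))) (.node (.node (.node (.node (.node (.leaf 0x1ff) (.leaf 0x1ff)) (.node (.leaf 0x1ff) (.leaf 0x0))) (.node (.node (.leaf 0x1ff) (.leaf 0x0)) (.node (.leaf 0x1ff) (.leaf 0x0)))) (.node (.node (.node (.leaf 0x1ff) (.leaf 0x0)) (.node (.leaf 0x1ff) (.leaf 0x0))) (.node (.node (.leaf 0x1ff) (.leaf 0x0)) (.node (.leaf 0xbe) (.leaf 0x0))))) (.node (.node (.node (.node (.leaf 0x1ff) (.leaf 0x0)) (.node (.leaf 0x1ff) (.leaf 0x0))) (.node (.node (.leaf 0x1ff) (.leaf 0x0)) (.node (.leaf 0x6d) (.leaf 0x0)))) (.node (.node (.node (.leaf 0x1ff) (.leaf 0x0)) (.node (.leaf 0x1ff) (.leaf 0x0))) (.node (.node (.leaf 0x1ff)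 (.leaf 0x0)) (.node (.leaf 0x1ff) (.leaf 0x0)))))))))) (.node (.node (.node (.node (.node (.node (.node (.node (.node (.leaf 0x157) (.leaf 0x1ff)) (.node (.leaf 0x1ff) (.leaf 0x0))) (.node (.node (.leaf 0xcb) (.leaf 0x0)) (.node (.leaf 0x13e) (.leaf 0x0)))) (.node (.node (.node (.leaf 0x1ff) (.leaf 0x0)) (.node (.leaf 0x1ff) (.leaf 0x0))) (.node (.node (.leaf 0x1ff) (.leaf 0x0)) (.node (.leaf 0x1ff) (.leaf 0x0))))) (.node (.node (.node (.node (.leaf 0x1ff) (.leaf 0x4d)) (.node (.leaf 0x1ff) (.leaf 0x0))) (.node (.node (.leaf 0x1ff) (.leaf 0x0)) (.node (.leaf 0x1ff) (.leaf 0x0)))) (.node (.node (.node (.leaf 0x1ff) (.leaf 0x0)) (.node (.leaf 0x1ff) (.leaf 0x0))) (.node (.node (.leaf 0x140) (.leaf 0x0)) (.node (.leaf 0x1ff) (.leaf 0x0)))))) (.node (.node (.node (.node (.node (.leaf 0x1ff) (.leaf 0x1ff)) (.node (.leaf 0xe0) (.leaf 0x0))) (.node (.node (.leaf 0x108) (.leaf 0x0)) (.node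 (.leaf 0x1ff) (.leaf 0x0)))) (.node (.node (.node (.leaf 0x102) (.leaf 0x0)) (.node (.leaf 0x1ff) (.leaf 0x0))) (.node (.node (.leaf 0x31) (.leaf 0x0)) (.node (.leaf 0x1ff) (.leaf 0x0))))) (.node (.node (.node (.node (.leaf 0x1ff) (.leaf 0x0)) (.node (.leaf 0x1ff) (.leaf 0x0))) (.node (.node (.leaf 0x1ff) (.leaf 0x0)) (.node (.leaf 0x1ff) (.leaf 0x0)))) (.node (.node (.node (.leaf 0x21) (.leaf 0x0)) (.node (.leaf 0x93) (.leaf 0x0))) (.node (.node (.leaf 0x1ff) (.leaf 0x0)) (.node (.leaf 0x1ff) (.leaf 0x0))))))) (.node (.node (.node (.node (.node (.node (.leaf 0x7a) (.leaf 0x1ff)) (.node (.leaf 0x1ff) (.leaf 0x0))) (.node (.node (.leaf 0x1ff) (.leaf 0x0)) (.node (.leaf 0x1ff) (.leaf 0x0)))) (.node (.node (.node (.leaf 0x1ff) (.leaf 0x0)) (.node (.leaf 0x1ff) (.leaf 0x0))) (.node (.node (.leaf 0x1ff) (.leaf 0x0)) (.node (.leaf 0x1ff) (.leaf 0x0))))) (.node (.node (.node (.node (.leaf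 0x1ff) (.leaf 0x0)) (.node (.leaf 0x1ff) (.leaf 0x0))) (.node (.node (.leaf 0x106) (.leaf 0x0)) (.node (.leaf 0x1ff) (.leaf 0x0)))) (.node (.node (.node (.leaf 0x1ff) (.leaf 0x0)) (.node (.leaf 0xc5) (.leaf 0x0))) (.node (.node (.leaf 0x1ff) (.leaf 0x0)) (.node (.leaf 0x1ff) (.leaf 0x0)))))) (.node (.node (.node (.node (.node (.leaf 0x163) (.leaf 0x1ff)) (.node (.leaf 0x51) (.leaf 0x0))) (.node (.node (.leaf 0x1ff) (.leaf 0x0)) (.node (.leaf 0x1ff) (.leaf 0x0)))) (.node (.node (.node (.leaf 0x1ff) (.leaf 0x0)) (.node (.leaf 0x1ff) (.leaf 0x0))) (.node (.node (.leaf 0x139) (.leaf 0x0)) (.node (.leaf 0x6a) (.leaf 0x0))))) (.node (.node (.node (.node (.leaf 0x1ff) (.leaf 0x0)) (.node (.leaf 0xb7) (.leaf 0x0))) (.node (.node (.leaf 0x1ff) (.leaf 0x0)) (.node (.leaf 0x1ff) (.leaf 0x0)))) (.node (.node (.node (.leaf 0x10d) (.leaf 0x0)) (.node (.leaf 0x1ff) (.leaf 0x0))) (.node (.node (.leaf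 0x1ff) (.leaf 0x0)) (.node (.leaf 0x1ff) (.leaf 0x0)))))))) (.node (.node (.node (.node (.node (.node (.node (.leaf 0x1ff) (.leaf 0xb2)) (.node (.leaf 0x1ff) (.leaf 0x0))) (.node (.node (.leaf 0x1ff) (.leaf 0x0)) (.node (.leaf 0x1ff) (.leaf 0x0)))) (.node (.node (.node (.leaf 0xc8) (.leaf 0x0)) (.node (.leaf 0x1ff) (.leaf 0x0))) (.node (.node (.leaf 0x1ff) (.leaf 0x0)) (.node (.leaf 0xfb) (.leaf 0x0))))) (.node (.node (.node (.node (.leaf 0x1ff) (.leaf 0x0)) (.node (.leaf 0x56) (.leaf 0x0))) (.node (.node (.leaf 0x1ff) (.leaf 0x0)) (.node (.leaf 0x1ff) (.leaf 0x0)))) (.node (.node (.node (.leaf 0x1ff) (.leaf 0x0)) (.node (.leaf 0xf8) (.leaf 0x0))) (.node (.node (.leaf 0x1ff) (.leaf 0x0)) (.node (.leaf 0x68) (.leaf 0x0)))))) (.node (.node (.node (.node (.node (.leaf 0x1ff) (.leaf 0x1ff)) (.node (.leaf 0x1ff) (.leaf 0x0))) (.node (.node (.leaf 0x22) (.leaf 0x0)) (.node (.leaf 0x14b)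 (.leaf 0x0)))) (.node (.node (.node (.leaf 0x85) (.leaf 0x0)) (.node (.leaf 0x1ff) (.leaf 0x0))) (.node (.node (.leaf 0x98) (.leaf 0x0)) (.node (.leaf 0xba) (.leaf 0x0))))) (.node (.node (.node (.node (.leaf 0x8) (.leaf 0x0)) (.node (.leaf 0x1ff) (.leaf 0x0))) (.node (.node (.leaf 0x86) (.leaf 0x0)) (.node (.leaf 0x63) (.leaf 0x0)))) (.node (.node (.node (.leaf 0x1ff) (.leaf 0x0)) (.node (.leaf 0x1ff) (.leaf 0x0))) (.node (.node (.leaf 0x40) (.leaf 0x0)) (.node (.leaf 0x1ff) (.leaf 0x0))))))) (.node (.node (.node (.node (.node (.node (.leaf 0x179) (.leaf 0x11d)) (.node (.leaf 0x4b) (.leaf 0x0))) (.node (.node (.leaf 0x1ff) (.leaf 0x0)) (.node (.leaf 0x152) (.leaf 0x0)))) (.node (.node (.node (.leaf 0x11) (.leaf 0x0)) (.node (.leaf 0xf2) (.leaf 0x0))) (.node (.node (.leaf 0x14d) (.leaf 0x0)) (.node (.leaf 0x1ff) (.leaf 0x0))))) (.node (.node (.node (.node (.leaf 0x169) (.leaf 0x0))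 (.node (.leaf 0x1ff) (.leaf 0x0))) (.node (.node (.leaf 0x1a) (.leaf 0x0)) (.node (.leaf 0x1ff) (.leaf 0x0)))) (.node (.node (.node (.leaf 0x1ff) (.leaf 0x0)) (.node (.leaf 0x1ff) (.leaf 0x0))) (.node (.node (.leaf 0x1ff) (.leaf 0x0)) (.node (.leaf 0x1ff) (.leaf 0x0)))))) (.node (.node (.node (.node (.node (.leaf 0x1ff) (.leaf 0xaa)) (.node (.leaf 0x1ff) (.leaf 0x0))) (.node (.node (.leaf 0x1ff) (.leaf 0x0)) (.node (.leaf 0x1ff) (.leaf 0x0)))) (.node (.node (.node (.leaf 0xce) (.leaf 0x0)) (.node (.leaf 0x1ff) (.leaf 0x0))) (.node (.node (.leaf 0x1ff) (.leaf 0x0)) (.node (.leaf 0x1ff) (.leaf 0x0))))) (.node (.node (.node (.node (.leaf 0x7f) (.leaf 0x0)) (.node (.leaf 0x1ff) (.leaf 0x0))) (.node (.node (.leaf 0x1ff) (.leaf 0x0)) (.node (.leaf 0xec) (.leaf 0x0)))) (.node (.node (.node (.leaf 0x1ff) (.leaf 0x0)) (.node (.leaf 0x1ff) (.leaf 0x0))) (.node (.node (.leaf 0x1ff) (.leaf 0x0))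 (.node (.leaf 0x1ff) (.leaf 0x0))))))))) (.node (.node (.node (.node (.node (.node (.node (.node (.leaf 0x174) (.leaf 0x5a)) (.node (.leaf 0xa7) (.leaf 0x0))) (.node (.node (.leaf 0x1ff) (.leaf 0x0)) (.node (.leaf 0x143) (.leaf 0x0)))) (.node (.node (.node (.leaf 0x1ff) (.leaf 0x0)) (.node (.leaf 0x1ff) (.leaf 0x0))) (.node (.node (.leaf 0x1ff) (.leaf 0x0)) (.node (.leaf 0xf6) (.leaf 0x0))))) (.node (.node (.node (.node (.leaf 0x1ff) (.leaf 0x0)) (.node (.leaf 0xb0) (.leaf 0x0))) (.node (.node (.leaf 0x1ff) (.leaf 0x0)) (.node (.leaf 0x1ff) (.leaf 0x0)))) (.node (.node (.node (.leaf 0x1ff) (.leaf 0x0)) (.node (.leaf 0x1ff) (.leaf 0x0))) (.node (.node (.leaf 0x1ff) (.leaf 0x0)) (.node (.leaf 0x129) (.leaf 0x0)))))) (.node (.node (.node (.node (.node (.leaf 0x170) (.leaf 0x1ff)) (.node (.leaf 0x4e) (.leaf 0x0))) (.node (.node (.leaf 0x1ff) (.leaf 0x0)) (.node (.leaf 0x1ff) (.leaf 0x0))))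 (.node (.node (.node (.leaf 0x14) (.leaf 0x0)) (.node (.leaf 0x1ff) (.leaf 0x0))) (.node (.node (.leaf 0x97) (.leaf 0x0)) (.node (.leaf 0x64) (.leaf 0x0))))) (.node (.node (.node (.node (.leaf 0x1ff) (.leaf 0x0)) (.node (.leaf 0x1ff) (.leaf 0x0))) (.node (.node (.leaf 0x1ff) (.leaf 0x0)) (.node (.leaf 0x125) (.leaf 0x0)))) (.node (.node (.node (.leaf 0xd7) (.leaf 0x0)) (.node (.leaf 0x1ff) (.leaf 0x0))) (.node (.node (.leaf 0xa2) (.leaf 0x0)) (.node (.leaf 0x112) (.leaf 0x0))))))) (.node (.node (.node (.node (.node (.node (.leaf 0x1ff) (.leaf 0x1ff)) (.node (.leaf 0xa8) (.leaf 0x0))) (.node (.node (.leaf 0x1ff) (.leaf 0x0)) (.node (.leaf 0x3f) (.leaf 0x0)))) (.node (.node (.node (.leaf 0x100) (.leaf 0x0)) (.node (.leaf 0x1ff) (.leaf 0x0))) (.node (.node (.leaf 0x2e) (.leaf 0x0)) (.node (.leaf 0x1ff) (.leaf 0x0))))) (.node (.node (.node (.node (.leaf 0x162) (.leaf 0x0)) (.node (.leaf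 0x1ff) (.leaf 0x0))) (.node (.node (.leaf 0x1ff) (.leaf 0x0)) (.node (.leaf 0xea) (.leaf 0x0)))) (.node (.node (.node (.leaf 0x1ff) (.leaf 0x0)) (.node (.leaf 0x1ff) (.leaf 0x0))) (.node (.node (.leaf 0xa1) (.leaf 0x0)) (.node (.leaf 0x42) (.leaf 0x0)))))) (.node (.node (.node (.node (.node (.leaf 0x15e) (.leaf 0x50)) (.node (.leaf 0xad) (.leaf 0x0))) (.node (.node (.leaf 0x1ff) (.leaf 0x0)) (.node (.leaf 0x1ff) (.leaf 0x0)))) (.node (.node (.node (.leaf 0x1ff) (.leaf 0x0)) (.node (.leaf 0x6e) (.leaf 0x0))) (.node (.node (.leaf 0x13a) (.leaf 0x0)) (.node (.leaf 0xf4) (.leaf 0x0))))) (.node (.node (.node (.node (.leaf 0x1ff) (.leaf 0x0)) (.node (.leaf 0x1ff) (.leaf 0x0))) (.node (.node (.leaf 0x95) (.leaf 0x0)) (.node (.leaf 0x1ff) (.leaf 0x0)))) (.node (.node (.node (.leaf 0xfd) (.leaf 0x0)) (.node (.leaf 0x1ff) (.leaf 0x0))) (.node (.node (.leaf 0x45) (.leaf 0x0)) (.node (.leaf 0x1ff)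 (.leaf 0x0)))))))) (.node (.node (.node (.node (.node (.node (.node (.leaf 0x79) (.leaf 0x1ff)) (.node (.leaf 0x1ff) (.leaf 0x0))) (.node (.node (.leaf 0x81) (.leaf 0x0)) (.node (.leaf 0x1ff) (.leaf 0x0)))) (.node (.node (.node (.leaf 0xf) (.leaf 0x0)) (.node (.leaf 0x126) (.leaf 0x0))) (.node (.node (.leaf 0x1ff) (.leaf 0x0)) (.node (.leaf 0x75) (.leaf 0x0))))) (.node (.node (.node (.node (.leaf 0x1ff) (.leaf 0x0)) (.node (.leaf 0xe7) (.leaf 0x0))) (.node (.node (.leaf 0x1ff) (.leaf 0x0)) (.node (.leaf 0x1ff) (.leaf 0x0)))) (.node (.node (.node (.leaf 0x1ff) (.leaf 0x0)) (.node (.leaf 0x1ff) (.leaf 0x0))) (.node (.node (.leaf 0x1ff) (.leaf 0x0)) (.node (.leaf 0xd8) (.leaf 0x0)))))) (.node (.node (.node (.node (.node (.leaf 0x2) (.leaf 0xe2)) (.node (.leaf 0x118) (.leaf 0x0))) (.node (.node (.leaf 0x1ff) (.leaf 0x0)) (.node (.leaf 0x1ff) (.leaf 0x0)))) (.node (.node (.node (.leaf 0x1ff)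 (.leaf 0x0)) (.node (.leaf 0x1ff) (.leaf 0x0))) (.node (.node (.leaf 0x1ff) (.leaf 0x0)) (.node (.leaf 0x1ff) (.leaf 0x0))))) (.node (.node (.node (.node (.leaf 0x1ff) (.leaf 0x0)) (.node (.leaf 0x5f) (.leaf 0x0))) (.node (.node (.leaf 0x144) (.leaf 0x0)) (.node (.leaf 0x1ff) (.leaf 0x0)))) (.node (.node (.node (.leaf 0x1ff) (.leaf 0x0)) (.node (.leaf 0x1ff) (.leaf 0x0))) (.node (.node (.leaf 0x1ff) (.leaf 0x0)) (.node (.leaf 0x1ff) (.leaf 0x0))))))) (.node (.node (.node (.node (.node (.node (.leaf 0x159) (.leaf 0x1ff)) (.node (.leaf 0x1ff) (.leaf 0x0))) (.node (.node (.leaf 0x1ff) (.leaf 0x0)) (.node (.leaf 0x1ff) (.leaf 0x0)))) (.node (.node (.node (.leaf 0x1ff) (.leaf 0x0)) (.node (.leaf 0x1ff) (.leaf 0x0))) (.node (.node (.leaf 0x14e) (.leaf 0x0)) (.node (.leaf 0x1ff) (.leaf 0x0))))) (.node (.node (.node (.node (.leaf 0x1ff) (.leaf 0x0)) (.node (.leaf 0x1ff) (.leaf 0x0))) (.node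 (.node (.leaf 0x1ff) (.leaf 0x0)) (.node (.leaf 0x1ff) (.leaf 0x0)))) (.node (.node (.node (.leaf 0x8c) (.leaf 0x0)) (.node (.leaf 0x94) (.leaf 0x0))) (.node (.node (.leaf 0x3e) (.leaf 0x0)) (.node (.leaf 0x1ff) (.leaf 0x0)))))) (.node (.node (.node (.node (.node (.leaf 0x1ff) (.leaf 0x1ff)) (.node (.leaf 0x1ff) (.leaf 0x0))) (.node (.node (.leaf 0x1ff) (.leaf 0x0)) (.node (.leaf 0x1ff) (.leaf 0x0)))) (.node (.node (.node (.leaf 0x19) (.leaf 0x0)) (.node (.leaf 0x1ff) (.leaf 0x0))) (.node (.node (.leaf 0x13f) (.leaf 0x0)) (.node (.leaf 0x67) (.leaf 0x0))))) (.node (.node (.node (.node (.leaf 0x1ff) (.leaf 0x0)) (.node (.leaf 0x1ff) (.leaf 0x0))) (.node (.node (.leaf 0x28) (.leaf 0x0)) (.node (.leaf 0x1ff) (.leaf 0x0)))) (.node (.node (.node (.leaf 0x1ff) (.leaf 0x0)) (.node (.leaf 0x2a) (.leaf 0x0))) (.node (.node (.leaf 0x110) (.leaf 0x0)) (.node (.leaf 0x1ff) (.leaf 0x0)))))))))))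 (.node (.node (.node (.node (.node (.node (.node (.node (.node (.node (.leaf 0x1ff) (.leaf 0xae)) (.node (.leaf 0x1ff) (.leaf 0x0))) (.node (.node (.leaf 0x82) (.leaf 0x0)) (.node (.leaf 0x1ff) (.leaf 0x0)))) (.node (.node (.node (.leaf 0x1ff) (.leaf 0x0)) (.node (.leaf 0x1ff) (.leaf 0x0))) (.node (.node (.leaf 0x2a) (.leaf 0x0)) (.node (.leaf 0x1ff) (.leaf 0x0))))) (.node (.node (.node (.node (.leaf 0x1ff) (.leaf 0x1ff)) (.node (.leaf 0x54) (.leaf 0x0))) (.node (.node (.leaf 0x1ff) (.leaf 0x0)) (.node (.leaf 0x1ff) (.leaf 0x0)))) (.node (.node (.node (.leaf 0x1a) (.leaf 0x0)) (.node (.leaf 0x1ff) (.leaf 0x0))) (.node (.node (.leaf 0x1ff) (.leaf 0x0)) (.node (.leaf 0x1ff) (.leaf 0x0)))))) (.node (.node (.node (.node (.node (.leaf 0x179) (.leaf 0x1ff)) (.node (.leaf 0x1ff) (.leaf 0x0))) (.node (.node (.leaf 0x1ff) (.leaf 0x0)) (.node (.leaf 0x1ff) (.leaf 0x0)))) (.node (.node (.node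 (.leaf 0x1ff) (.leaf 0x0)) (.node (.leaf 0x69) (.leaf 0x0))) (.node (.node (.leaf 0x1ff) (.leaf 0x0)) (.node (.leaf 0x1ff) (.leaf 0x0))))) (.node (.node (.node (.node (.leaf 0x7) (.leaf 0x0)) (.node (.leaf 0xea) (.leaf 0x0))) (.node (.node (.leaf 0x1ff) (.leaf 0x0)) (.node (.leaf 0x1ff) (.leaf 0x0)))) (.node (.node (.node (.leaf 0x1ff) (.leaf 0x0)) (.node (.leaf 0x148) (.leaf 0x0))) (.node (.node (.leaf 0x1ff) (.leaf 0x0)) (.node (.leaf 0x1ff) (.leaf 0x0))))))) (.node (.node (.node (.node (.node (.node (.leaf 0x15b) (.leaf 0x1ff)) (.node (.leaf 0x1ff) (.leaf 0x0))) (.node (.node (.leaf 0xff) (.leaf 0x0)) (.node (.leaf 0x150) (.leaf 0x0)))) (.node (.node (.node (.leaf 0x1ff) (.leaf 0x0)) (.node (.leaf 0x1ff) (.leaf 0x0))) (.node (.node (.leaf 0x1ff) (.leaf 0x0)) (.node (.leaf 0x74) (.leaf 0x0))))) (.node (.node (.node (.node (.leaf 0x15d) (.leaf 0x0)) (.node (.leaf 0x1ff) (.leaf 0x0)))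 (.node (.node (.leaf 0x1ff) (.leaf 0x0)) (.node (.leaf 0x1ff) (.leaf 0x0)))) (.node (.node (.node (.leaf 0x8b) (.leaf 0x0)) (.node (.leaf 0x1ff) (.leaf 0x0))) (.node (.node (.leaf 0x9e) (.leaf 0x0)) (.node (.leaf 0x1ff) (.leaf 0x0)))))) (.node (.node (.node (.node (.node (.leaf 0x1ff) (.leaf 0xac)) (.node (.leaf 0x1ff) (.leaf 0x0))) (.node (.node (.leaf 0x1ff) (.leaf 0x0)) (.node (.leaf 0x30) (.leaf 0x0)))) (.node (.node (.node (.leaf 0x1ff) (.leaf 0x0)) (.node (.leaf 0x12d) (.leaf 0x0))) (.node (.node (.leaf 0x1ff) (.leaf 0x0)) (.node (.leaf 0x1ff) (.leaf 0x0))))) (.node (.node (.node (.node (.leaf 0x164) (.leaf 0x0)) (.node (.leaf 0x1ff) (.leaf 0x0))) (.node (.node (.leaf 0x92) (.leaf 0x0)) (.node (.leaf 0x1ff) (.leaf 0x0)))) (.node (.node (.node (.leaf 0x1ff) (.leaf 0x0)) (.node (.leaf 0x1ff) (.leaf 0x0))) (.node (.node (.leaf 0x1ff) (.leaf 0x0)) (.node (.leaf 0x1ff) (.leaf 0x0))))))))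 (.node (.node (.node (.node (.node (.node (.node (.leaf 0x77) (.leaf 0x1ff)) (.node (.leaf 0xdd) (.leaf 0x0))) (.node (.node (.leaf 0x10) (.leaf 0x0)) (.node (.leaf 0x1ff) (.leaf 0x0)))) (.node (.node (.node (.leaf 0xff) (.leaf 0x0)) (.node (.leaf 0x64) (.leaf 0x0))) (.node (.node (.leaf 0x1ff) (.leaf 0x0)) (.node (.leaf 0x1ff) (.leaf 0x0))))) (.node (.node (.node (.node (.leaf 0x8) (.leaf 0x0)) (.node (.leaf 0x1ff) (.leaf 0x0))) (.node (.node (.leaf 0x1ff) (.leaf 0x0)) (.node (.leaf 0x33) (.leaf 0x0)))) (.node (.node (.node (.leaf 0x1ff) (.leaf 0x0)) (.node (.leaf 0x1ff) (.leaf 0x0))) (.node (.node (.leaf 0x39) (.leaf 0x0)) (.node (.leaf 0x1ff) (.leaf 0x0)))))) (.node (.node (.node (.node (.node (.leaf 0x15d) (.leaf 0x1ff)) (.node (.leaf 0x1ff) (.leaf 0x0))) (.node (.node (.leaf 0xd7) (.leaf 0x0)) (.node (.leaf 0x9e) (.leaf 0x0)))) (.node (.node (.node (.leaf 0x1ff) (.leaf 0x0)) (.node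 (.leaf 0x1ff) (.leaf 0x0))) (.node (.node (.leaf 0x1ff) (.leaf 0x0)) (.node (.leaf 0x1ff) (.leaf 0x0))))) (.node (.node (.node (.node (.leaf 0x1ff) (.leaf 0x0)) (.node (.leaf 0x1ff) (.leaf 0x0))) (.node (.node (.leaf 0x1ff) (.leaf 0x0)) (.node (.leaf 0x1ff) (.leaf 0x0)))) (.node (.node (.node (.leaf 0x1ff) (.leaf 0x0)) (.node (.leaf 0x1ff) (.leaf 0x0))) (.node (.node (.leaf 0xd8) (.leaf 0x0)) (.node (.leaf 0x1ff) (.leaf 0x0))))))) (.node (.node (.node (.node (.node (.node (.leaf 0x1ff) (.leaf 0x1ff)) (.node (.leaf 0xde) (.leaf 0x0))) (.node (.node (.leaf 0x1ff) (.leaf 0x0)) (.node (.leaf 0x1ff) (.leaf 0x0)))) (.node (.node (.node (.leaf 0x1ff) (.leaf 0x0)) (.node (.leaf 0xbd) (.leaf 0x0))) (.node (.node (.leaf 0x1ff) (.leaf 0x0)) (.node (.leaf 0xc3) (.leaf 0x0))))) (.node (.node (.node (.node (.leaf 0x1ff) (.leaf 0x0)) (.node (.leaf 0x59) (.leaf 0x0))) (.node (.node (.leaf 0xd1) (.leaf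 0x0)) (.node (.leaf 0x1ff) (.leaf 0x0)))) (.node (.node (.node (.leaf 0x1ff) (.leaf 0x0)) (.node (.leaf 0x91) (.leaf 0x0))) (.node (.node (.leaf 0x1ff) (.leaf 0x0)) (.node (.leaf 0x1ff) (.leaf 0x0)))))) (.node (.node (.node (.node (.node (.leaf 0x1ff) (.leaf 0x1ff)) (.node (.leaf 0x1ff) (.leaf 0x0))) (.node (.node (.leaf 0x1ff) (.leaf 0x0)) (.node (.leaf 0x1ff) (.leaf 0x0)))) (.node (.node (.node (.leaf 0x1ff) (.leaf 0x0)) (.node (.leaf 0x6f) (.leaf 0x0))) (.node (.node (.leaf 0x1ff) (.leaf 0x0)) (.node (.leaf 0x1ff) (.leaf 0x0))))) (.node (.node (.node (.node (.leaf 0x1ff) (.leaf 0x0)) (.node (.leaf 0x1ff) (.leaf 0x0))) (.node (.node (.leaf 0x137) (.leaf 0x0)) (.node (.leaf 0x1ff) (.leaf 0x0)))) (.node (.node (.node (.leaf 0x1ff) (.leaf 0x0)) (.node (.leaf 0x1ff) (.leaf 0x0))) (.node (.node (.leaf 0x1ff) (.leaf 0x0)) (.node (.leaf 0x1ff) (.leaf 0x0))))))))) (.node (.node (.node (.node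 (.node (.node (.node (.node (.leaf 0x77) (.leaf 0x1ff)) (.node (.leaf 0x1ff) (.leaf 0x0))) (.node (.node (.leaf 0x1ff) (.leaf 0x0)) (.node (.leaf 0x1ff) (.leaf 0x0)))) (.node (.node (.node (.leaf 0x1ff) (.leaf 0x0)) (.node (.leaf 0xee) (.leaf 0x0))) (.node (.node (.leaf 0x1ff) (.leaf 0x0)) (.node (.leaf 0x1ff) (.leaf 0x0))))) (.node (.node (.node (.node (.leaf 0x1ff) (.leaf 0x0)) (.node (.leaf 0x1ff) (.leaf 0x0))) (.node (.node (.leaf 0x1ff) (.leaf 0x0)) (.node (.leaf 0x1ff) (.leaf 0x0)))) (.node (.node (.node (.leaf 0x89) (.leaf 0x0)) (.node (.leaf 0x71) (.leaf 0x0))) (.node (.node (.leaf 0x1ff) (.leaf 0x0)) (.node (.leaf 0x1ff) (.leaf 0x0)))))) (.node (.node (.node (.node (.node (.leaf 0x1ff) (.leaf 0xde)) (.node (.leaf 0x116) (.leaf 0x0))) (.node (.node (.leaf 0x1ff) (.leaf 0x0)) (.node (.leaf 0x3b) (.leaf 0x0)))) (.node (.node (.node (.leaf 0x1ff) (.leaf 0x0)) (.node (.leaf 0x12b)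 (.leaf 0x0))) (.node (.node (.leaf 0x1ff) (.leaf 0x0)) (.node (.leaf 0x1ff) (.leaf 0x0))))) (.node (.node (.node (.node (.leaf 0x1ff) (.leaf 0x0)) (.node (.leaf 0x1ff) (.leaf 0x0))) (.node (.node (.leaf 0x1ff) (.leaf 0x0)) (.node (.leaf 0xb8) (.leaf 0x0)))) (.node (.node (.node (.leaf 0x1ff) (.leaf 0x0)) (.node (.leaf 0x147) (.leaf 0x0))) (.node (.node (.leaf 0x155) (.leaf 0x0)) (.node (.leaf 0x1ff) (.leaf 0x0))))))) (.node (.node (.node (.node (.node (.node (.leaf 0x170) (.leaf 0x57)) (.node (.leaf 0x1ff) (.leaf 0x0))) (.node (.node (.leaf 0x1ff) (.leaf 0x0)) (.node (.leaf 0x155) (.leaf 0x0)))) (.node (.node (.node (.leaf 0x83) (.leaf 0x0)) (.node (.leaf 0x67) (.leaf 0x0))) (.node (.node (.leaf 0x14a) (.leaf 0x0)) (.node (.leaf 0xc4) (.leaf 0x0))))) (.node (.node (.node (.node (.leaf 0x1ff) (.leaf 0x0)) (.node (.leaf 0x11e) (.leaf 0x0))) (.node (.node (.leaf 0x1ff) (.leaf 0x0)) (.node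 (.leaf 0x1ff) (.leaf 0x0)))) (.node (.node (.node (.leaf 0x1ff) (.leaf 0x0)) (.node (.leaf 0x131) (.leaf 0x0))) (.node (.node (.leaf 0x1ff) (.leaf 0x0)) (.node (.leaf 0x1ff) (.leaf 0x0)))))) (.node (.node (.node (.node (.node (.leaf 0x1ff) (.leaf 0x1ff)) (.node (.leaf 0x1ff) (.leaf 0x0))) (.node (.node (.leaf 0x8f) (.leaf 0x0)) (.node (.leaf 0x1ff) (.leaf 0x0)))) (.node (.node (.node (.leaf 0x1ff) (.leaf 0x0)) (.node (.leaf 0x1ff) (.leaf 0x0))) (.node (.node (.leaf 0x1ff) (.leaf 0x0)) (.node (.leaf 0x1ff) (.leaf 0x0))))) (.node (.node (.node (.node (.leaf 0x16b) (.leaf 0x0)) (.node (.leaf 0x123) (.leaf 0x0))) (.node (.node (.leaf 0x1ff) (.leaf 0x0)) (.node (.leaf 0x1ff) (.leaf 0x0)))) (.node (.node (.node (.leaf 0xc6) (.leaf 0x0)) (.node (.leaf 0x27) (.leaf 0x0))) (.node (.node (.leaf 0x1ff) (.leaf 0x0)) (.node (.leaf 0xe4) (.leaf 0x0)))))))) (.node (.node (.node (.node (.node (.node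 (.node (.leaf 0x1ff) (.leaf 0x1ff)) (.node (.leaf 0x1ff) (.leaf 0x0))) (.node (.node (.leaf 0x1ff) (.leaf 0x0)) (.node (.leaf 0x1ff) (.leaf 0x0)))) (.node (.node (.node (.leaf 0x1ff) (.leaf 0x0)) (.node (.leaf 0x1ff) (.leaf 0x0))) (.node (.node (.leaf 0x1ff) (.leaf 0x0)) (.node (.leaf 0x131) (.leaf 0x0))))) (.node (.node (.node (.node (.leaf 0x167) (.leaf 0x0)) (.node (.leaf 0x1ff) (.leaf 0x0))) (.node (.node (.leaf 0x1ff) (.leaf 0x0)) (.node (.leaf 0x1ff) (.leaf 0x0)))) (.node (.node (.node (.leaf 0x1c) (.leaf 0x0)) (.node (.leaf 0x1ff) (.leaf 0x0))) (.node (.node (.leaf 0x9d) (.leaf 0x0)) (.node (.leaf 0x1ff) (.leaf 0x0)))))) (.node (.node (.node (.node (.node (.leaf 0x168) (.leaf 0x1ff)) (.node (.leaf 0x1ff) (.leaf 0x0))) (.node (.node (.leaf 0x1ff) (.leaf 0x0)) (.node (.leaf 0x1ff) (.leaf 0x0)))) (.node (.node (.node (.leaf 0xcd) (.leaf 0x0)) (.node (.leaf 0x6c) (.leaf 0x0))) (.node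 (.node (.leaf 0x1ff) (.leaf 0x0)) (.node (.leaf 0x1ff) (.leaf 0x0))))) (.node (.node (.node (.node (.leaf 0x1ff) (.leaf 0x0)) (.node (.leaf 0x1ff) (.leaf 0x0))) (.node (.node (.leaf 0x91) (.leaf 0x0)) (.node (.leaf 0x5e) (.leaf 0x0)))) (.node (.node (.node (.leaf 0x1ff) (.leaf 0x0)) (.node (.leaf 0x1ff) (.leaf 0x0))) (.node (.node (.leaf 0x42) (.leaf 0x0)) (.node (.leaf 0xdb) (.leaf 0x0))))))) (.node (.node (.node (.node (.node (.node (.leaf 0x15a) (.leaf 0x115)) (.node (.leaf 0x1ff) (.leaf 0x0))) (.node (.node (.leaf 0x1ff) (.leaf 0x0)) (.node (.leaf 0x1ff) (.leaf 0x0)))) (.node (.node (.node (.leaf 0x1ff) (.leaf 0x0)) (.node (.leaf 0x1ff) (.leaf 0x0))) (.node (.node (.leaf 0x1ff) (.leaf 0x0)) (.node (.leaf 0x72) (.leaf 0x0))))) (.node (.node (.node (.node (.leaf 0x1ff) (.leaf 0x0)) (.node (.leaf 0xb3) (.leaf 0x0))) (.node (.node (.leaf 0x1ff) (.leaf 0x0)) (.node (.leaf 0x1ff) (.leaf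 0x0)))) (.node (.node (.node (.leaf 0x1ff) (.leaf 0x0)) (.node (.leaf 0x1ff) (.leaf 0x0))) (.node (.node (.leaf 0x1ff) (.leaf 0x0)) (.node (.leaf 0x1ff) (.leaf 0x0)))))) (.node (.node (.node (.node (.node (.leaf 0x1ff) (.leaf 0x116)) (.node (.leaf 0xae) (.leaf 0x0))) (.node (.node (.leaf 0x10a) (.leaf 0x0)) (.node (.leaf 0x36) (.leaf 0x0)))) (.node (.node (.node (.leaf 0x106) (.leaf 0x0)) (.node (.leaf 0x1ff) (.leaf 0x0))) (.node (.node (.leaf 0x1ff) (.leaf 0x0)) (.node (.leaf 0x1ff) (.leaf 0x0))))) (.node (.node (.node (.node (.leaf 0xc7) (.leaf 0x0)) (.node (.leaf 0x1ff) (.leaf 0x0))) (.node (.node (.leaf 0x1ff) (.leaf 0x0)) (.node (.leaf 0x1ff) (.leaf 0x0)))) (.node (.node (.node (.leaf 0xc) (.leaf 0x0)) (.node (.leaf 0x1ff) (.leaf 0x0))) (.node (.node (.leaf 0xa5) (.leaf 0x0)) (.node (.leaf 0x53) (.leaf 0x0)))))))))) (.node (.node (.node (.node (.node (.node (.node (.node (.node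 (.leaf 0x157) (.leaf 0x1ff)) (.node (.leaf 0x1ff) (.leaf 0x0))) (.node (.node (.leaf 0x1ff) (.leaf 0x0)) (.node (.leaf 0x1ff) (.leaf 0x0)))) (.node (.node (.node (.leaf 0x1ff) (.leaf 0x0)) (.node (.leaf 0x1ff) (.leaf 0x0))) (.node (.node (.leaf 0x1ff) (.leaf 0x0)) (.node (.leaf 0xc0) (.leaf 0x0))))) (.node (.node (.node (.node (.leaf 0x1ff) (.leaf 0x1ff)) (.node (.leaf 0x11a) (.leaf 0x0))) (.node (.node (.leaf 0x8c) (.leaf 0x0)) (.node (.leaf 0x1ff) (.leaf 0x0)))) (.node (.node (.node (.leaf 0x1ff) (.leaf 0x0)) (.node (.leaf 0x12f) (.leaf 0x0))) (.node (.node (.leaf 0x1ff) (.leaf 0x0)) (.node (.leaf 0x1ff) (.leaf 0x0)))))) (.node (.node (.node (.node (.node (.leaf 0x172) (.leaf 0x1ff)) (.node (.leaf 0x4d) (.leaf 0x0))) (.node (.node (.leaf 0x1ff) (.leaf 0x0)) (.node (.leaf 0x1ff) (.leaf 0x0)))) (.node (.node (.node (.leaf 0x13) (.leaf 0x0)) (.node (.leaf 0x1ff) (.leaf 0x0))) (.node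 (.node (.leaf 0x1ff) (.leaf 0x0)) (.node (.leaf 0x1ff) (.leaf 0x0))))) (.node (.node (.node (.node (.leaf 0x167) (.leaf 0x0)) (.node (.leaf 0x121) (.leaf 0x0))) (.node (.node (.leaf 0x1ff) (.leaf 0x0)) (.node (.leaf 0x1ff) (.leaf 0x0)))) (.node (.node (.node (.leaf 0x1ff) (.leaf 0x0)) (.node (.leaf 0x1ff) (.leaf 0x0))) (.node (.node (.leaf 0x1ff) (.leaf 0x0)) (.node (.leaf 0xa6) (.leaf 0x0))))))) (.node (.node (.node (.node (.node (.node (.leaf 0x1ff) (.leaf 0xb0)) (.node (.leaf 0x1ff) (.leaf 0x0))) (.node (.node (.leaf 0x1ff) (.leaf 0x0)) (.node (.leaf 0x1ff) (.leaf 0x0)))) (.node (.node (.node (.leaf 0x1ff) (.leaf 0x0)) (.node (.leaf 0x1ff) (.leaf 0x0))) (.node (.node (.leaf 0x1ff) (.leaf 0x0)) (.node (.leaf 0x1ff) (.leaf 0x0))))) (.node (.node (.node (.node (.leaf 0x1ff) (.leaf 0x0)) (.node (.leaf 0x58) (.leaf 0x0))) (.node (.node (.leaf 0x1ff) (.leaf 0x0)) (.node (.leaf 0xb4) (.leaf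 0x0)))) (.node (.node (.node (.leaf 0x1ff) (.leaf 0x0)) (.node (.leaf 0x1ff) (.leaf 0x0))) (.node (.node (.leaf 0x1ff) (.leaf 0x0)) (.node (.leaf 0x1ff) (.leaf 0x0)))))) (.node (.node (.node (.node (.node (.leaf 0x1ff) (.leaf 0x1ff)) (.node (.leaf 0x1ff) (.leaf 0x0))) (.node (.node (.leaf 0x1ff) (.leaf 0x0)) (.node (.leaf 0x14d) (.leaf 0x0)))) (.node (.node (.node (.leaf 0x1ff) (.leaf 0x0)) (.node (.leaf 0x6d) (.leaf 0x0))) (.node (.node (.leaf 0x1ff) (.leaf 0x0)) (.node (.leaf 0x1ff) (.leaf 0x0))))) (.node (.node (.node (.node (.leaf 0x6) (.leaf 0x0)) (.node (.leaf 0xec) (.leaf 0x0))) (.node (.node (.leaf 0x147) (.leaf 0x0)) (.node (.leaf 0x1ff) (.leaf 0x0)))) (.node (.node (.node (.leaf 0x7f) (.leaf 0x0)) (.node (.leaf 0x1ff) (.leaf 0x0))) (.node (.node (.leaf 0x43) (.leaf 0x0)) (.node (.leaf 0x1ff) (.leaf 0x0)))))))) (.node (.node (.node (.node (.node (.node (.node (.leaf 0x16e)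 (.leaf 0xe9)) (.node (.leaf 0x47) (.leaf 0x0))) (.node (.node (.leaf 0x1ff) (.leaf 0x0)) (.node (.leaf 0x140) (.leaf 0x0)))) (.node (.node (.node (.leaf 0xd) (.leaf 0x0)) (.node (.leaf 0x1ff) (.leaf 0x0))) (.node (.node (.leaf 0x1ff) (.leaf 0x0)) (.node (.leaf 0x73) (.leaf 0x0))))) (.node (.node (.node (.node (.leaf 0x1ff) (.leaf 0x0)) (.node (.leaf 0x1ff) (.leaf 0x0))) (.node (.node (.leaf 0x1ff) (.leaf 0x0)) (.node (.leaf 0x9b) (.leaf 0x0)))) (.node (.node (.node (.leaf 0xd3) (.leaf 0x0)) (.node (.leaf 0x1ff) (.leaf 0x0))) (.node (.node (.leaf 0x1ff) (.leaf 0x0)) (.node (.leaf 0x1ff) (.leaf 0x0)))))) (.node (.node (.node (.node (.node (.leaf 0x1ff) (.leaf 0x1ff)) (.node (.leaf 0xe2) (.leaf 0x0))) (.node (.node (.leaf 0x1ff) (.leaf 0x0)) (.node (.leaf 0x1ff) (.leaf 0x0)))) (.node (.node (.node (.leaf 0x1ff) (.leaf 0x0)) (.node (.leaf 0xbf) (.leaf 0x0))) (.node (.node (.leaf 0x33)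 (.leaf 0x0)) (.node (.leaf 0x1ff) (.leaf 0x0))))) (.node (.node (.node (.node (.leaf 0x1ff) (.leaf 0x0)) (.node (.leaf 0x5d) (.leaf 0x0))) (.node (.node (.leaf 0x1ff) (.leaf 0x0)) (.node (.leaf 0x1ff) (.leaf 0x0)))) (.node (.node (.node (.leaf 0x1ff) (.leaf 0x0)) (.node (.leaf 0x1ff) (.leaf 0x0))) (.node (.node (.leaf 0x1ff) (.leaf 0x0)) (.node (.leaf 0x1ff) (.leaf 0x0))))))) (.node (.node (.node (.node (.node (.node (.leaf 0x79) (.leaf 0x56)) (.node (.leaf 0x1ff) (.leaf 0x0))) (.node (.node (.leaf 0x1ff) (.leaf 0x0)) (.node (.leaf 0x1ff) (.leaf 0x0)))) (.node (.node (.node (.leaf 0x1ff) (.leaf 0x0)) (.node (.leaf 0x68) (.leaf 0x0))) (.node (.node (.leaf 0x1ff) (.leaf 0x0)) (.node (.leaf 0x1ff) (.leaf 0x0))))) (.node (.node (.node (.node (.leaf 0x1ff) (.leaf 0x0)) (.node (.leaf 0x1ff) (.leaf 0x0))) (.node (.node (.leaf 0x1ff) (.leaf 0x0)) (.node (.leaf 0x1ff) (.leaf 0x0)))) (.node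 (.node (.node (.leaf 0x1ff) (.leaf 0x0)) (.node (.leaf 0x132) (.leaf 0x0))) (.node (.node (.leaf 0x1ff) (.leaf 0x0)) (.node (.leaf 0x1ff) (.leaf 0x0)))))) (.node (.node (.node (.node (.node (.leaf 0x16b) (.leaf 0x1ff)) (.node (.leaf 0x53) (.leaf 0x0))) (.node (.node (.leaf 0x1ff) (.leaf 0x0)) (.node (.leaf 0x138) (.leaf 0x0)))) (.node (.node (.node (.leaf 0x18) (.leaf 0x0)) (.node (.leaf 0xc0) (.leaf 0x0))) (.node (.node (.leaf 0x13d) (.leaf 0x0)) (.node (.leaf 0x1ff) (.leaf 0x0))))) (.node (.node (.node (.node (.leaf 0xfc) (.leaf 0x0)) (.node (.leaf 0x1ff) (.leaf 0x0))) (.node (.node (.leaf 0x26) (.leaf 0x0)) (.node (.leaf 0x12d) (.leaf 0x0)))) (.node (.node (.node (.leaf 0x1ff) (.leaf 0x0)) (.node (.leaf 0x2c) (.leaf 0x0))) (.node (.node (.leaf 0x1ff) (.leaf 0x0)) (.node (.leaf 0x11a) (.leaf 0x0))))))))) (.node (.node (.node (.node (.node (.node (.node (.node (.leaf 0x1ff) (.leaf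 0x1ff)) (.node (.leaf 0x112) (.leaf 0x0))) (.node (.node (.leaf 0x1ff) (.leaf 0x0)) (.node (.leaf 0x39) (.leaf 0x0)))) (.node (.node (.node (.leaf 0x80) (.leaf 0x0)) (.node (.leaf 0x125) (.leaf 0x0))) (.node (.node (.leaf 0x1ff) (.leaf 0x0)) (.node (.leaf 0x1ff) (.leaf 0x0))))) (.node (.node (.node (.node (.leaf 0x1ff) (.leaf 0x0)) (.node (.leaf 0x1ff) (.leaf 0x0))) (.node (.node (.leaf 0x1ff) (.leaf 0x0)) (.node (.leaf 0x96) (.leaf 0x0)))) (.node (.node (.node (.leaf 0x1ff) (.leaf 0x0)) (.node (.leaf 0x1ff) (.leaf 0x0))) (.node (.node (.leaf 0x143) (.leaf 0x0)) (.node (.leaf 0x1ff) (.leaf 0x0)))))) (.node (.node (.node (.node (.node (.leaf 0x177) (.leaf 0x1ff)) (.node (.leaf 0x1ff) (.leaf 0x0))) (.node (.node (.leaf 0x1ff) (.leaf 0x0)) (.node (.leaf 0x1ff) (.leaf 0x0)))) (.node (.node (.node (.leaf 0x1ff) (.leaf 0x0)) (.node (.leaf 0x6b) (.leaf 0x0))) (.node (.node (.leaf 0x1ff) (.leaf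 0x0)) (.node (.leaf 0x1ff) (.leaf 0x0))))) (.node (.node (.node (.node (.leaf 0x1ff) (.leaf 0x0)) (.node (.leaf 0x1ff) (.leaf 0x0))) (.node (.node (.leaf 0xce) (.leaf 0x0)) (.node (.leaf 0x1ff) (.leaf 0x0)))) (.node (.node (.node (.leaf 0x1ff) (.leaf 0x0)) (.node (.leaf 0x1ff) (.leaf 0x0))) (.node (.node (.leaf 0x1ff) (.leaf 0x0)) (.node (.leaf 0x1ff) (.leaf 0x0))))))) (.node (.node (.node (.node (.node (.node (.leaf 0x7d) (.leaf 0x1ff)) (.node (.leaf 0x1ff) (.leaf 0x0))) (.node (.node (.leaf 0x1ff) (.leaf 0x0)) (.node (.leaf 0x1ff) (.leaf 0x0)))) (.node (.node (.node (.leaf 0x1ff) (.leaf 0x0)) (.node (.leaf 0x1ff) (.leaf 0x0))) (.node (.node (.leaf 0x1ff) (.leaf 0x0)) (.node (.leaf 0x1ff) (.leaf 0x0))))) (.node (.node (.node (.node (.leaf 0x1ff) (.leaf 0x0)) (.node (.leaf 0xe9) (.leaf 0x0))) (.node (.node (.leaf 0x1b) (.leaf 0x0)) (.node (.leaf 0x1ff) (.leaf 0x0)))) (.node (.node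 (.node (.leaf 0x109) (.leaf 0x0)) (.node (.leaf 0x75) (.leaf 0x0))) (.node (.node (.leaf 0x1ff) (.leaf 0x0)) (.node (.leaf 0x1ff) (.leaf 0x0)))))) (.node (.node (.node (.node (.node (.leaf 0x4) (.leaf 0x1ff)) (.node (.leaf 0xe4) (.leaf 0x0))) (.node (.node (.leaf 0xd4) (.leaf 0x0)) (.node (.leaf 0x1ff) (.leaf 0x0)))) (.node (.node (.node (.leaf 0x86) (.leaf 0x0)) (.node (.leaf 0x1ff) (.leaf 0x0))) (.node (.node (.leaf 0x35) (.leaf 0x0)) (.node (.leaf 0x1ff) (.leaf 0x0))))) (.node (.node (.node (.node (.leaf 0x1ff) (.leaf 0x0)) (.node (.leaf 0x1ff) (.leaf 0x0))) (.node (.node (.leaf 0x148) (.leaf 0x0)) (.node (.leaf 0xb6) (.leaf 0x0)))) (.node (.node (.node (.leaf 0x1ff) (.leaf 0x0)) (.node (.leaf 0x1ff) (.leaf 0x0))) (.node (.node (.leaf 0x1ff) (.leaf 0x0)) (.node (.leaf 0x1ff) (.leaf 0x0)))))))) (.node (.node (.node (.node (.node (.node (.node (.leaf 0x158) (.leaf 0x55)) (.node (.leaf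 0x115) (.leaf 0x0))) (.node (.node (.leaf 0x1ff) (.leaf 0x0)) (.node (.leaf 0x1ff) (.leaf 0x0)))) (.node (.node (.node (.leaf 0x1ff) (.leaf 0x0)) (.node (.leaf 0x65) (.leaf 0x0))) (.node (.node (.leaf 0x1ff) (.leaf 0x0)) (.node (.leaf 0x1ff) (.leaf 0x0))))) (.node (.node (.node (.node (.leaf 0x1ff) (.leaf 0x0)) (.node (.leaf 0x1ff) (.leaf 0x0))) (.node (.node (.leaf 0x84) (.leaf 0x0)) (.node (.leaf 0x1ff) (.leaf 0x0)))) (.node (.node (.node (.leaf 0x1ff) (.leaf 0x0)) (.node (.leaf 0xfb) (.leaf 0x0))) (.node (.node (.leaf 0x3b) (.leaf 0x0)) (.node (.leaf 0x10f) (.leaf 0x0)))))) (.node (.node (.node (.node (.node (.leaf 0x1ff) (.leaf 0x1ff)) (.node (.leaf 0x50) (.leaf 0x0))) (.node (.node (.leaf 0x10d) (.leaf 0x0)) (.node (.leaf 0x14e) (.leaf 0x0)))) (.node (.node (.node (.leaf 0x1ff) (.leaf 0x0)) (.node (.leaf 0x1ff) (.leaf 0x0))) (.node (.node (.leaf 0x9b) (.leaf 0x0)) (.node (.leaf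 0x1ff) (.leaf 0x0))))) (.node (.node (.node (.node (.leaf 0x1ff) (.leaf 0x0)) (.node (.leaf 0x1ff) (.leaf 0x0))) (.node (.node (.leaf 0x1ff) (.leaf 0x0)) (.node (.leaf 0x1ff) (.leaf 0x0)))) (.node (.node (.node (.leaf 0x1ff) (.leaf 0x0)) (.node (.leaf 0x1ff) (.leaf 0x0))) (.node (.node (.leaf 0x1ff) (.leaf 0x0)) (.node (.leaf 0x110) (.leaf 0x0))))))) (.node (.node (.node (.node (.node (.node (.leaf 0x1ff) (.leaf 0x1ff)) (.node (.leaf 0xaa) (.leaf 0x0))) (.node (.node (.leaf 0x1ff) (.leaf 0x0)) (.node (.leaf 0x1ff) (.leaf 0x0)))) (.node (.node (.node (.leaf 0x1ff) (.leaf 0x0)) (.node (.leaf 0x1ff) (.leaf 0x0))) (.node (.node (.leaf 0x30) (.leaf 0x0)) (.node (.leaf 0x12f) (.leaf 0x0))))) (.node (.node (.node (.node (.leaf 0x160) (.leaf 0x0)) (.node (.leaf 0x1ff) (.leaf 0x0))) (.node (.node (.leaf 0x105) (.leaf 0x0)) (.node (.leaf 0x1ff) (.leaf 0x0)))) (.node (.node (.node (.leaf 0x1ff)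 (.leaf 0x0)) (.node (.leaf 0x137) (.leaf 0x0))) (.node (.node (.leaf 0x1ff) (.leaf 0x0)) (.node (.leaf 0x48) (.leaf 0x0)))))) (.node (.node (.node (.node (.node (.leaf 0x164) (.leaf 0x4e)) (.node (.leaf 0x1ff) (.leaf 0x0))) (.node (.node (.leaf 0x20) (.leaf 0x0)) (.node (.leaf 0x13d) (.leaf 0x0)))) (.node (.node (.node (.leaf 0x1ff) (.leaf 0x0)) (.node (.leaf 0x1ff) (.leaf 0x0))) (.node (.node (.leaf 0x1ff) (.leaf 0x0)) (.node (.leaf 0x1ff) (.leaf 0x0))))) (.node (.node (.node (.node (.leaf 0xb) (.leaf 0x0)) (.node (.leaf 0x1ff) (.leaf 0x0))) (.node (.node (.leaf 0x1ff) (.leaf 0x0)) (.node (.leaf 0x6f) (.leaf 0x0)))) (.node (.node (.node (.leaf 0x1ff) (.leaf 0x0)) (.node (.leaf 0x1ff) (.leaf 0x0))) (.node (.node (.leaf 0x1ff) (.leaf 0x0)) (.node (.leaf 0x1ff) (.leaf 0x0)))))))))))))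

/-- For each generator: four times the image of a point, plus its shift. -/
def genT : List PTree := [(.node (.node (.node (.node (.node (.node (.node (.node (.node (.leaf 0x0) (.leaf 0x484)) (.node (.leaf 0x288) (.leaf 0x0))) (.node (.node (.leaf 0x34) (.leaf 0x59c)) (.node (.leaf 0x224) (.leaf 0x0)))) (.node (.node (.node (.leaf 0x14c) (.leaf 0x404)) (.node (.leaf 0x280) (.leaf 0x0))) (.node (.node (.leaf 0x180) (.leaf 0x4fc)) (.node (.leaf 0x380) (.leaf 0x0))))) (.node (.node (.node (.node (.leaf 0x16c) (.leaf 0x440)) (.node (.leaf 0x1e2) (.leaf 0x0))) (.node (.node (.leaf 0x1d4) (.leaf 0x4e4)) (.node (.leaf 0x3dc) (.leaf 0x0)))) (.node (.node (.node (.leaf 0x18) (.leaf 0x464)) (.node (.leaf 0x2c0) (.leaf 0x0))) (.node (.node (.leaf 0x1c0) (.leaf 0x4d0)) (.node (.leaf 0x35c) (.leaf 0x0)))))) (.node (.node (.node (.node (.node (.leaf 0xe4) (.leaf 0x420)) (.node (.leaf 0x304) (.leaf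 0x0))) (.node (.node (.leaf 0x188) (.leaf 0x5c8)) (.node (.leaf 0x360) (.leaf 0x0)))) (.node (.node (.node (.leaf 0xa0) (.leaf 0x4a0)) (.node (.leaf 0x218) (.leaf 0x0))) (.node (.node (.leaf 0x1a0) (.leaf 0x5a0)) (.node (.leaf 0x3d4) (.leaf 0x0))))) (.node (.node (.node (.node (.leaf 0x12c) (.leaf 0x4c4)) (.node (.leaf 0x260) (.leaf 0x0))) (.node (.node (.leaf 0x1a8) (.leaf 0x510)) (.node (.leaf 0x320) (.leaf 0x0)))) (.node (.node (.node (.leaf 0x24) (.leaf 0x544)) (.node (.leaf 0x29c) (.leaf 0x0))) (.node (.node (.leaf 0x241) (.leaf 0x4d8)) (.node (.leaf 0x3e0) (.leaf 0x0))))))) (.node (.node (.node (.node (.node (.node (.leaf 0xb8) (.leaf 0x450)) (.node (.leaf 0x210) (.leaf 0x0))) (.node (.node (.leaf 0x110) (.leaf 0x560)) (.node (.leaf 0x2b4) (.leaf 0x0)))) (.node (.node (.node (.leaf 0x194) (.leaf 0x44c)) (.node (.leaf 0x290) (.leaf 0x0))) (.node (.node (.leaf 0x88) (.leaf 0x538))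 (.node (.leaf 0x350) (.leaf 0x0))))) (.node (.node (.node (.node (.leaf 0x50) (.leaf 0x410)) (.node (.leaf 0x1f0) (.leaf 0x0))) (.node (.node (.leaf 0x84) (.leaf 0x4ec)) (.node (.leaf 0x390) (.leaf 0x0)))) (.node (.node (.node (.leaf 0xf4) (.leaf 0x5c0)) (.node (.leaf 0x20c) (.leaf 0x0))) (.node (.node (.leaf 0x144) (.leaf 0x5d0)) (.node (.leaf 0x3a4) (.leaf 0x0)))))) (.node (.node (.node (.node (.node (.leaf 0x30) (.leaf 0x49c)) (.node (.leaf 0x2b8) (.leaf 0x0))) (.node (.node (.leaf 0x130) (.leaf 0x5a8)) (.node (.leaf 0x330) (.leaf 0x0)))) (.node (.node (.node (.leaf 0xb0) (.leaf 0x41c)) (.node (.leaf 0x314) (.leaf 0x0))) (.node (.node (.leaf 0x164) (.leaf 0x50c)) (.node (.leaf 0x3b0) (.leaf 0x0))))) (.node (.node (.node (.node (.leaf 0x70) (.leaf 0x470)) (.node (.leaf 0x270) (.leaf 0x0))) (.node (.node (.leaf 0x48) (.leaf 0x570)) (.node (.leaf 0x3bc) (.leaf 0x0)))) (.node (.node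 (.node (.leaf 0xf0) (.leaf 0x54c)) (.node (.leaf 0x2f0) (.leaf 0x0))) (.node (.node (.leaf 0x250) (.leaf 0x0)) (.node (.leaf 0x3f0) (.leaf 0x0)))))))) (.node (.node (.node (.node (.node (.node (.node (.leaf 0x8) (.leaf 0x408)) (.node (.leaf 0x2d4) (.leaf 0x0))) (.node (.node (.leaf 0x3c) (.leaf 0x5b4)) (.node (.leaf 0x308) (.leaf 0x0)))) (.node (.node (.node (.leaf 0x190) (.leaf 0x488)) (.node (.leaf 0x200) (.leaf 0x0))) (.node (.node (.leaf 0x120) (.leaf 0x588)) (.node (.leaf 0x3ec) (.leaf 0x0))))) (.node (.node (.node (.node (.leaf 0x170) (.leaf 0x494)) (.node (.leaf 0x1e8) (.leaf 0x0))) (.node (.node (.leaf 0x7c) (.leaf 0x4f4)) (.node (.leaf 0x348) (.leaf 0x0)))) (.node (.node (.node (.leaf 0xc8) (.leaf 0x568)) (.node (.leaf 0x2fc) (.leaf 0x0))) (.node (.node (.leaf 0x1c8) (.leaf 0x520)) (.node (.leaf 0x3c8) (.leaf 0x0)))))) (.node (.node (.node (.node (.node (.leaf 0x28) (.leaf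 0x468)) (.node (.leaf 0x228) (.leaf 0x0))) (.node (.node (.leaf 0x5c) (.leaf 0x578)) (.node (.leaf 0x3ac) (.leaf 0x0)))) (.node (.node (.node (.leaf 0xa8) (.leaf 0x47c)) (.node (.leaf 0x2a8) (.leaf 0x0))) (.node (.node (.leaf 0x160) (.leaf 0x530)) (.node (.leaf 0x32c) (.leaf 0x0))))) (.node (.node (.node (.node (.leaf 0x1bc) (.leaf 0x428)) (.node (.leaf 0x268) (.leaf 0x0))) (.node (.node (.leaf 0x1ac) (.leaf 0x4c8)) (.node (.leaf 0x368) (.leaf 0x0)))) (.node (.node (.node (.leaf 0xe8) (.leaf 0x554)) (.node (.leaf 0x23c) (.leaf 0x0))) (.node (.node (.leaf 0x248) (.leaf 0x0)) (.node (.leaf 0x38c) (.leaf 0x0))))))) (.node (.node (.node (.node (.node (.node (.leaf 0xc0) (.leaf 0x4b4)) (.node (.leaf 0x2a0) (.leaf 0x0))) (.node (.node (.leaf 0x184) (.leaf 0x5d8)) (.node (.leaf 0x318) (.leaf 0x0)))) (.node (.node (.node (.leaf 0x98) (.leaf 0x434)) (.node (.leaf 0x2e4) (.leaf 0x0))) (.node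 (.node (.leaf 0x8c) (.leaf 0x504)) (.node (.leaf 0x398) (.leaf 0x0))))) (.node (.node (.node (.node (.leaf 0x124) (.leaf 0x458)) (.node (.leaf 0x258) (.leaf 0x0))) (.node (.node (.leaf 0x158) (.leaf 0x558)) (.node (.leaf 0x3c4) (.leaf 0x0)))) (.node (.node (.node (.leaf 0xf8) (.leaf 0x5e0)) (.node (.leaf 0x2d8) (.leaf 0x0))) (.node (.node (.leaf 0x1d8) (.leaf 0x518)) (.node (.leaf 0x344) (.leaf 0x0)))))) (.node (.node (.node (.node (.node (.leaf 0x104) (.leaf 0x3f8)) (.node (.leaf 0x2ec) (.leaf 0x0))) (.node (.node (.leaf 0x138) (.leaf 0x590)) (.node (.leaf 0x378) (.leaf 0x0)))) (.node (.node (.node (.leaf 0x10) (.leaf 0x4b8)) (.node (.leaf 0x230) (.leaf 0x0))) (.node (.node (.leaf 0x6c) (.leaf 0x5b8)) (.node (.leaf 0x374) (.leaf 0x0))))) (.node (.node (.node (.node (.leaf 0x78) (.leaf 0x4ac)) (.node (.leaf 0x278) (.leaf 0x0))) (.node (.node (.leaf 0x178) (.leaf 0x528)) (.node (.leaf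 0x338) (.leaf 0x0)))) (.node (.node (.node (.leaf 0xd8) (.leaf 0x584)) (.node (.leaf 0x2cc) (.leaf 0x0))) (.node (.node (.leaf 0x1f8) (.leaf 0x0)) (.node (.leaf 0x438) (.leaf 0x0))))))))) (.node (.node (.node (.node (.node (.node (.node (.node (.leaf 0x4) (.leaf 0x480)) (.node (.leaf 0x28c) (.leaf 0x0))) (.node (.node (.leaf 0x38) (.leaf 0x598)) (.node (.leaf 0x220) (.leaf 0x0)))) (.node (.node (.node (.leaf 0x150) (.leaf 0x400)) (.node (.leaf 0x284) (.leaf 0x0))) (.node (.node (.leaf 0x118) (.leaf 0x4f8)) (.node (.leaf 0x384) (.leaf 0x0))))) (.node (.node (.node (.node (.leaf 0x174) (.leaf 0x444)) (.node (.leaf 0x1e4) (.leaf 0x0))) (.node (.node (.leaf 0x1d0) (.leaf 0x4e0)) (.node (.leaf 0x3d8) (.leaf 0x0)))) (.node (.node (.node (.leaf 0xc4) (.leaf 0x460)) (.node (.leaf 0x2c4) (.leaf 0x0))) (.node (.node (.leaf 0x1c4) (.leaf 0x4d4)) (.node (.leaf 0x358) (.leaf 0x0)))))) (.node (.node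 (.node (.node (.node (.leaf 0xe0) (.leaf 0x424)) (.node (.leaf 0x300) (.leaf 0x0))) (.node (.node (.leaf 0x58) (.leaf 0x5cc)) (.node (.leaf 0x364) (.leaf 0x0)))) (.node (.node (.node (.leaf 0xa4) (.leaf 0x4a4)) (.node (.leaf 0x21c) (.leaf 0x0))) (.node (.node (.leaf 0x1a4) (.leaf 0x5a4)) (.node (.leaf 0x3d0) (.leaf 0x0))))) (.node (.node (.node (.node (.leaf 0x1b4) (.leaf 0x4c0)) (.node (.leaf 0x264) (.leaf 0x0))) (.node (.node (.leaf 0x1b0) (.leaf 0x514)) (.node (.leaf 0x324) (.leaf 0x0)))) (.node (.node (.node (.leaf 0x20) (.leaf 0x540)) (.node (.leaf 0x298) (.leaf 0x0))) (.node (.node (.leaf 0x244) (.leaf 0x4dc)) (.node (.leaf 0x3e4) (.leaf 0x0))))))) (.node (.node (.node (.node (.node (.node (.leaf 0xbc) (.leaf 0x454)) (.node (.leaf 0x214) (.leaf 0x0))) (.node (.node (.leaf 0x114) (.leaf 0x564)) (.node (.leaf 0x2b0) (.leaf 0x0)))) (.node (.node (.node (.leaf 0x94) (.leaf 0x448))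 (.node (.leaf 0x294) (.leaf 0x0))) (.node (.node (.leaf 0x90) (.leaf 0x53c)) (.node (.leaf 0x354) (.leaf 0x0))))) (.node (.node (.node (.node (.leaf 0x54) (.leaf 0x414)) (.node (.leaf 0x1f4) (.leaf 0x0))) (.node (.node (.leaf 0x154) (.leaf 0x4e8)) (.node (.leaf 0x394) (.leaf 0x0)))) (.node (.node (.node (.leaf 0xfc) (.leaf 0x5c4)) (.node (.leaf 0x208) (.leaf 0x0))) (.node (.node (.leaf 0x140) (.leaf 0x5d4)) (.node (.leaf 0x3a0) (.leaf 0x0)))))) (.node (.node (.node (.node (.node (.leaf 0x100) (.leaf 0x498)) (.node (.leaf 0x2bc) (.leaf 0x0))) (.node (.node (.leaf 0x134) (.leaf 0x5ac)) (.node (.leaf 0x334) (.leaf 0x0)))) (.node (.node (.node (.leaf 0xb4) (.leaf 0x418)) (.node (.leaf 0x310) (.leaf 0x0))) (.node (.node (.leaf 0x64) (.leaf 0x508)) (.node (.leaf 0x3b4) (.leaf 0x0))))) (.node (.node (.node (.node (.leaf 0x74) (.leaf 0x474)) (.node (.leaf 0x274) (.leaf 0x0))) (.node (.node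 (.leaf 0x44) (.leaf 0x574)) (.node (.leaf 0x3b8) (.leaf 0x0)))) (.node (.node (.node (.leaf 0xd0) (.leaf 0x548)) (.node (.leaf 0x2f4) (.leaf 0x0))) (.node (.node (.leaf 0x254) (.leaf 0x0)) (.node (.leaf 0x3f4) (.leaf 0x0)))))))) (.node (.node (.node (.node (.node (.node (.node (.leaf 0xc) (.leaf 0x40c)) (.node (.leaf 0x2d0) (.leaf 0x0))) (.node (.node (.leaf 0x10c) (.leaf 0x5b0)) (.node (.leaf 0x30c) (.leaf 0x0)))) (.node (.node (.node (.leaf 0x198) (.leaf 0x48c)) (.node (.leaf 0x204) (.leaf 0x0))) (.node (.node (.leaf 0x11c) (.leaf 0x58c)) (.node (.leaf 0x3e8) (.leaf 0x0))))) (.node (.node (.node (.node (.leaf 0x4c) (.leaf 0x490)) (.node (.leaf 0x1ec) (.leaf 0x0))) (.node (.node (.leaf 0x80) (.leaf 0x4f0)) (.node (.leaf 0x34c) (.leaf 0x0)))) (.node (.node (.node (.leaf 0xcc) (.leaf 0x56c)) (.node (.leaf 0x2f8) (.leaf 0x0))) (.node (.node (.leaf 0x13c) (.leaf 0x524)) (.node (.leaf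 0x3cc) (.leaf 0x0)))))) (.node (.node (.node (.node (.node (.leaf 0x2c) (.leaf 0x46c)) (.node (.leaf 0x22c) (.leaf 0x0))) (.node (.node (.leaf 0x60) (.leaf 0x57c)) (.node (.leaf 0x3a8) (.leaf 0x0)))) (.node (.node (.node (.leaf 0xac) (.leaf 0x478)) (.node (.leaf 0x2ac) (.leaf 0x0))) (.node (.node (.leaf 0x168) (.leaf 0x534)) (.node (.leaf 0x328) (.leaf 0x0))))) (.node (.node (.node (.node (.leaf 0x1b8) (.leaf 0x42c)) (.node (.leaf 0x26c) (.leaf 0x0))) (.node (.node (.leaf 0x40) (.leaf 0x4cc)) (.node (.leaf 0x36c) (.leaf 0x0)))) (.node (.node (.node (.leaf 0xec) (.leaf 0x550)) (.node (.leaf 0x238) (.leaf 0x0))) (.node (.node (.leaf 0x24c) (.leaf 0x0)) (.node (.leaf 0x388) (.leaf 0x0))))))) (.node (.node (.node (.node (.node (.node (.leaf 0xdc) (.leaf 0x4b0)) (.node (.leaf 0x2a4) (.leaf 0x0))) (.node (.node (.leaf 0x18c) (.leaf 0x5dc)) (.node (.leaf 0x31c) (.leaf 0x0)))) (.node (.node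 (.node (.leaf 0x9c) (.leaf 0x430)) (.node (.leaf 0x2e0) (.leaf 0x0))) (.node (.node (.leaf 0x19c) (.leaf 0x500)) (.node (.leaf 0x39c) (.leaf 0x0))))) (.node (.node (.node (.node (.leaf 0x128) (.leaf 0x45c)) (.node (.leaf 0x25c) (.leaf 0x0))) (.node (.node (.leaf 0x15c) (.leaf 0x55c)) (.node (.leaf 0x3c0) (.leaf 0x0)))) (.node (.node (.node (.leaf 0x1c) (.leaf 0x5e4)) (.node (.leaf 0x2dc) (.leaf 0x0))) (.node (.node (.leaf 0x1dc) (.leaf 0x51c)) (.node (.leaf 0x340) (.leaf 0x0)))))) (.node (.node (.node (.node (.node (.leaf 0x108) (.leaf 0x3fc)) (.node (.leaf 0x2e8) (.leaf 0x0))) (.node (.node (.leaf 0x1cc) (.leaf 0x594)) (.node (.leaf 0x37c) (.leaf 0x0)))) (.node (.node (.node (.leaf 0x14) (.leaf 0x4bc)) (.node (.leaf 0x234) (.leaf 0x0))) (.node (.node (.leaf 0x68) (.leaf 0x5bc)) (.node (.leaf 0x370) (.leaf 0x0))))) (.node (.node (.node (.node (.leaf 0x148) (.leaf 0x4a8)) (.node (.leaf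 0x27c) (.leaf 0x0))) (.node (.node (.leaf 0x17c) (.leaf 0x52c)) (.node (.leaf 0x33c) (.leaf 0x0)))) (.node (.node (.node (.leaf 0xd4) (.leaf 0x580)) (.node (.leaf 0x2c8) (.leaf 0x0))) (.node (.node (.leaf 0x1fc) (.leaf 0x0)) (.node (.leaf 0x43c) (.leaf 0x0)))))))))), (.node (.node (.node (.node (.node (.node (.node (.node (.node (.leaf 0x0) (.leaf 0x364)) (.node (.leaf 0x240) (.leaf 0x0))) (.node (.node (.leaf 0xac) (.leaf 0x45c)) (.node (.leaf 0x300) (.leaf 0x0)))) (.node (.node (.node (.leaf 0x80) (.leaf 0x568)) (.node (.leaf 0x2a4) (.leaf 0x0))) (.node (.node (.leaf 0x180) (.leaf 0x4b4)) (.node (.leaf 0x42c) (.leaf 0x0))))) (.node (.node (.node (.node (.leaf 0xa0) (.leaf 0x4d4)) (.node (.leaf 0x200) (.leaf 0x0))) (.node (.node (.leaf 0x140) (.leaf 0x38c)) (.node (.leaf 0x340) (.leaf 0x0)))) (.node (.node (.node (.leaf 0xc0) (.leaf 0x5a4)) (.node (.leaf 0x2c0) (.leaf 0x0))) (.node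 (.node (.leaf 0x1c0) (.leaf 0x5c0)) (.node (.leaf 0x578) (.leaf 0x0)))))) (.node (.node (.node (.node (.node (.leaf 0x1a0) (.leaf 0x550)) (.node (.leaf 0x260) (.leaf 0x0))) (.node (.node (.leaf 0x2c) (.leaf 0x520)) (.node (.leaf 0x4c8) (.leaf 0x0)))) (.node (.node (.node (.leaf 0x40) (.leaf 0x3dc)) (.node (.leaf 0x284) (.leaf 0x0))) (.node (.node (.leaf 0x20) (.leaf 0x4c4)) (.node (.leaf 0x3a0) (.leaf 0x0))))) (.node (.node (.node (.node (.leaf 0x158) (.leaf 0x460)) (.node (.leaf 0x220) (.leaf 0x0))) (.node (.node (.leaf 0xd0) (.leaf 0x3a8)) (.node (.leaf 0x404) (.leaf 0x0)))) (.node (.node (.node (.leaf 0x138) (.leaf 0x47c)) (.node (.leaf 0x1dc) (.leaf 0x0))) (.node (.node (.leaf 0x2d0) (.leaf 0x3b4)) (.node (.leaf 0x49c) (.leaf 0x0))))))) (.node (.node (.node (.node (.node (.node (.leaf 0x190) (.leaf 0x528)) (.node (.leaf 0x2cc) (.leaf 0x0))) (.node (.node (.leaf 0x110) (.leaf 0x3f8))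 (.node (.leaf 0x310) (.leaf 0x0)))) (.node (.node (.node (.leaf 0x90) (.leaf 0x5d4)) (.node (.leaf 0x24c) (.leaf 0x0))) (.node (.node (.leaf 0x10) (.leaf 0x4bc)) (.node (.leaf 0x41c) (.leaf 0x0))))) (.node (.node (.node (.node (.leaf 0x168) (.leaf 0x35c)) (.node (.leaf 0x250) (.leaf 0x0))) (.node (.node (.leaf 0x150) (.leaf 0x420)) (.node (.leaf 0x4f8) (.leaf 0x0)))) (.node (.node (.node (.leaf 0x160) (.leaf 0x444)) (.node (.leaf 0x1e0) (.leaf 0x0))) (.node (.node (.leaf 0x1d0) (.leaf 0x494)) (.node (.leaf 0x588) (.leaf 0x0)))))) (.node (.node (.node (.node (.node (.leaf 0x11c) (.leaf 0x430)) (.node (.leaf 0x230) (.leaf 0x0))) (.node (.node (.leaf 0x130) (.leaf 0x39c)) (.node (.leaf 0x4f0) (.leaf 0x0)))) (.node (.node (.node (.leaf 0x108) (.leaf 0x584)) (.node (.leaf 0x22c) (.leaf 0x0))) (.node (.node (.leaf 0xc) (.leaf 0x3c8)) (.node (.leaf 0x5e4) (.leaf 0x0))))) (.node (.node (.node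 (.node (.leaf 0x70) (.leaf 0x33c)) (.node (.leaf 0x270) (.leaf 0x0))) (.node (.node (.leaf 0x170) (.leaf 0x570)) (.node (.leaf 0x370) (.leaf 0x0)))) (.node (.node (.node (.leaf 0x128) (.leaf 0x330)) (.node (.leaf 0x2f0) (.leaf 0x0))) (.node (.node (.leaf 0x2dc) (.leaf 0x0)) (.node (.leaf 0x3f0) (.leaf 0x0)))))))) (.node (.node (.node (.node (.node (.node (.node (.leaf 0x1d4) (.leaf 0x408)) (.node (.leaf 0x28c) (.leaf 0x0))) (.node (.node (.leaf 0xb0) (.leaf 0x508)) (.node (.leaf 0x308) (.leaf 0x0)))) (.node (.node (.node (.leaf 0x124) (.leaf 0x5cc)) (.node (.leaf 0x20e) (.leaf 0x0))) (.node (.node (.leaf 0x188) (.leaf 0x3d0)) (.node (.leaf 0x544) (.leaf 0x0))))) (.node (.node (.node (.node (.leaf 0xa8) (.leaf 0x448)) (.node (.leaf 0x294) (.leaf 0x0))) (.node (.node (.leaf 0x64) (.leaf 0x548)) (.node (.leaf 0x348) (.leaf 0x0)))) (.node (.node (.node (.leaf 0x68) (.leaf 0x320)) (.node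 (.leaf 0x214) (.leaf 0x0))) (.node (.node (.leaf 0x194) (.leaf 0x48c)) (.node (.leaf 0x5b0) (.leaf 0x0)))))) (.node (.node (.node (.node (.node (.leaf 0x118) (.leaf 0x384)) (.node (.leaf 0x2b4) (.leaf 0x0))) (.node (.node (.leaf 0xf0) (.leaf 0x410)) (.node (.leaf 0x43c) (.leaf 0x0)))) (.node (.node (.node (.leaf 0x48) (.leaf 0x3ec)) (.node (.leaf 0x2a8) (.leaf 0x0))) (.node (.node (.leaf 0x1cc) (.leaf 0x5a8)) (.node (.leaf 0x560) (.leaf 0x0))))) (.node (.node (.node (.node (.leaf 0xc8) (.leaf 0x468)) (.node (.leaf 0x2bc) (.leaf 0x0))) (.node (.node (.leaf 0x50) (.leaf 0x480)) (.node (.leaf 0x51c) (.leaf 0x0)))) (.node (.node (.node (.leaf 0xe8) (.leaf 0x4e8)) (.node (.leaf 0x2e8) (.leaf 0x0))) (.node (.node (.leaf 0x1e8) (.leaf 0x0)) (.node (.leaf 0x4ac) (.leaf 0x0))))))) (.node (.node (.node (.node (.node (.node (.leaf 0x1c4) (.leaf 0x394)) (.node (.leaf 0x218) (.leaf 0x0))) (.node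 (.node (.leaf 0x28) (.leaf 0x36c)) (.node (.leaf 0x318) (.leaf 0x0)))) (.node (.node (.node (.leaf 0x98) (.leaf 0x3e4)) (.node (.leaf 0x298) (.leaf 0x0))) (.node (.node (.leaf 0x198) (.leaf 0x598)) (.node (.leaf 0x534) (.leaf 0x0))))) (.node (.node (.node (.node (.leaf 0xb8) (.leaf 0x504)) (.node (.leaf 0x258) (.leaf 0x0))) (.node (.node (.leaf 0x60) (.leaf 0x558)) (.node (.leaf 0x454) (.leaf 0x0)))) (.node (.node (.node (.leaf 0x54) (.leaf 0x4d8)) (.node (.leaf 0x1f4) (.leaf 0x0))) (.node (.node (.leaf 0x2e4) (.leaf 0x5d8)) (.node (.leaf 0x4a4) (.leaf 0x0)))))) (.node (.node (.node (.node (.node (.leaf 0x38) (.leaf 0x32c)) (.node (.leaf 0x278) (.leaf 0x0))) (.node (.node (.leaf 0xe0) (.leaf 0x538)) (.node (.leaf 0x474) (.leaf 0x0)))) (.node (.node (.node (.leaf 0x58) (.leaf 0x594)) (.node (.leaf 0x26c) (.leaf 0x0))) (.node (.node (.leaf 0x1a4) (.leaf 0x3bc)) (.node (.leaf 0x5bc) (.leaf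 0x0))))) (.node (.node (.node (.node (.leaf 0xfc) (.leaf 0x4e4)) (.node (.leaf 0x238) (.leaf 0x0))) (.node (.node (.leaf 0x178) (.leaf 0x3c0)) (.node (.leaf 0x378) (.leaf 0x0)))) (.node (.node (.node (.leaf 0xf8) (.leaf 0x350)) (.node (.leaf 0x2f8) (.leaf 0x0))) (.node (.node (.leaf 0x1f8) (.leaf 0x0)) (.node (.leaf 0x510) (.leaf 0x0))))))))) (.node (.node (.node (.node (.node (.node (.node (.node (.leaf 0x4) (.leaf 0x360)) (.node (.leaf 0x244) (.leaf 0x0))) (.node (.node (.leaf 0xb4) (.leaf 0x458)) (.node (.leaf 0x304) (.leaf 0x0)))) (.node (.node (.node (.leaf 0x134) (.leaf 0x56c)) (.node (.leaf 0x2a0) (.leaf 0x0))) (.node (.node (.leaf 0x184) (.leaf 0x4b0)) (.node (.leaf 0x428) (.leaf 0x0))))) (.node (.node (.node (.node (.leaf 0xa4) (.leaf 0x4d0)) (.node (.leaf 0x204) (.leaf 0x0))) (.node (.node (.leaf 0x74) (.leaf 0x388)) (.node (.leaf 0x344) (.leaf 0x0)))) (.node (.node (.node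 (.leaf 0xc4) (.leaf 0x5a0)) (.node (.leaf 0x2c4) (.leaf 0x0))) (.node (.node (.leaf 0x18) (.leaf 0x5c4)) (.node (.leaf 0x57c) (.leaf 0x0)))))) (.node (.node (.node (.node (.node (.leaf 0x24) (.leaf 0x554)) (.node (.leaf 0x264) (.leaf 0x0))) (.node (.node (.leaf 0x88) (.leaf 0x524)) (.node (.leaf 0x4cc) (.leaf 0x0)))) (.node (.node (.node (.leaf 0x44) (.leaf 0x3d8)) (.node (.leaf 0x280) (.leaf 0x0))) (.node (.node (.leaf 0x1b8) (.leaf 0x4c0)) (.node (.leaf 0x3a4) (.leaf 0x0))))) (.node (.node (.node (.node (.leaf 0x148) (.leaf 0x464)) (.node (.leaf 0x224) (.leaf 0x0))) (.node (.node (.leaf 0x164) (.leaf 0x3ac)) (.node (.leaf 0x400) (.leaf 0x0)))) (.node (.node (.node (.leaf 0xe4) (.leaf 0x478)) (.node (.leaf 0x1d8) (.leaf 0x0))) (.node (.node (.leaf 0x2d4) (.leaf 0x3b0)) (.node (.leaf 0x498) (.leaf 0x0))))))) (.node (.node (.node (.node (.node (.node (.leaf 0x14) (.leaf 0x52c)) (.node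 (.leaf 0x2c8) (.leaf 0x0))) (.node (.node (.leaf 0x114) (.leaf 0x3fc)) (.node (.leaf 0x314) (.leaf 0x0)))) (.node (.node (.node (.leaf 0x94) (.leaf 0x5d0)) (.node (.leaf 0x248) (.leaf 0x0))) (.node (.node (.leaf 0x1c8) (.leaf 0x4b8)) (.node (.leaf 0x418) (.leaf 0x0))))) (.node (.node (.node (.node (.leaf 0xd8) (.leaf 0x358)) (.node (.leaf 0x254) (.leaf 0x0))) (.node (.node (.leaf 0x154) (.leaf 0x424)) (.node (.leaf 0x4fc) (.leaf 0x0)))) (.node (.node (.node (.leaf 0xd4) (.leaf 0x440)) (.node (.leaf 0x1e4) (.leaf 0x0))) (.node (.node (.leaf 0x8) (.leaf 0x490)) (.node (.leaf 0x58c) (.leaf 0x0)))))) (.node (.node (.node (.node (.node (.leaf 0x34) (.leaf 0x434)) (.node (.leaf 0x234) (.leaf 0x0))) (.node (.node (.leaf 0x84) (.leaf 0x398)) (.node (.leaf 0x4f4) (.leaf 0x0)))) (.node (.node (.node (.leaf 0x104) (.leaf 0x580)) (.node (.leaf 0x228) (.leaf 0x0))) (.node (.node (.leaf 0x1c) (.leaf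 0x3cc)) (.node (.leaf 0x5e0) (.leaf 0x0))))) (.node (.node (.node (.node (.leaf 0x144) (.leaf 0x338)) (.node (.leaf 0x274) (.leaf 0x0))) (.node (.node (.leaf 0x174) (.leaf 0x574)) (.node (.leaf 0x374) (.leaf 0x0)))) (.node (.node (.node (.leaf 0x13c) (.leaf 0x334)) (.node (.leaf 0x2f4) (.leaf 0x0))) (.node (.node (.leaf 0x2d8) (.leaf 0x0)) (.node (.leaf 0x3f4) (.leaf 0x0)))))))) (.node (.node (.node (.node (.node (.node (.node (.leaf 0x1b0) (.leaf 0x40c)) (.node (.leaf 0x289) (.leaf 0x0))) (.node (.node (.leaf 0x10c) (.leaf 0x50c)) (.node (.leaf 0x30c) (.leaf 0x0)))) (.node (.node (.node (.leaf 0xec) (.leaf 0x5c8)) (.node (.leaf 0x208) (.leaf 0x0))) (.node (.node (.leaf 0x18c) (.leaf 0x3d4)) (.node (.leaf 0x540) (.leaf 0x0))))) (.node (.node (.node (.node (.leaf 0x4c) (.leaf 0x44c)) (.node (.leaf 0x290) (.leaf 0x0))) (.node (.node (.leaf 0xcc) (.leaf 0x54c)) (.node (.leaf 0x34c) (.leaf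 0x0)))) (.node (.node (.node (.leaf 0x14c) (.leaf 0x324)) (.node (.leaf 0x210) (.leaf 0x0))) (.node (.node (.leaf 0x1a8) (.leaf 0x488)) (.node (.leaf 0x5b4) (.leaf 0x0)))))) (.node (.node (.node (.node (.node (.leaf 0x120) (.leaf 0x380)) (.node (.leaf 0x2b0) (.leaf 0x0))) (.node (.node (.leaf 0x12c) (.leaf 0x414)) (.node (.leaf 0x438) (.leaf 0x0)))) (.node (.node (.node (.leaf 0x100) (.leaf 0x3e8)) (.node (.leaf 0x2ac) (.leaf 0x0))) (.node (.node (.leaf 0x1ac) (.leaf 0x5ac)) (.node (.leaf 0x564) (.leaf 0x0))))) (.node (.node (.node (.node (.leaf 0x6c) (.leaf 0x46c)) (.node (.leaf 0x2b8) (.leaf 0x0))) (.node (.node (.leaf 0x16c) (.leaf 0x484)) (.node (.leaf 0x518) (.leaf 0x0)))) (.node (.node (.node (.leaf 0x8c) (.leaf 0x4ec)) (.node (.leaf 0x2ec) (.leaf 0x0))) (.node (.node (.leaf 0x1ec) (.leaf 0x0)) (.node (.leaf 0x4a8) (.leaf 0x0))))))) (.node (.node (.node (.node (.node (.node (.leaf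 0x1b4) (.leaf 0x390)) (.node (.leaf 0x21c) (.leaf 0x0))) (.node (.node (.leaf 0x30) (.leaf 0x368)) (.node (.leaf 0x31c) (.leaf 0x0)))) (.node (.node (.node (.leaf 0x9c) (.leaf 0x3e0)) (.node (.leaf 0x29c) (.leaf 0x0))) (.node (.node (.leaf 0x19c) (.leaf 0x59c)) (.node (.leaf 0x530) (.leaf 0x0))))) (.node (.node (.node (.node (.leaf 0x5c) (.leaf 0x500)) (.node (.leaf 0x25c) (.leaf 0x0))) (.node (.node (.leaf 0xbc) (.leaf 0x55c)) (.node (.leaf 0x450) (.leaf 0x0)))) (.node (.node (.node (.leaf 0x7c) (.leaf 0x4dc)) (.node (.leaf 0x1f0) (.leaf 0x0))) (.node (.node (.leaf 0x2e0) (.leaf 0x5dc)) (.node (.leaf 0x4a0) (.leaf 0x0)))))) (.node (.node (.node (.node (.node (.leaf 0x3c) (.leaf 0x328)) (.node (.leaf 0x27c) (.leaf 0x0))) (.node (.node (.leaf 0xf4) (.leaf 0x53c)) (.node (.leaf 0x470) (.leaf 0x0)))) (.node (.node (.node (.leaf 0x15c) (.leaf 0x590)) (.node (.leaf 0x268) (.leaf 0x0)))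 (.node (.node (.leaf 0x1bc) (.leaf 0x3b8)) (.node (.leaf 0x5b8) (.leaf 0x0))))) (.node (.node (.node (.node (.leaf 0xdc) (.leaf 0x4e0)) (.node (.leaf 0x23c) (.leaf 0x0))) (.node (.node (.leaf 0x17c) (.leaf 0x3c4)) (.node (.leaf 0x37c) (.leaf 0x0)))) (.node (.node (.node (.leaf 0x78) (.leaf 0x354)) (.node (.leaf 0x2fc) (.leaf 0x0))) (.node (.node (.leaf 0x1fc) (.leaf 0x0)) (.node (.leaf 0x514) (.leaf 0x0)))))))))), (.node (.node (.node (.node (.node (.node (.node (.node (.node (.leaf 0x0) (.leaf 0x5e4)) (.node (.leaf 0x1e8) (.leaf 0x0))) (.node (.node (.leaf 0x100) (.leaf 0x390)) (.node (.leaf 0x300) (.leaf 0x0)))) (.node (.node (.node (.leaf 0x80) (.leaf 0x4d8)) (.node (.leaf 0x308) (.leaf 0x0))) (.node (.node (.leaf 0xb4) (.leaf 0x580)) (.node (.leaf 0x380) (.leaf 0x0))))) (.node (.node (.node (.node (.leaf 0x40) (.leaf 0x3b0)) (.node (.leaf 0x240) (.leaf 0x0))) (.node (.node (.leaf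 0x140) (.leaf 0x540)) (.node (.leaf 0x42c) (.leaf 0x0)))) (.node (.node (.node (.leaf 0x190) (.leaf 0x4c0)) (.node (.leaf 0x278) (.leaf 0x0))) (.node (.node (.leaf 0xf0) (.leaf 0x320)) (.node (.leaf 0x538) (.leaf 0x0)))))) (.node (.node (.node (.node (.node (.leaf 0x64) (.leaf 0x334)) (.node (.leaf 0x220) (.leaf 0x0))) (.node (.node (.leaf 0x18c) (.leaf 0x3a8)) (.node (.leaf 0x5c0) (.leaf 0x0)))) (.node (.node (.node (.leaf 0x10c) (.leaf 0x4a0)) (.node (.leaf 0x2a0) (.leaf 0x0))) (.node (.node (.leaf 0x138) (.leaf 0x408)) (.node (.leaf 0x3a0) (.leaf 0x0))))) (.node (.node (.node (.node (.leaf 0x90) (.leaf 0x460)) (.node (.leaf 0x2a8) (.leaf 0x0))) (.node (.node (.leaf 0xf8) (.leaf 0x560)) (.node (.leaf 0x4d0) (.leaf 0x0)))) (.node (.node (.node (.leaf 0x148) (.leaf 0x4e0)) (.node (.leaf 0x2e0) (.leaf 0x0))) (.node (.node (.leaf 0x1e0) (.leaf 0x404)) (.node (.leaf 0x3e0) (.leaf 0x0)))))))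 (.node (.node (.node (.node (.node (.node (.leaf 0x10) (.leaf 0x5a8)) (.node (.leaf 0x210) (.leaf 0x0))) (.node (.node (.leaf 0xa4) (.leaf 0x510)) (.node (.leaf 0x2c8) (.leaf 0x0)))) (.node (.node (.node (.leaf 0x60) (.leaf 0x490)) (.node (.leaf 0x2d8) (.leaf 0x0))) (.node (.node (.leaf 0xc0) (.leaf 0x35c)) (.node (.leaf 0x500) (.leaf 0x0))))) (.node (.node (.node (.node (.leaf 0x50) (.leaf 0x530)) (.node (.leaf 0x2d0) (.leaf 0x0))) (.node (.node (.leaf 0x1b8) (.leaf 0x3e8)) (.node (.leaf 0x59c) (.leaf 0x0)))) (.node (.node (.node (.leaf 0xd0) (.leaf 0x360)) (.node (.leaf 0x250) (.leaf 0x0))) (.node (.node (.leaf 0x168) (.leaf 0x3f0)) (.node (.leaf 0x3d0) (.leaf 0x0)))))) (.node (.node (.node (.node (.node (.leaf 0x30) (.leaf 0x33c)) (.node (.leaf 0x230) (.leaf 0x0))) (.node (.node (.leaf 0xc8) (.leaf 0x450)) (.node (.leaf 0x424) (.leaf 0x0)))) (.node (.node (.node (.leaf 0x17c) (.leaf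 0x508)) (.node (.leaf 0x2f8) (.leaf 0x0))) (.node (.node (.leaf 0x1b0) (.leaf 0x418)) (.node (.leaf 0x440) (.leaf 0x0))))) (.node (.node (.node (.node (.leaf 0xc) (.leaf 0x470)) (.node (.leaf 0x270) (.leaf 0x0))) (.node (.node (.leaf 0x170) (.leaf 0x570)) (.node (.leaf 0x370) (.leaf 0x0)))) (.node (.node (.node (.leaf 0x1c0) (.leaf 0x4a8)) (.node (.leaf 0x268) (.leaf 0x0))) (.node (.node (.leaf 0x20c) (.leaf 0x0)) (.node (.leaf 0x5d0) (.leaf 0x0)))))))) (.node (.node (.node (.node (.node (.node (.node (.leaf 0x4c) (.leaf 0x5a0)) (.node (.leaf 0x1f4) (.leaf 0x0))) (.node (.node (.leaf 0x108) (.leaf 0x4b0)) (.node (.leaf 0x280) (.leaf 0x0)))) (.node (.node (.node (.leaf 0x18) (.leaf 0x368)) (.node (.leaf 0x248) (.leaf 0x0))) (.node (.node (.leaf 0x11c) (.leaf 0x34c)) (.node (.leaf 0x4e8) (.leaf 0x0))))) (.node (.node (.node (.node (.leaf 0x48) (.leaf 0x448)) (.node (.leaf 0x288) (.leaf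 0x0))) (.node (.node (.leaf 0xe0) (.leaf 0x478)) (.node (.leaf 0x58c) (.leaf 0x0)))) (.node (.node (.node (.leaf 0x130) (.leaf 0x4c8)) (.node (.leaf 0x310) (.leaf 0x0))) (.node (.node (.leaf 0x1c8) (.leaf 0x32c)) (.node (.leaf 0x458) (.leaf 0x0)))))) (.node (.node (.node (.node (.node (.leaf 0x28) (.leaf 0x344)) (.node (.leaf 0x228) (.leaf 0x0))) (.node (.node (.leaf 0x128) (.leaf 0x528)) (.node (.leaf 0x5cc) (.leaf 0x0)))) (.node (.node (.node (.leaf 0x114) (.leaf 0x4f0)) (.node (.leaf 0x260) (.leaf 0x0))) (.node (.node (.leaf 0xd8) (.leaf 0x410)) (.node (.leaf 0x520) (.leaf 0x0))))) (.node (.node (.node (.node (.leaf 0x68) (.leaf 0x3d8)) (.node (.leaf 0x2f0) (.leaf 0x0))) (.node (.node (.leaf 0x1d0) (.leaf 0x568)) (.node (.leaf 0x488) (.leaf 0x0)))) (.node (.node (.node (.leaf 0xe8) (.leaf 0x388)) (.node (.leaf 0x2e8) (.leaf 0x0))) (.node (.node (.leaf 0x200) (.leaf 0x0)) (.node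 (.leaf 0x550) (.leaf 0x0))))))) (.node (.node (.node (.node (.node (.node (.leaf 0x88) (.leaf 0x5b0)) (.node (.leaf 0x218) (.leaf 0x0))) (.node (.node (.leaf 0x184) (.leaf 0x438)) (.node (.leaf 0x5b8) (.leaf 0x0)))) (.node (.node (.node (.leaf 0x98) (.leaf 0x378)) (.node (.leaf 0x298) (.leaf 0x0))) (.node (.node (.leaf 0x198) (.leaf 0x354)) (.node (.leaf 0x4b8) (.leaf 0x0))))) (.node (.node (.node (.node (.leaf 0x14) (.leaf 0x3c8)) (.node (.leaf 0x258) (.leaf 0x0))) (.node (.node (.leaf 0x158) (.leaf 0x558)) (.node (.leaf 0x594) (.leaf 0x0)))) (.node (.node (.node (.leaf 0x1a8) (.leaf 0x480)) (.node (.leaf 0x290) (.leaf 0x0))) (.node (.node (.leaf 0x1f8) (.leaf 0x3f8)) (.node (.leaf 0x468) (.leaf 0x0)))))) (.node (.node (.node (.node (.node (.leaf 0x38) (.leaf 0x518)) (.node (.leaf 0x238) (.leaf 0x0))) (.node (.node (.leaf 0x1a0) (.leaf 0x3c0)) (.node (.leaf 0x434) (.leaf 0x0)))) (.node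 (.node (.node (.leaf 0xb8) (.leaf 0x398)) (.node (.leaf 0x2b8) (.leaf 0x0))) (.node (.node (.leaf 0x150) (.leaf 0x318)) (.node (.leaf 0x3b8) (.leaf 0x0))))) (.node (.node (.node (.node (.leaf 0x54) (.leaf 0x548)) (.node (.leaf 0x2c0) (.leaf 0x0))) (.node (.node (.leaf 0xac) (.leaf 0x578)) (.node (.leaf 0x498) (.leaf 0x0)))) (.node (.node (.node (.leaf 0x160) (.leaf 0x4f8)) (.node (.leaf 0x2b0) (.leaf 0x0))) (.node (.node (.leaf 0x1d8) (.leaf 0x0)) (.node (.leaf 0x5d8) (.leaf 0x0))))))))) (.node (.node (.node (.node (.node (.node (.node (.node (.leaf 0x4) (.leaf 0x5e0)) (.node (.leaf 0x1ec) (.leaf 0x0))) (.node (.node (.leaf 0x104) (.leaf 0x394)) (.node (.leaf 0x304) (.leaf 0x0)))) (.node (.node (.node (.leaf 0x6c) (.leaf 0x4dc)) (.node (.leaf 0x30c) (.leaf 0x0))) (.node (.node (.leaf 0x118) (.leaf 0x584)) (.node (.leaf 0x384) (.leaf 0x0))))) (.node (.node (.node (.node (.leaf 0x44)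 (.leaf 0x3b4)) (.node (.leaf 0x244) (.leaf 0x0))) (.node (.node (.leaf 0x1ac) (.leaf 0x544)) (.node (.leaf 0x428) (.leaf 0x0)))) (.node (.node (.node (.leaf 0xc4) (.leaf 0x4c4)) (.node (.leaf 0x27c) (.leaf 0x0))) (.node (.node (.leaf 0x15c) (.leaf 0x324)) (.node (.leaf 0x53c) (.leaf 0x0)))))) (.node (.node (.node (.node (.node (.leaf 0x7c) (.leaf 0x330)) (.node (.leaf 0x224) (.leaf 0x0))) (.node (.node (.leaf 0xbc) (.leaf 0x3ac)) (.node (.leaf 0x5c4) (.leaf 0x0)))) (.node (.node (.node (.leaf 0x110) (.leaf 0x4a4)) (.node (.leaf 0x2a4) (.leaf 0x0))) (.node (.node (.leaf 0x1a4) (.leaf 0x40c)) (.node (.leaf 0x3a4) (.leaf 0x0))))) (.node (.node (.node (.node (.leaf 0x20) (.leaf 0x464)) (.node (.leaf 0x2ac) (.leaf 0x0))) (.node (.node (.leaf 0x164) (.leaf 0x564)) (.node (.leaf 0x4d4) (.leaf 0x0)))) (.node (.node (.node (.leaf 0x1b4) (.leaf 0x4e4)) (.node (.leaf 0x2e4) (.leaf 0x0))) (.node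 (.node (.leaf 0x1e4) (.leaf 0x400)) (.node (.leaf 0x3e4) (.leaf 0x0))))))) (.node (.node (.node (.node (.node (.node (.leaf 0x58) (.leaf 0x5ac)) (.node (.leaf 0x214) (.leaf 0x0))) (.node (.node (.leaf 0xa8) (.leaf 0x514)) (.node (.leaf 0x2cc) (.leaf 0x0)))) (.node (.node (.node (.leaf 0x94) (.leaf 0x494)) (.node (.leaf 0x2de) (.leaf 0x0))) (.node (.node (.leaf 0x12c) (.leaf 0x358)) (.node (.leaf 0x504) (.leaf 0x0))))) (.node (.node (.node (.node (.leaf 0x78) (.leaf 0x534)) (.node (.leaf 0x2d4) (.leaf 0x0))) (.node (.node (.leaf 0xec) (.leaf 0x3ec)) (.node (.leaf 0x598) (.leaf 0x0)))) (.node (.node (.node (.leaf 0x13c) (.leaf 0x364)) (.node (.leaf 0x254) (.leaf 0x0))) (.node (.node (.leaf 0x1d4) (.leaf 0x3f4)) (.node (.leaf 0x3d4) (.leaf 0x0)))))) (.node (.node (.node (.node (.node (.leaf 0x34) (.leaf 0x338)) (.node (.leaf 0x234) (.leaf 0x0))) (.node (.node (.leaf 0x134) (.leaf 0x454))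 (.node (.leaf 0x420) (.leaf 0x0)))) (.node (.node (.node (.leaf 0x180) (.leaf 0x50c)) (.node (.leaf 0x2fc) (.leaf 0x0))) (.node (.node (.leaf 0xe4) (.leaf 0x41c)) (.node (.leaf 0x444) (.leaf 0x0))))) (.node (.node (.node (.node (.leaf 0x74) (.leaf 0x474)) (.node (.leaf 0x274) (.leaf 0x0))) (.node (.node (.leaf 0x174) (.leaf 0x574)) (.node (.leaf 0x374) (.leaf 0x0)))) (.node (.node (.node (.leaf 0xf4) (.leaf 0x4ac)) (.node (.leaf 0x26c) (.leaf 0x0))) (.node (.node (.leaf 0x208) (.leaf 0x0)) (.node (.leaf 0x5d4) (.leaf 0x0)))))))) (.node (.node (.node (.node (.node (.node (.node (.leaf 0x70) (.leaf 0x5a4)) (.node (.leaf 0x1f0) (.leaf 0x0))) (.node (.node (.leaf 0xa0) (.leaf 0x4b4)) (.node (.leaf 0x284) (.leaf 0x0)))) (.node (.node (.node (.leaf 0x8c) (.leaf 0x36c)) (.node (.leaf 0x24c) (.leaf 0x0))) (.node (.node (.leaf 0x120) (.leaf 0x348)) (.node (.leaf 0x4ec) (.leaf 0x0))))) (.node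 (.node (.node (.node (.leaf 0x8) (.leaf 0x44c)) (.node (.leaf 0x28c) (.leaf 0x0))) (.node (.node (.leaf 0x14c) (.leaf 0x47c)) (.node (.leaf 0x588) (.leaf 0x0)))) (.node (.node (.node (.leaf 0x19c) (.leaf 0x4cc)) (.node (.leaf 0x314) (.leaf 0x0))) (.node (.node (.leaf 0xfc) (.leaf 0x328)) (.node (.leaf 0x45c) (.leaf 0x0)))))) (.node (.node (.node (.node (.node (.leaf 0x2c) (.leaf 0x340)) (.node (.leaf 0x22c) (.leaf 0x0))) (.node (.node (.leaf 0x194) (.leaf 0x52c)) (.node (.leaf 0x5c8) (.leaf 0x0)))) (.node (.node (.node (.leaf 0x178) (.leaf 0x4f4)) (.node (.leaf 0x264) (.leaf 0x0))) (.node (.node (.leaf 0x144) (.leaf 0x414)) (.node (.leaf 0x524) (.leaf 0x0))))) (.node (.node (.node (.node (.leaf 0x84) (.leaf 0x3dc)) (.node (.leaf 0x2f4) (.leaf 0x0))) (.node (.node (.leaf 0x16c) (.leaf 0x56c)) (.node (.leaf 0x48c) (.leaf 0x0)))) (.node (.node (.node (.leaf 0x154) (.leaf 0x38c)) (.node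 (.leaf 0x2ec) (.leaf 0x0))) (.node (.node (.leaf 0x204) (.leaf 0x0)) (.node (.leaf 0x554) (.leaf 0x0))))))) (.node (.node (.node (.node (.node (.node (.leaf 0x1c) (.leaf 0x5b4)) (.node (.leaf 0x21c) (.leaf 0x0))) (.node (.node (.leaf 0x188) (.leaf 0x43c)) (.node (.leaf 0x5bc) (.leaf 0x0)))) (.node (.node (.node (.leaf 0x9c) (.leaf 0x37c)) (.node (.leaf 0x29c) (.leaf 0x0))) (.node (.node (.leaf 0xcc) (.leaf 0x350)) (.node (.leaf 0x4bc) (.leaf 0x0))))) (.node (.node (.node (.node (.leaf 0x5c) (.leaf 0x3cc)) (.node (.leaf 0x25c) (.leaf 0x0))) (.node (.node (.leaf 0x1c4) (.leaf 0x55c)) (.node (.leaf 0x590) (.leaf 0x0)))) (.node (.node (.node (.leaf 0xdc) (.leaf 0x484)) (.node (.leaf 0x295) (.leaf 0x0))) (.node (.node (.leaf 0x1fc) (.leaf 0x3fc)) (.node (.leaf 0x46c) (.leaf 0x0)))))) (.node (.node (.node (.node (.node (.leaf 0x3c) (.leaf 0x51c)) (.node (.leaf 0x23c) (.leaf 0x0))) (.node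 (.node (.leaf 0xd4) (.leaf 0x3c4)) (.node (.leaf 0x430) (.leaf 0x0)))) (.node (.node (.node (.leaf 0x124) (.leaf 0x39c)) (.node (.leaf 0x2bc) (.leaf 0x0))) (.node (.node (.leaf 0x1bc) (.leaf 0x31c)) (.node (.leaf 0x3bc) (.leaf 0x0))))) (.node (.node (.node (.node (.leaf 0x24) (.leaf 0x54c)) (.node (.leaf 0x2c4) (.leaf 0x0))) (.node (.node (.leaf 0xb0) (.leaf 0x57c)) (.node (.leaf 0x49c) (.leaf 0x0)))) (.node (.node (.node (.leaf 0x1cc) (.leaf 0x4fc)) (.node (.leaf 0x2b4) (.leaf 0x0))) (.node (.node (.leaf 0x1dc) (.leaf 0x0)) (.node (.leaf 0x5dc) (.leaf 0x0)))))))))), (.node (.node (.node (.node (.node (.node (.node (.node (.node (.leaf 0x0) (.leaf 0x580)) (.node (.leaf 0x200) (.leaf 0x0))) (.node (.node (.leaf 0x1b8) (.leaf 0x500)) (.node (.leaf 0x300) (.leaf 0x0)))) (.node (.node (.node (.leaf 0x80) (.leaf 0x4f8)) (.node (.leaf 0x280) (.leaf 0x0))) (.node (.node (.leaf 0xe8) (.leaf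 0x400)) (.node (.leaf 0x488) (.leaf 0x0))))) (.node (.node (.node (.node (.leaf 0x60) (.leaf 0x3e0)) (.node (.leaf 0x240) (.leaf 0x0))) (.node (.node (.leaf 0x18c) (.leaf 0x540)) (.node (.leaf 0x5ac) (.leaf 0x0)))) (.node (.node (.node (.leaf 0x1bc) (.leaf 0x4f0)) (.node (.leaf 0x2f0) (.leaf 0x0))) (.node (.node (.leaf 0x114) (.leaf 0x434)) (.node (.leaf 0x510) (.leaf 0x0)))))) (.node (.node (.node (.node (.node (.leaf 0x48) (.leaf 0x5bc)) (.node (.leaf 0x220) (.leaf 0x0))) (.node (.node (.leaf 0x120) (.leaf 0x468)) (.node (.leaf 0x41c) (.leaf 0x0)))) (.node (.node (.node (.leaf 0x158) (.leaf 0x398)) (.node (.leaf 0x2a0) (.leaf 0x0))) (.node (.node (.leaf 0xa8) (.leaf 0x334)) (.node (.leaf 0x3a0) (.leaf 0x0))))) (.node (.node (.node (.node (.leaf 0x40) (.leaf 0x548)) (.node (.leaf 0x260) (.leaf 0x0))) (.node (.node (.leaf 0x1a8) (.leaf 0x35c)) (.node (.leaf 0x4b0) (.leaf 0x0)))) (.node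 (.node (.node (.leaf 0x128) (.leaf 0x4e0)) (.node (.leaf 0x2b0) (.leaf 0x0))) (.node (.node (.leaf 0x1e0) (.leaf 0x5e0)) (.node (.leaf 0x440) (.leaf 0x0))))))) (.node (.node (.node (.node (.node (.node (.leaf 0x10) (.leaf 0x32c)) (.node (.leaf 0x210) (.leaf 0x0))) (.node (.node (.leaf 0xc4) (.leaf 0x3c0)) (.node (.leaf 0x298) (.leaf 0x0)))) (.node (.node (.node (.leaf 0x90) (.leaf 0x490)) (.node (.leaf 0x268) (.leaf 0x0))) (.node (.node (.leaf 0x190) (.leaf 0x590)) (.node (.leaf 0x4c8) (.leaf 0x0))))) (.node (.node (.node (.node (.leaf 0xc) (.leaf 0x3a8)) (.node (.leaf 0x2e8) (.leaf 0x0))) (.node (.node (.leaf 0x150) (.leaf 0x3b8)) (.node (.leaf 0x568) (.leaf 0x0)))) (.node (.node (.node (.leaf 0x1cc) (.leaf 0x498)) (.node (.leaf 0x2d0) (.leaf 0x0))) (.node (.node (.leaf 0x1d0) (.leaf 0x5d0)) (.node (.leaf 0x3d0) (.leaf 0x0)))))) (.node (.node (.node (.node (.node (.leaf 0x8) (.leaf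 0x5c4)) (.node (.leaf 0x1e8) (.leaf 0x0))) (.node (.node (.leaf 0x17c) (.leaf 0x3d8)) (.node (.leaf 0x5a4) (.leaf 0x0)))) (.node (.node (.node (.leaf 0x15c) (.leaf 0x360)) (.node (.leaf 0x2e0) (.leaf 0x0))) (.node (.node (.leaf 0x168) (.leaf 0x33c)) (.node (.leaf 0x3b0) (.leaf 0x0))))) (.node (.node (.node (.node (.leaf 0x70) (.leaf 0x3c8)) (.node (.leaf 0x2a8) (.leaf 0x0))) (.node (.node (.leaf 0xe4) (.leaf 0x3f0)) (.node (.leaf 0x4e8) (.leaf 0x0)))) (.node (.node (.node (.leaf 0x138) (.leaf 0x4c0)) (.node (.leaf 0x2c0) (.leaf 0x0))) (.node (.node (.leaf 0x23c) (.leaf 0x0)) (.node (.leaf 0x570) (.leaf 0x0)))))))) (.node (.node (.node (.node (.node (.node (.node (.leaf 0x30) (.leaf 0x31c)) (.node (.leaf 0x208) (.leaf 0x0))) (.node (.node (.leaf 0xbc) (.leaf 0x378)) (.node (.leaf 0x258) (.leaf 0x0)))) (.node (.node (.node (.leaf 0x88) (.leaf 0x380)) (.node (.leaf 0x288) (.leaf 0x0)))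 (.node (.node (.leaf 0x188) (.leaf 0x588)) (.node (.leaf 0x388) (.leaf 0x0))))) (.node (.node (.node (.node (.leaf 0x20) (.leaf 0x448)) (.node (.leaf 0x2b8) (.leaf 0x0))) (.node (.node (.leaf 0x148) (.leaf 0x460)) (.node (.leaf 0x55c) (.leaf 0x0)))) (.node (.node (.node (.leaf 0x1c4) (.leaf 0x390)) (.node (.leaf 0x2c8) (.leaf 0x0))) (.node (.node (.leaf 0x1c8) (.leaf 0x428)) (.node (.leaf 0x470) (.leaf 0x0)))))) (.node (.node (.node (.node (.node (.leaf 0x54) (.leaf 0x5c8)) (.node (.leaf 0x1d8) (.leaf 0x0))) (.node (.node (.leaf 0xe0) (.leaf 0x438)) (.node (.leaf 0x414) (.leaf 0x0)))) (.node (.node (.node (.leaf 0x1a0) (.leaf 0x4a8)) (.node (.leaf 0x270) (.leaf 0x0))) (.node (.node (.leaf 0x160) (.leaf 0x344)) (.node (.leaf 0x450) (.leaf 0x0))))) (.node (.node (.node (.node (.leaf 0x18) (.leaf 0x520)) (.node (.leaf 0x290) (.leaf 0x0))) (.node (.node (.leaf 0x1b0) (.leaf 0x350)) (.node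 (.leaf 0x368) (.leaf 0x0)))) (.node (.node (.node (.leaf 0x180) (.leaf 0x370)) (.node (.leaf 0x250) (.leaf 0x0))) (.node (.node (.leaf 0x230) (.leaf 0x0)) (.node (.leaf 0x3e8) (.leaf 0x0))))))) (.node (.node (.node (.node (.node (.node (.leaf 0x68) (.leaf 0x324)) (.node (.leaf 0x218) (.leaf 0x0))) (.node (.node (.leaf 0xd8) (.leaf 0x518)) (.node (.leaf 0x40c) (.leaf 0x0)))) (.node (.node (.node (.leaf 0x19c) (.leaf 0x4d0)) (.node (.leaf 0x310) (.leaf 0x0))) (.node (.node (.leaf 0x198) (.leaf 0x598)) (.node (.leaf 0x4a0) (.leaf 0x0))))) (.node (.node (.node (.node (.leaf 0x58) (.leaf 0x458)) (.node (.leaf 0x308) (.leaf 0x0))) (.node (.node (.leaf 0xa0) (.leaf 0x34c)) (.node (.leaf 0x564) (.leaf 0x0)))) (.node (.node (.node (.leaf 0x118) (.leaf 0x4d8)) (.node (.leaf 0x278) (.leaf 0x0))) (.node (.node (.leaf 0x228) (.leaf 0x5d8)) (.node (.leaf 0x530) (.leaf 0x0)))))) (.node (.node (.node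 (.node (.node (.leaf 0x38) (.leaf 0x528)) (.node (.leaf 0x1f4) (.leaf 0x0))) (.node (.node (.leaf 0xf0) (.leaf 0x538)) (.node (.leaf 0x5b4) (.leaf 0x0)))) (.node (.node (.node (.leaf 0xb8) (.leaf 0x4b8)) (.node (.leaf 0x248) (.leaf 0x0))) (.node (.node (.leaf 0x100) (.leaf 0x424)) (.node (.leaf 0x550) (.leaf 0x0))))) (.node (.node (.node (.node (.leaf 0x78) (.leaf 0x478)) (.node (.leaf 0x2d8) (.leaf 0x0))) (.node (.node (.leaf 0x178) (.leaf 0x3f8)) (.node (.leaf 0x508) (.leaf 0x0)))) (.node (.node (.node (.leaf 0x184) (.leaf 0x480)) (.node (.leaf 0x2f8) (.leaf 0x0))) (.node (.node (.leaf 0x1f8) (.leaf 0x0)) (.node (.leaf 0x578) (.leaf 0x0))))))))) (.node (.node (.node (.node (.node (.node (.node (.node (.leaf 0x4) (.leaf 0x584)) (.node (.leaf 0x204) (.leaf 0x0))) (.node (.node (.leaf 0x104) (.leaf 0x504)) (.node (.leaf 0x304) (.leaf 0x0)))) (.node (.node (.node (.leaf 0x84) (.leaf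 0x4fc)) (.node (.leaf 0x284) (.leaf 0x0))) (.node (.node (.leaf 0xf8) (.leaf 0x404)) (.node (.leaf 0x48c) (.leaf 0x0))))) (.node (.node (.node (.node (.leaf 0x44) (.leaf 0x3e4)) (.node (.leaf 0x244) (.leaf 0x0))) (.node (.node (.leaf 0x144) (.leaf 0x544)) (.node (.leaf 0x5a8) (.leaf 0x0)))) (.node (.node (.node (.leaf 0x110) (.leaf 0x4f4)) (.node (.leaf 0x2f5) (.leaf 0x0))) (.node (.node (.leaf 0xc8) (.leaf 0x430)) (.node (.leaf 0x514) (.leaf 0x0)))))) (.node (.node (.node (.node (.node (.leaf 0x5c) (.leaf 0x5b8)) (.node (.leaf 0x224) (.leaf 0x0))) (.node (.node (.leaf 0x124) (.leaf 0x46c)) (.node (.leaf 0x418) (.leaf 0x0)))) (.node (.node (.node (.leaf 0xa4) (.leaf 0x39c)) (.node (.leaf 0x2a4) (.leaf 0x0))) (.node (.node (.leaf 0xac) (.leaf 0x330)) (.node (.leaf 0x3a4) (.leaf 0x0))))) (.node (.node (.node (.node (.leaf 0x64) (.leaf 0x54c)) (.node (.leaf 0x264) (.leaf 0x0))) (.node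 (.node (.leaf 0x1ac) (.leaf 0x358)) (.node (.leaf 0x4b4) (.leaf 0x0)))) (.node (.node (.node (.leaf 0x170) (.leaf 0x4e4)) (.node (.leaf 0x2b4) (.leaf 0x0))) (.node (.node (.leaf 0x1e4) (.leaf 0x5e4)) (.node (.leaf 0x444) (.leaf 0x0))))))) (.node (.node (.node (.node (.node (.node (.leaf 0x3c) (.leaf 0x328)) (.node (.leaf 0x214) (.leaf 0x0))) (.node (.node (.leaf 0x1c0) (.leaf 0x3c4)) (.node (.leaf 0x29c) (.leaf 0x0)))) (.node (.node (.node (.leaf 0x94) (.leaf 0x494)) (.node (.leaf 0x26c) (.leaf 0x0))) (.node (.node (.leaf 0x194) (.leaf 0x594)) (.node (.leaf 0x4cc) (.leaf 0x0))))) (.node (.node (.node (.node (.leaf 0x28) (.leaf 0x3ac)) (.node (.leaf 0x2ec) (.leaf 0x0))) (.node (.node (.leaf 0x9c) (.leaf 0x3bc)) (.node (.leaf 0x56c) (.leaf 0x0)))) (.node (.node (.node (.leaf 0xd4) (.leaf 0x49c)) (.node (.leaf 0x2d4) (.leaf 0x0))) (.node (.node (.leaf 0x11c) (.leaf 0x5d4)) (.node (.leaf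 0x3d4) (.leaf 0x0)))))) (.node (.node (.node (.node (.node (.leaf 0x6c) (.leaf 0x5c0)) (.node (.leaf 0x1ec) (.leaf 0x0))) (.node (.node (.leaf 0x134) (.leaf 0x3dc)) (.node (.leaf 0x5a0) (.leaf 0x0)))) (.node (.node (.node (.leaf 0xb4) (.leaf 0x364)) (.node (.leaf 0x2e4) (.leaf 0x0))) (.node (.node (.leaf 0x1b4) (.leaf 0x338)) (.node (.leaf 0x3b4) (.leaf 0x0))))) (.node (.node (.node (.node (.leaf 0x74) (.leaf 0x3cc)) (.node (.leaf 0x2ac) (.leaf 0x0))) (.node (.node (.leaf 0x174) (.leaf 0x3f4)) (.node (.leaf 0x4ec) (.leaf 0x0)))) (.node (.node (.node (.leaf 0x13c) (.leaf 0x4c4)) (.node (.leaf 0x2c6) (.leaf 0x0))) (.node (.node (.leaf 0x238) (.leaf 0x0)) (.node (.leaf 0x574) (.leaf 0x0)))))))) (.node (.node (.node (.node (.node (.node (.node (.leaf 0x50) (.leaf 0x318)) (.node (.leaf 0x20c) (.leaf 0x0))) (.node (.node (.leaf 0x10c) (.leaf 0x37c)) (.node (.leaf 0x25c) (.leaf 0x0)))) (.node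 (.node (.node (.leaf 0x8c) (.leaf 0x384)) (.node (.leaf 0x28c) (.leaf 0x0))) (.node (.node (.leaf 0x140) (.leaf 0x58c)) (.node (.leaf 0x38c) (.leaf 0x0))))) (.node (.node (.node (.node (.leaf 0x4c) (.leaf 0x44c)) (.node (.leaf 0x2bc) (.leaf 0x0))) (.node (.node (.leaf 0x14c) (.leaf 0x464)) (.node (.leaf 0x558) (.leaf 0x0)))) (.node (.node (.node (.leaf 0xcc) (.leaf 0x394)) (.node (.leaf 0x2cc) (.leaf 0x0))) (.node (.node (.leaf 0xd0) (.leaf 0x42c)) (.node (.leaf 0x474) (.leaf 0x0)))))) (.node (.node (.node (.node (.node (.leaf 0x2c) (.leaf 0x5cc)) (.node (.leaf 0x1dc) (.leaf 0x0))) (.node (.node (.leaf 0x16c) (.leaf 0x43c)) (.node (.leaf 0x410) (.leaf 0x0)))) (.node (.node (.node (.leaf 0x1a4) (.leaf 0x4ac)) (.node (.leaf 0x274) (.leaf 0x0))) (.node (.node (.leaf 0x164) (.leaf 0x340)) (.node (.leaf 0x454) (.leaf 0x0))))) (.node (.node (.node (.node (.leaf 0x34) (.leaf 0x524)) (.node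 (.leaf 0x294) (.leaf 0x0))) (.node (.node (.leaf 0x12c) (.leaf 0x354)) (.node (.leaf 0x36c) (.leaf 0x0)))) (.node (.node (.node (.leaf 0xec) (.leaf 0x374)) (.node (.leaf 0x254) (.leaf 0x0))) (.node (.node (.leaf 0x234) (.leaf 0x0)) (.node (.leaf 0x3ec) (.leaf 0x0))))))) (.node (.node (.node (.node (.node (.node (.leaf 0x1c) (.leaf 0x320)) (.node (.leaf 0x21c) (.leaf 0x0))) (.node (.node (.leaf 0x1d4) (.leaf 0x51c)) (.node (.leaf 0x408) (.leaf 0x0)))) (.node (.node (.node (.leaf 0x154) (.leaf 0x4d4)) (.node (.leaf 0x314) (.leaf 0x0))) (.node (.node (.leaf 0x98) (.leaf 0x59c)) (.node (.leaf 0x4a4) (.leaf 0x0))))) (.node (.node (.node (.node (.leaf 0x24) (.leaf 0x45c)) (.node (.leaf 0x30c) (.leaf 0x0))) (.node (.node (.leaf 0xb0) (.leaf 0x348)) (.node (.leaf 0x560) (.leaf 0x0)))) (.node (.node (.node (.leaf 0xdc) (.leaf 0x4dc)) (.node (.leaf 0x27c) (.leaf 0x0))) (.node (.node (.leaf 0x22c)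 (.leaf 0x5dc)) (.node (.leaf 0x534) (.leaf 0x0)))))) (.node (.node (.node (.node (.node (.leaf 0x14) (.leaf 0x52c)) (.node (.leaf 0x1f0) (.leaf 0x0))) (.node (.node (.leaf 0xf4) (.leaf 0x53c)) (.node (.leaf 0x5b0) (.leaf 0x0)))) (.node (.node (.node (.leaf 0x108) (.leaf 0x4bc)) (.node (.leaf 0x24c) (.leaf 0x0))) (.node (.node (.leaf 0xc0) (.leaf 0x420)) (.node (.leaf 0x554) (.leaf 0x0))))) (.node (.node (.node (.node (.leaf 0x7c) (.leaf 0x47c)) (.node (.leaf 0x2dc) (.leaf 0x0))) (.node (.node (.leaf 0x130) (.leaf 0x3fc)) (.node (.leaf 0x50c) (.leaf 0x0)))) (.node (.node (.node (.leaf 0xfc) (.leaf 0x484)) (.node (.leaf 0x2fc) (.leaf 0x0))) (.node (.node (.leaf 0x1fc) (.leaf 0x0)) (.node (.leaf 0x57c) (.leaf 0x0)))))))))), (.node (.node (.node (.node (.node (.node (.node (.node (.node (.leaf 0xc4) (.leaf 0x1a8)) (.node (.leaf 0x200) (.leaf 0x0))) (.node (.node (.leaf 0x4c4) (.leaf 0x500))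 (.node (.leaf 0x370) (.leaf 0x0)))) (.node (.node (.node (.leaf 0x298) (.leaf 0x58)) (.node (.leaf 0xc) (.leaf 0x0))) (.node (.node (.leaf 0x2c6) (.leaf 0x4fc)) (.node (.leaf 0x2c) (.leaf 0x0))))) (.node (.node (.node (.node (.leaf 0x3d0) (.leaf 0x78)) (.node (.leaf 0x240) (.leaf 0x0))) (.node (.node (.leaf 0x2ec) (.leaf 0x510)) (.node (.leaf 0x18c) (.leaf 0x0)))) (.node (.node (.node (.leaf 0x5c0) (.leaf 0x8c)) (.node (.leaf 0x4c) (.leaf 0x0))) (.node (.node (.leaf 0x348) (.leaf 0xc0)) (.node (.leaf 0x3c0) (.leaf 0x0)))))) (.node (.node (.node (.node (.node (.leaf 0x20) (.leaf 0x36c)) (.node (.leaf 0x220) (.leaf 0x0))) (.node (.node (.leaf 0x42c) (.leaf 0x548)) (.node (.leaf 0x190) (.leaf 0x0)))) (.node (.node (.node (.leaf 0x588) (.leaf 0x30)) (.node (.leaf 0x48) (.leaf 0x0))) (.node (.node (.leaf 0x1a0) (.leaf 0xac)) (.node (.leaf 0x5c) (.leaf 0x0))))) (.node (.node (.node (.node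 (.leaf 0x60) (.leaf 0x34)) (.node (.leaf 0x260) (.leaf 0x0))) (.node (.node (.leaf 0x484) (.leaf 0x4e4)) (.node (.leaf 0x88) (.leaf 0x0)))) (.node (.node (.node (.leaf 0xe0) (.leaf 0x4e0)) (.node (.leaf 0x68) (.leaf 0x0))) (.node (.node (.leaf 0x1e0) (.leaf 0xbc)) (.node (.leaf 0x3e0) (.leaf 0x0))))))) (.node (.node (.node (.node (.node (.node (.leaf 0x4c8) (.leaf 0x410)) (.node (.leaf 0x474) (.leaf 0x0))) (.node (.node (.leaf 0x110) (.leaf 0x540)) (.node (.leaf 0x310) (.leaf 0x0)))) (.node (.node (.node (.leaf 0x90) (.leaf 0x2b8)) (.node (.leaf 0x4b8) (.leaf 0x0))) (.node (.node (.leaf 0x320) (.leaf 0x590)) (.node (.leaf 0x390) (.leaf 0x0))))) (.node (.node (.node (.node (.leaf 0x50) (.leaf 0x450)) (.node (.leaf 0x250) (.leaf 0x0))) (.node (.node (.leaf 0x344) (.leaf 0x518)) (.node (.leaf 0x350) (.leaf 0x0)))) (.node (.node (.node (.leaf 0x56c) (.leaf 0x18)) (.node (.leaf 0x2d0) (.leaf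 0x0))) (.node (.node (.leaf 0x1d0) (.leaf 0x5d0)) (.node (.leaf 0x40) (.leaf 0x0)))))) (.node (.node (.node (.node (.node (.leaf 0x4a0) (.leaf 0x430)) (.node (.leaf 0x44c) (.leaf 0x0))) (.node (.node (.leaf 0x1fc) (.leaf 0x530)) (.node (.leaf 0x330) (.leaf 0x0)))) (.node (.node (.node (.leaf 0xb0) (.leaf 0x4b0)) (.node (.leaf 0x498) (.leaf 0x0))) (.node (.node (.leaf 0x2a4) (.leaf 0x504)) (.node (.leaf 0x54) (.leaf 0x0))))) (.node (.node (.node (.node (.leaf 0x308) (.leaf 0x470)) (.node (.leaf 0x4) (.leaf 0x0))) (.node (.node (.leaf 0x218) (.leaf 0x94)) (.node (.leaf 0x300) (.leaf 0x0)))) (.node (.node (.node (.leaf 0x58c) (.leaf 0x4f0)) (.node (.leaf 0x2f0) (.leaf 0x0))) (.node (.node (.leaf 0x1f0) (.leaf 0x0)) (.node (.leaf 0x3f0) (.leaf 0x0)))))))) (.node (.node (.node (.node (.node (.node (.node (.leaf 0x278) (.leaf 0x178)) (.node (.leaf 0x454) (.leaf 0x0))) (.node (.node (.leaf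 0x108) (.leaf 0x508)) (.node (.leaf 0x70) (.leaf 0x0)))) (.node (.node (.node (.leaf 0x360) (.leaf 0x488)) (.node (.leaf 0x288) (.leaf 0x0))) (.node (.node (.leaf 0x46c) (.leaf 0xa0)) (.node (.leaf 0x388) (.leaf 0x0))))) (.node (.node (.node (.node (.leaf 0x2a0) (.leaf 0x448)) (.node (.leaf 0x248) (.leaf 0x0))) (.node (.node (.leaf 0x148) (.leaf 0x520)) (.node (.leaf 0x1c0) (.leaf 0x0)))) (.node (.node (.node (.leaf 0x1dc) (.leaf 0x10)) (.node (.leaf 0x2c8) (.leaf 0x0))) (.node (.node (.leaf 0x1c8) (.leaf 0x4f4)) (.node (.leaf 0x458) (.leaf 0x0)))))) (.node (.node (.node (.node (.node (.leaf 0x28) (.leaf 0x1b8)) (.node (.leaf 0x228) (.leaf 0x0))) (.node (.node (.leaf 0x3d4) (.leaf 0x528)) (.node (.leaf 0x328) (.leaf 0x0)))) (.node (.node (.node (.leaf 0x284) (.leaf 0x4a8)) (.node (.leaf 0x2a8) (.leaf 0x0))) (.node (.node (.leaf 0x400) (.leaf 0x5a8)) (.node (.leaf 0x478) (.leaf 0x0)))))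 (.node (.node (.node (.node (.leaf 0x2e0) (.leaf 0x6c)) (.node (.leaf 0x268) (.leaf 0x0))) (.node (.node (.leaf 0x168) (.leaf 0xb8)) (.node (.leaf 0x368) (.leaf 0x0)))) (.node (.node (.node (.leaf 0x574) (.leaf 0x4e8)) (.node (.leaf 0x39) (.leaf 0x0))) (.node (.node (.leaf 0x1e8) (.leaf 0x0)) (.node (.leaf 0x438) (.leaf 0x0))))))) (.node (.node (.node (.node (.node (.node (.leaf 0x4d0) (.leaf 0x394)) (.node (.leaf 0x170) (.leaf 0x0))) (.node (.node (.leaf 0x118) (.leaf 0x550)) (.node (.leaf 0x2ac) (.leaf 0x0)))) (.node (.node (.node (.leaf 0x98) (.leaf 0x2b0)) (.node (.leaf 0x80) (.leaf 0x0))) (.node (.node (.leaf 0x464) (.leaf 0x50c)) (.node (.leaf 0x2d8) (.leaf 0x0))))) (.node (.node (.node (.node (.leaf 0x480) (.leaf 0x3c8)) (.node (.leaf 0x258) (.leaf 0x0))) (.node (.node (.leaf 0x158) (.leaf 0x558)) (.node (.leaf 0x28c) (.leaf 0x0)))) (.node (.node (.node (.leaf 0x5e4) (.leaf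 0x14)) (.node (.leaf 0x398) (.leaf 0x0))) (.node (.node (.leaf 0xcc) (.leaf 0x4ec)) (.node (.leaf 0x84) (.leaf 0x0)))))) (.node (.node (.node (.node (.node (.leaf 0x2ea) (.leaf 0x3e8)) (.node (.leaf 0x1d4) (.leaf 0x0))) (.node (.node (.leaf 0x138) (.leaf 0x538)) (.node (.leaf 0x2cc) (.leaf 0x0)))) (.node (.node (.node (.leaf 0x568) (.leaf 0x290)) (.node (.leaf 0x490) (.leaf 0x0))) (.node (.node (.leaf 0x428) (.leaf 0x264)) (.node (.leaf 0x3b8) (.leaf 0x0))))) (.node (.node (.node (.node (.leaf 0x440) (.leaf 0x3a8)) (.node (.leaf 0x8) (.leaf 0x0))) (.node (.node (.leaf 0x408) (.leaf 0x578)) (.node (.leaf 0x2f8) (.leaf 0x0)))) (.node (.node (.node (.leaf 0x4dc) (.leaf 0x4f8)) (.node (.leaf 0x378) (.leaf 0x0))) (.node (.node (.leaf 0x19c) (.leaf 0x0)) (.node (.leaf 0x38c) (.leaf 0x0))))))))) (.node (.node (.node (.node (.node (.node (.node (.node (.leaf 0x270) (.leaf 0x124)) (.node (.leaf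 0x3c4) (.leaf 0x0))) (.node (.node (.leaf 0x23e) (.leaf 0x5b0)) (.node (.leaf 0x304) (.leaf 0x0)))) (.node (.node (.node (.leaf 0x3d8) (.leaf 0x160)) (.node (.leaf 0xa8) (.leaf 0x0))) (.node (.node (.leaf 0x184) (.leaf 0x584)) (.node (.leaf 0x1a4) (.leaf 0x0))))) (.node (.node (.node (.node (.leaf 0x44) (.leaf 0x1c4)) (.node (.leaf 0x57c) (.leaf 0x0))) (.node (.node (.leaf 0x144) (.leaf 0x544)) (.node (.leaf 0x150) (.leaf 0x0)))) (.node (.node (.node (.leaf 0x0) (.leaf 0x100)) (.node (.leaf 0x181) (.leaf 0x0))) (.node (.node (.leaf 0x444) (.leaf 0xd4)) (.node (.leaf 0x204) (.leaf 0x0)))))) (.node (.node (.node (.node (.node (.leaf 0x24) (.leaf 0x424)) (.node (.leaf 0x3bc) (.leaf 0x0))) (.node (.node (.leaf 0x404) (.leaf 0x524)) (.node (.leaf 0x13c) (.leaf 0x0)))) (.node (.node (.node (.leaf 0xa4) (.leaf 0x134)) (.node (.leaf 0x1b0) (.leaf 0x0))) (.node (.node (.leaf 0x384) (.leaf 0xec))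 (.node (.leaf 0x16c) (.leaf 0x0))))) (.node (.node (.node (.node (.leaf 0x64) (.leaf 0x198)) (.node (.leaf 0x5b8) (.leaf 0x0))) (.node (.node (.leaf 0x21c) (.leaf 0x564)) (.node (.leaf 0x1cc) (.leaf 0x0)))) (.node (.node (.node (.leaf 0xe4) (.leaf 0x560)) (.node (.leaf 0x14c) (.leaf 0x0))) (.node (.node (.leaf 0x52c) (.leaf 0xd8)) (.node (.leaf 0x22c) (.leaf 0x0))))))) (.node (.node (.node (.node (.node (.node (.leaf 0x4d8) (.leaf 0x2d4)) (.node (.leaf 0x214) (.leaf 0x0))) (.node (.node (.leaf 0x30c) (.leaf 0x514)) (.node (.leaf 0x434) (.leaf 0x0)))) (.node (.node (.node (.leaf 0x570) (.leaf 0x494)) (.node (.leaf 0x294) (.leaf 0x0))) (.node (.node (.leaf 0x194) (.leaf 0x24c)) (.node (.leaf 0x418) (.leaf 0x0))))) (.node (.node (.node (.node (.leaf 0x3b0) (.leaf 0x208)) (.node (.leaf 0x5ac) (.leaf 0x0))) (.node (.node (.leaf 0x40c) (.leaf 0x554)) (.node (.leaf 0x4b4) (.leaf 0x0)))) (.node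 (.node (.node (.leaf 0x5c4) (.leaf 0xfc)) (.node (.leaf 0x414) (.leaf 0x0))) (.node (.node (.leaf 0x238) (.leaf 0x26c)) (.node (.leaf 0x128) (.leaf 0x0)))))) (.node (.node (.node (.node (.node (.leaf 0x460) (.leaf 0x314)) (.node (.leaf 0x234) (.leaf 0x0))) (.node (.node (.leaf 0x4a4) (.leaf 0x1f4)) (.node (.leaf 0x48c) (.leaf 0x0)))) (.node (.node (.node (.leaf 0x27e) (.leaf 0x354)) (.node (.leaf 0x2b4) (.leaf 0x0))) (.node (.node (.leaf 0x1b4) (.leaf 0x5b4)) (.node (.leaf 0x15c) (.leaf 0x0))))) (.node (.node (.node (.node (.leaf 0x74) (.leaf 0x210)) (.node (.leaf 0x9c) (.leaf 0x0))) (.node (.node (.leaf 0x174) (.leaf 0xe8)) (.node (.leaf 0x374) (.leaf 0x0)))) (.node (.node (.node (.leaf 0x4cc) (.leaf 0x5c8)) (.node (.leaf 0x3f4) (.leaf 0x0))) (.node (.node (.leaf 0x534) (.leaf 0x0)) (.node (.leaf 0x2f4) (.leaf 0x0)))))))) (.node (.node (.node (.node (.node (.node (.node (.leaf 0x280)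 (.leaf 0x154)) (.node (.leaf 0x20c) (.leaf 0x0))) (.node (.node (.leaf 0x34c) (.leaf 0x598)) (.node (.leaf 0x114) (.leaf 0x0)))) (.node (.node (.node (.leaf 0x4c0) (.leaf 0x334)) (.node (.leaf 0x358) (.leaf 0x0))) (.node (.node (.leaf 0x340) (.leaf 0xf0)) (.node (.leaf 0x3f8) (.leaf 0x0))))) (.node (.node (.node (.node (.leaf 0x2c0) (.leaf 0x230)) (.node (.leaf 0x594) (.leaf 0x0))) (.node (.node (.leaf 0x2e4) (.leaf 0x54c)) (.node (.leaf 0x10c) (.leaf 0x0)))) (.node (.node (.node (.leaf 0x1d8) (.leaf 0xf4)) (.node (.leaf 0x338) (.leaf 0x0))) (.node (.node (.leaf 0x364) (.leaf 0x5cc)) (.node (.leaf 0x3cc) (.leaf 0x0)))))) (.node (.node (.node (.node (.node (.leaf 0x380) (.leaf 0x120)) (.node (.leaf 0x3e4) (.leaf 0x0))) (.node (.node (.leaf 0x12c) (.leaf 0x1e4)) (.node (.leaf 0x4ac) (.leaf 0x0)))) (.node (.node (.node (.leaf 0x5a0) (.leaf 0x32c)) (.node (.leaf 0x318) (.leaf 0x0))) (.node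 (.node (.leaf 0x1ac) (.leaf 0x254)) (.node (.leaf 0x3ac) (.leaf 0x0))))) (.node (.node (.node (.node (.leaf 0x468) (.leaf 0x188)) (.node (.leaf 0x5d4) (.leaf 0x0))) (.node (.node (.leaf 0x3a4) (.leaf 0xd0)) (.node (.leaf 0x420) (.leaf 0x0)))) (.node (.node (.node (.leaf 0x5a4) (.leaf 0x5d8)) (.node (.leaf 0x140) (.leaf 0x0))) (.node (.node (.leaf 0x53c) (.leaf 0x0)) (.node (.leaf 0x3ec) (.leaf 0x0))))))) (.node (.node (.node (.node (.node (.node (.leaf 0x1c) (.leaf 0x41c)) (.node (.leaf 0x164) (.leaf 0x0))) (.node (.node (.leaf 0x3dc) (.leaf 0x51c)) (.node (.leaf 0x31c) (.leaf 0x0)))) (.node (.node (.node (.leaf 0x274) (.leaf 0x49c)) (.node (.leaf 0x1bc) (.leaf 0x0))) (.node (.node (.leaf 0x1f8) (.leaf 0x59c)) (.node (.leaf 0x39c) (.leaf 0x0))))) (.node (.node (.node (.node (.leaf 0x3a0) (.leaf 0x45c)) (.node (.leaf 0x55c) (.leaf 0x0))) (.node (.node (.leaf 0x3b4) (.leaf 0x25c)) (.node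 (.leaf 0x35c) (.leaf 0x0)))) (.node (.node (.node (.leaf 0xdc) (.leaf 0xf8)) (.node (.leaf 0x2dc) (.leaf 0x0))) (.node (.node (.leaf 0xc8) (.leaf 0x5dc)) (.node (.leaf 0x11c) (.leaf 0x0)))))) (.node (.node (.node (.node (.node (.leaf 0x3c) (.leaf 0x43c)) (.node (.leaf 0x105) (.leaf 0x0))) (.node (.node (.leaf 0x324) (.leaf 0x1ec)) (.node (.leaf 0x33c) (.leaf 0x0)))) (.node (.node (.node (.leaf 0x5e0) (.leaf 0x4bc)) (.node (.leaf 0x2bc) (.leaf 0x0))) (.node (.node (.leaf 0x29c) (.leaf 0x5bc)) (.node (.leaf 0x224) (.leaf 0x0))))) (.node (.node (.node (.node (.leaf 0x7c) (.leaf 0x47c)) (.node (.leaf 0xb5) (.leaf 0x0))) (.node (.node (.leaf 0x17c) (.leaf 0x244)) (.node (.leaf 0x37c) (.leaf 0x0)))) (.node (.node (.node (.leaf 0x4d4) (.leaf 0x580)) (.node (.leaf 0x2fc) (.leaf 0x0))) (.node (.node (.leaf 0x130) (.leaf 0x0)) (.node (.leaf 0x3fc) (.leaf 0x0)))))))))), (.node (.node (.node (.node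 (.node (.node (.node (.node (.node (.leaf 0x0) (.leaf 0x390)) (.node (.leaf 0x47a) (.leaf 0x0))) (.node (.node (.leaf 0x1b1) (.leaf 0x5e4)) (.node (.leaf 0x3a4) (.leaf 0x0)))) (.node (.node (.node (.leaf 0x174) (.leaf 0x354)) (.node (.leaf 0x5d4) (.leaf 0x0))) (.node (.node (.leaf 0x180) (.leaf 0x4c8)) (.node (.leaf 0x380) (.leaf 0x0))))) (.node (.node (.node (.node (.leaf 0x1d4) (.leaf 0x3cc)) (.node (.leaf 0x4e6) (.leaf 0x0))) (.node (.node (.leaf 0x16c) (.leaf 0x1e0)) (.node (.leaf 0x340) (.leaf 0x0)))) (.node (.node (.node (.leaf 0x14) (.leaf 0x2bc)) (.node (.leaf 0x318) (.leaf 0x0))) (.node (.node (.leaf 0x1c0) (.leaf 0x50c)) (.node (.leaf 0x3c0) (.leaf 0x0)))))) (.node (.node (.node (.node (.node (.leaf 0x20) (.leaf 0x2dc)) (.node (.leaf 0x3d4) (.leaf 0x0))) (.node (.node (.leaf 0x194) (.leaf 0x520)) (.node (.leaf 0x4b4) (.leaf 0x0)))) (.node (.node (.node (.leaf 0x8) (.leaf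 0x4a0)) (.node (.leaf 0x494) (.leaf 0x0))) (.node (.node (.leaf 0x1a0) (.leaf 0x26d)) (.node (.leaf 0x304) (.leaf 0x0))))) (.node (.node (.node (.node (.leaf 0x11c) (.leaf 0x231)) (.node (.leaf 0x58c) (.leaf 0x0))) (.node (.node (.leaf 0x160) (.leaf 0x560)) (.node (.leaf 0x418) (.leaf 0x0)))) (.node (.node (.node (.leaf 0xe0) (.leaf 0x244)) (.node (.leaf 0x2e0) (.leaf 0x0))) (.node (.node (.leaf 0x540) (.leaf 0x504)) (.node (.leaf 0x474) (.leaf 0x0))))))) (.node (.node (.node (.node (.node (.node (.leaf 0xb8) (.leaf 0x410)) (.node (.leaf 0x210) (.leaf 0x0))) (.node (.node (.leaf 0x19c) (.leaf 0x510)) (.node (.leaf 0x310) (.leaf 0x0)))) (.node (.node (.node (.leaf 0x188) (.leaf 0x2a4)) (.node (.leaf 0x330) (.leaf 0x0))) (.node (.node (.leaf 0x58) (.leaf 0x590)) (.node (.leaf 0x400) (.leaf 0x0))))) (.node (.node (.node (.node (.leaf 0x1a6) (.leaf 0x450)) (.node (.leaf 0x4ec) (.leaf 0x0)))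 (.node (.node (.leaf 0x1d1) (.leaf 0x1f0)) (.node (.leaf 0x484) (.leaf 0x0)))) (.node (.node (.node (.leaf 0xd0) (.leaf 0x5b0)) (.node (.leaf 0x38c) (.leaf 0x0))) (.node (.node (.leaf 0x152) (.leaf 0x284)) (.node (.leaf 0x224) (.leaf 0x0)))))) (.node (.node (.node (.node (.node (.leaf 0x158) (.leaf 0x378)) (.node (.leaf 0x462) (.leaf 0x0))) (.node (.node (.leaf 0x17c) (.leaf 0x530)) (.node (.leaf 0x290) (.leaf 0x0)))) (.node (.node (.node (.leaf 0xc8) (.leaf 0x324)) (.node (.leaf 0x2b0) (.leaf 0x0))) (.node (.node (.leaf 0x102) (.leaf 0x4d0)) (.node (.leaf 0x45c) (.leaf 0x0))))) (.node (.node (.node (.node (.leaf 0x17a) (.leaf 0x3e4)) (.node (.leaf 0x55c) (.leaf 0x0))) (.node (.node (.leaf 0x170) (.leaf 0x25c)) (.node (.leaf 0x2ec) (.leaf 0x0)))) (.node (.node (.node (.leaf 0xf0) (.leaf 0x24c)) (.node (.leaf 0x40c) (.leaf 0x0))) (.node (.node (.leaf 0x550) (.leaf 0x0)) (.node (.leaf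 0x30c) (.leaf 0x0)))))))) (.node (.node (.node (.node (.node (.node (.node (.leaf 0xa0) (.leaf 0x2f5)) (.node (.leaf 0x3ec) (.leaf 0x0))) (.node (.node (.leaf 0x68) (.leaf 0x5c4)) (.node (.leaf 0x3f4) (.leaf 0x0)))) (.node (.node (.node (.leaf 0x124) (.leaf 0x488)) (.node (.leaf 0x4ae) (.leaf 0x0))) (.node (.node (.leaf 0x90) (.leaf 0x264)) (.node (.leaf 0x2d4) (.leaf 0x0))))) (.node (.node (.node (.node (.leaf 0x48) (.leaf 0x218)) (.node (.leaf 0x4f6) (.leaf 0x0))) (.node (.node (.leaf 0x148) (.leaf 0x1e9)) (.node (.leaf 0x2a8) (.leaf 0x0)))) (.node (.node (.node (.leaf 0xb0) (.leaf 0x580)) (.node (.leaf 0x2c8) (.leaf 0x0))) (.node (.node (.leaf 0x2c) (.leaf 0x5c8)) (.node (.leaf 0x444) (.leaf 0x0)))))) (.node (.node (.node (.node (.node (.leaf 0x28) (.leaf 0x428)) (.node (.leaf 0x228) (.leaf 0x0))) (.node (.node (.leaf 0x128) (.leaf 0x528)) (.node (.leaf 0x328) (.leaf 0x0)))) (.node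 (.node (.node (.leaf 0xa8) (.leaf 0x28c)) (.node (.leaf 0x348) (.leaf 0x0))) (.node (.node (.leaf 0x1a8) (.leaf 0x5a8)) (.node (.leaf 0x3a8) (.leaf 0x0))))) (.node (.node (.node (.node (.leaf 0x108) (.leaf 0x468)) (.node (.leaf 0x5a4) (.leaf 0x0))) (.node (.node (.leaf 0x1ba) (.leaf 0x4fc)) (.node (.leaf 0x368) (.leaf 0x0)))) (.node (.node (.node (.leaf 0xe8) (.leaf 0x254)) (.node (.leaf 0x374) (.leaf 0x0))) (.node (.node (.leaf 0x54a) (.leaf 0x0)) (.node (.leaf 0x20c) (.leaf 0x0))))))) (.node (.node (.node (.node (.node (.node (.leaf 0xbc) (.leaf 0x360)) (.node (.leaf 0x448) (.leaf 0x0))) (.node (.node (.leaf 0x118) (.leaf 0x518)) (.node (.leaf 0x2c0) (.leaf 0x0)))) (.node (.node (.node (.leaf 0xc4) (.leaf 0x33c)) (.node (.leaf 0x298) (.leaf 0x0))) (.node (.node (.leaf 0x198) (.leaf 0x4d8)) (.node (.leaf 0x398) (.leaf 0x0))))) (.node (.node (.node (.node (.leaf 0x190) (.leaf 0x3b4))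 (.node (.leaf 0x574) (.leaf 0x0))) (.node (.node (.leaf 0x30) (.leaf 0x274)) (.node (.leaf 0x358) (.leaf 0x0)))) (.node (.node (.node (.leaf 0xd8) (.leaf 0x598)) (.node (.leaf 0x424) (.leaf 0x0))) (.node (.node (.leaf 0x1d8) (.leaf 0x5d8)) (.node (.leaf 0x3d8) (.leaf 0x0)))))) (.node (.node (.node (.node (.node (.leaf 0x38) (.leaf 0x438)) (.node (.leaf 0x3bc) (.leaf 0x0))) (.node (.node (.leaf 0x138) (.leaf 0x538)) (.node (.leaf 0x49c) (.leaf 0x0)))) (.node (.node (.node (.leaf 0x10) (.leaf 0x4b8)) (.node (.leaf 0x4c6) (.leaf 0x0))) (.node (.node (.leaf 0x169) (.leaf 0x278)) (.node (.leaf 0x23c) (.leaf 0x0))))) (.node (.node (.node (.node (.leaf 0x78) (.leaf 0x201)) (.node (.leaf 0x5b8) (.leaf 0x0))) (.node (.node (.leaf 0x71) (.leaf 0x578)) (.node (.leaf 0x430) (.leaf 0x0)))) (.node (.node (.node (.leaf 0xf8) (.leaf 0x56c)) (.node (.leaf 0x2f8) (.leaf 0x0))) (.node (.node (.leaf 0x1f8)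 (.leaf 0x0)) (.node (.leaf 0x3f8) (.leaf 0x0))))))))) (.node (.node (.node (.node (.node (.node (.node (.node (.leaf 0x94) (.leaf 0x394)) (.node (.leaf 0x47c) (.leaf 0x0))) (.node (.node (.leaf 0x104) (.leaf 0x5e0)) (.node (.leaf 0x3a0) (.leaf 0x0)))) (.node (.node (.node (.leaf 0x145) (.leaf 0x350)) (.node (.leaf 0x5d0) (.leaf 0x0))) (.node (.node (.leaf 0x184) (.leaf 0x4cc)) (.node (.leaf 0x384) (.leaf 0x0))))) (.node (.node (.node (.node (.leaf 0x14c) (.leaf 0x3c8)) (.node (.leaf 0x4e0) (.leaf 0x0))) (.node (.node (.leaf 0x86) (.leaf 0x1e4)) (.node (.leaf 0x344) (.leaf 0x0)))) (.node (.node (.node (.leaf 0x98) (.leaf 0x2b9)) (.node (.leaf 0x31c) (.leaf 0x0))) (.node (.node (.leaf 0x15c) (.leaf 0x508)) (.node (.leaf 0x3c4) (.leaf 0x0)))))) (.node (.node (.node (.node (.node (.leaf 0x24) (.leaf 0x2d8)) (.node (.leaf 0x3d0) (.leaf 0x0))) (.node (.node (.leaf 0x88) (.leaf 0x524)) (.node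 (.leaf 0x4b0) (.leaf 0x0)))) (.node (.node (.node (.leaf 0xcc) (.leaf 0x4a4)) (.node (.leaf 0x490) (.leaf 0x0))) (.node (.node (.leaf 0x51) (.leaf 0x268)) (.node (.leaf 0x300) (.leaf 0x0))))) (.node (.node (.node (.node (.leaf 0x64) (.leaf 0x234)) (.node (.leaf 0x588) (.leaf 0x0))) (.node (.node (.leaf 0x36) (.leaf 0x564)) (.node (.leaf 0x41c) (.leaf 0x0)))) (.node (.node (.node (.leaf 0xe4) (.leaf 0x241)) (.node (.leaf 0x2e4) (.leaf 0x0))) (.node (.node (.leaf 0x544) (.leaf 0x500)) (.node (.leaf 0x470) (.leaf 0x0))))))) (.node (.node (.node (.node (.node (.node (.leaf 0xc0) (.leaf 0x414)) (.node (.leaf 0x214) (.leaf 0x0))) (.node (.node (.leaf 0x114) (.leaf 0x514)) (.node (.leaf 0x314) (.leaf 0x0)))) (.node (.node (.node (.leaf 0x4) (.leaf 0x2a0)) (.node (.leaf 0x336) (.leaf 0x0))) (.node (.node (.leaf 0x120) (.leaf 0x594)) (.node (.leaf 0x404) (.leaf 0x0))))) (.node (.node (.node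 (.node (.leaf 0x54) (.leaf 0x454)) (.node (.leaf 0x4e8) (.leaf 0x0))) (.node (.node (.leaf 0x154) (.leaf 0x1f4)) (.node (.leaf 0x480) (.leaf 0x0)))) (.node (.node (.node (.leaf 0xd4) (.leaf 0x5b4)) (.node (.leaf 0x388) (.leaf 0x0))) (.node (.node (.leaf 0x40) (.leaf 0x280)) (.node (.leaf 0x220) (.leaf 0x0)))))) (.node (.node (.node (.node (.node (.leaf 0x165) (.leaf 0x37c)) (.node (.leaf 0x464) (.leaf 0x0))) (.node (.node (.leaf 0x75) (.leaf 0x534)) (.node (.leaf 0x295) (.leaf 0x0)))) (.node (.node (.node (.leaf 0xb4) (.leaf 0x320)) (.node (.leaf 0x2b4) (.leaf 0x0))) (.node (.node (.leaf 0x1b4) (.leaf 0x4d4)) (.node (.leaf 0x458) (.leaf 0x0))))) (.node (.node (.node (.node (.leaf 0x136) (.leaf 0x3e0)) (.node (.leaf 0x558) (.leaf 0x0))) (.node (.node (.leaf 0x80) (.leaf 0x258)) (.node (.leaf 0x2e8) (.leaf 0x0)))) (.node (.node (.node (.leaf 0xf4) (.leaf 0x249)) (.node (.leaf 0x40a)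 (.leaf 0x0))) (.node (.node (.leaf 0x554) (.leaf 0x0)) (.node (.leaf 0x308) (.leaf 0x0)))))))) (.node (.node (.node (.node (.node (.node (.node (.leaf 0xae) (.leaf 0x2f0)) (.node (.leaf 0x3e8) (.leaf 0x0))) (.node (.node (.leaf 0x4c) (.leaf 0x5c0)) (.node (.leaf 0x3f0) (.leaf 0x0)))) (.node (.node (.node (.leaf 0x8c) (.leaf 0x48c)) (.node (.leaf 0x4a8) (.leaf 0x0))) (.node (.node (.leaf 0x12c) (.leaf 0x260)) (.node (.leaf 0x2d0) (.leaf 0x0))))) (.node (.node (.node (.node (.leaf 0x10c) (.leaf 0x21c)) (.node (.leaf 0x4f0) (.leaf 0x0))) (.node (.node (.leaf 0x44) (.leaf 0x1ec)) (.node (.leaf 0x2ac) (.leaf 0x0)))) (.node (.node (.node (.leaf 0xa4) (.leaf 0x584)) (.node (.leaf 0x2cc) (.leaf 0x0))) (.node (.node (.leaf 0x1cc) (.leaf 0x5cc)) (.node (.leaf 0x440) (.leaf 0x0)))))) (.node (.node (.node (.node (.node (.leaf 0x1c8) (.leaf 0x42c)) (.node (.leaf 0x22c) (.leaf 0x0))) (.node (.node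 (.leaf 0x18c) (.leaf 0x52c)) (.node (.leaf 0x32c) (.leaf 0x0)))) (.node (.node (.node (.leaf 0xd) (.leaf 0x289)) (.node (.leaf 0x34c) (.leaf 0x0))) (.node (.node (.leaf 0x6e) (.leaf 0x5ac)) (.node (.leaf 0x3ac) (.leaf 0x0))))) (.node (.node (.node (.node (.leaf 0x1ad) (.leaf 0x46c)) (.node (.leaf 0x5a2) (.leaf 0x0))) (.node (.node (.leaf 0x140) (.leaf 0x4f8)) (.node (.leaf 0x36c) (.leaf 0x0)))) (.node (.node (.node (.leaf 0xec) (.leaf 0x250)) (.node (.leaf 0x370) (.leaf 0x0))) (.node (.node (.leaf 0x54c) (.leaf 0x0)) (.node (.leaf 0x208) (.leaf 0x0))))))) (.node (.node (.node (.node (.node (.node (.leaf 0x1c) (.leaf 0x364)) (.node (.leaf 0x44c) (.leaf 0x0))) (.node (.node (.leaf 0x60) (.leaf 0x51c)) (.node (.leaf 0x2c4) (.leaf 0x0)))) (.node (.node (.node (.leaf 0x9c) (.leaf 0x338)) (.node (.leaf 0x29c) (.leaf 0x0))) (.node (.node (.leaf 0x110) (.leaf 0x4dc)) (.node (.leaf 0x39c) (.leaf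 0x0))))) (.node (.node (.node (.node (.leaf 0x5c) (.leaf 0x3b0)) (.node (.leaf 0x570) (.leaf 0x0))) (.node (.node (.leaf 0x1c4) (.leaf 0x270)) (.node (.leaf 0x35c) (.leaf 0x0)))) (.node (.node (.node (.leaf 0xdc) (.leaf 0x59c)) (.node (.leaf 0x420) (.leaf 0x0))) (.node (.node (.leaf 0x1dc) (.leaf 0x5dc)) (.node (.leaf 0x3dc) (.leaf 0x0)))))) (.node (.node (.node (.node (.node (.leaf 0x1bc) (.leaf 0x43c)) (.node (.leaf 0x3b8) (.leaf 0x0))) (.node (.node (.leaf 0x13c) (.leaf 0x53c)) (.node (.leaf 0x498) (.leaf 0x0)))) (.node (.node (.node (.leaf 0x18) (.leaf 0x4bc)) (.node (.leaf 0x4c0) (.leaf 0x0))) (.node (.node (.leaf 0x3c) (.leaf 0x27c)) (.node (.leaf 0x238) (.leaf 0x0))))) (.node (.node (.node (.node (.leaf 0x7c) (.leaf 0x204)) (.node (.leaf 0x5bc) (.leaf 0x0))) (.node (.node (.leaf 0x130) (.leaf 0x57c)) (.node (.leaf 0x434) (.leaf 0x0)))) (.node (.node (.node (.leaf 0xfc) (.leaf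 0x568)) (.node (.leaf 0x2fc) (.leaf 0x0))) (.node (.node (.leaf 0x1fc) (.leaf 0x0)) (.node (.leaf 0x3fc) (.leaf 0x0)))))))))), (.node (.node (.node (.node (.node (.node (.node (.node (.node (.leaf 0x0) (.leaf 0x400)) (.node (.leaf 0x4aa) (.leaf 0x0))) (.node (.node (.leaf 0x18) (.leaf 0x494)) (.node (.leaf 0x300) (.leaf 0x0)))) (.node (.node (.node (.leaf 0x188) (.leaf 0x480)) (.node (.leaf 0x3b6) (.leaf 0x0))) (.node (.node (.leaf 0xe8) (.leaf 0x580)) (.node (.leaf 0x1d8) (.leaf 0x0))))) (.node (.node (.node (.node (.leaf 0x40) (.leaf 0x5a4)) (.node (.leaf 0x3ee) (.leaf 0x0))) (.node (.node (.leaf 0x140) (.leaf 0x2d4)) (.node (.leaf 0x340) (.leaf 0x0)))) (.node (.node (.node (.leaf 0x34) (.leaf 0x4d4)) (.node (.leaf 0x570) (.leaf 0x0))) (.node (.node (.leaf 0x9c) (.leaf 0x460)) (.node (.leaf 0x328) (.leaf 0x0)))))) (.node (.node (.node (.node (.node (.leaf 0x118) (.leaf 0x420)) (.node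 (.leaf 0x220) (.leaf 0x0))) (.node (.node (.leaf 0x14c) (.leaf 0x314)) (.node (.leaf 0x320) (.leaf 0x0)))) (.node (.node (.node (.leaf 0xa0) (.leaf 0x4a0)) (.node (.leaf 0x5e4) (.leaf 0x0))) (.node (.node (.leaf 0x28) (.leaf 0x444)) (.node (.leaf 0x3a0) (.leaf 0x0))))) (.node (.node (.node (.node (.leaf 0x60) (.leaf 0x5c0)) (.node (.leaf 0x260) (.leaf 0x0))) (.node (.node (.leaf 0x160) (.leaf 0x454)) (.node (.leaf 0x360) (.leaf 0x0)))) (.node (.node (.node (.leaf 0xe0) (.leaf 0x20c)) (.node (.leaf 0x428) (.leaf 0x0))) (.node (.node (.leaf 0x388) (.leaf 0x2a5)) (.node (.leaf 0x330) (.leaf 0x0))))))) (.node (.node (.node (.node (.node (.node (.leaf 0x10) (.leaf 0x514)) (.node (.leaf 0x4b8) (.leaf 0x0))) (.node (.node (.leaf 0x110) (.leaf 0x414)) (.node (.leaf 0x524) (.leaf 0x0)))) (.node (.node (.node (.leaf 0x174) (.leaf 0x506)) (.node (.leaf 0x474) (.leaf 0x0))) (.node (.node (.leaf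 0x190) (.leaf 0x2c8)) (.node (.leaf 0x390) (.leaf 0x0))))) (.node (.node (.node (.node (.leaf 0xb2) (.leaf 0x564)) (.node (.leaf 0x250) (.leaf 0x0))) (.node (.node (.leaf 0x150) (.leaf 0x550)) (.node (.leaf 0x350) (.leaf 0x0)))) (.node (.node (.node (.leaf 0xd0) (.leaf 0x4c4)) (.node (.leaf 0x544) (.leaf 0x0))) (.node (.node (.leaf 0x1d0) (.leaf 0x45c)) (.node (.leaf 0x3d0) (.leaf 0x0)))))) (.node (.node (.node (.node (.node (.leaf 0x30) (.leaf 0x54c)) (.node (.leaf 0x50e) (.leaf 0x0))) (.node (.node (.leaf 0x130) (.leaf 0x530)) (.node (.leaf 0x3e0) (.leaf 0x0)))) (.node (.node (.node (.leaf 0x51) (.leaf 0x4b0)) (.node (.leaf 0x5c8) (.leaf 0x0))) (.node (.node (.leaf 0xbe) (.leaf 0x2b9)) (.node (.leaf 0x284) (.leaf 0x0))))) (.node (.node (.node (.node (.leaf 0x17a) (.leaf 0x295)) (.node (.leaf 0x34c) (.leaf 0x0))) (.node (.node (.leaf 0xf8) (.leaf 0x2c0)) (.node (.leaf 0x370) (.leaf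 0x0)))) (.node (.node (.node (.leaf 0xf0) (.leaf 0x49c)) (.node (.leaf 0x3f0) (.leaf 0x0))) (.node (.node (.leaf 0x1f0) (.leaf 0x0)) (.node (.leaf 0x2f0) (.leaf 0x0)))))))) (.node (.node (.node (.node (.node (.node (.node (.leaf 0x8) (.leaf 0x309)) (.node (.leaf 0x4e4) (.leaf 0x0))) (.node (.node (.leaf 0x169) (.leaf 0x234)) (.node (.leaf 0x40a) (.leaf 0x0)))) (.node (.node (.node (.leaf 0x88) (.leaf 0x228)) (.node (.leaf 0x47e) (.leaf 0x0))) (.node (.node (.leaf 0x80) (.leaf 0x588)) (.node (.leaf 0x1e0) (.leaf 0x0))))) (.node (.node (.node (.node (.leaf 0xd8) (.leaf 0x59c)) (.node (.leaf 0x33e) (.leaf 0x0))) (.node (.node (.leaf 0x1c) (.leaf 0x434)) (.node (.leaf 0x274) (.leaf 0x0)))) (.node (.node (.node (.leaf 0x1a4) (.leaf 0x4c8)) (.node (.leaf 0x590) (.leaf 0x0))) (.node (.node (.leaf 0xa4) (.leaf 0x2b0)) (.node (.leaf 0x26d) (.leaf 0x0)))))) (.node (.node (.node (.node (.node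 (.leaf 0x1a0) (.leaf 0x2e0)) (.node (.leaf 0x488) (.leaf 0x0))) (.node (.node (.leaf 0x128) (.leaf 0x3fc)) (.node (.leaf 0x3c0) (.leaf 0x0)))) (.node (.node (.node (.leaf 0x54) (.leaf 0x201)) (.node (.leaf 0x558) (.leaf 0x0))) (.node (.node (.leaf 0x1a8) (.leaf 0x5a8)) (.node (.leaf 0x358) (.leaf 0x0))))) (.node (.node (.node (.node (.leaf 0x1b8) (.leaf 0x29c)) (.node (.leaf 0x3cc) (.leaf 0x0))) (.node (.node (.leaf 0x10a) (.leaf 0x568)) (.node (.leaf 0x368) (.leaf 0x0)))) (.node (.node (.node (.leaf 0x180) (.leaf 0x4e8)) (.node (.leaf 0x2e8) (.leaf 0x0))) (.node (.node (.leaf 0x37e) (.leaf 0x0)) (.node (.leaf 0x244) (.leaf 0x0))))))) (.node (.node (.node (.node (.node (.node (.leaf 0x100) (.leaf 0x418)) (.node (.leaf 0x4dc) (.leaf 0x0))) (.node (.node (.leaf 0x20) (.leaf 0x518)) (.node (.leaf 0x25c) (.leaf 0x0)))) (.node (.node (.node (.leaf 0x98) (.leaf 0x4f4)) (.node (.leaf 0x46c)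 (.leaf 0x0))) (.node (.node (.leaf 0xd4) (.leaf 0x44d)) (.node (.leaf 0x398) (.leaf 0x0))))) (.node (.node (.node (.node (.leaf 0x58) (.leaf 0x5d5)) (.node (.leaf 0x31e) (.leaf 0x0))) (.node (.node (.leaf 0x158) (.leaf 0x2a8)) (.node (.leaf 0x3a8) (.leaf 0x0)))) (.node (.node (.node (.leaf 0x48) (.leaf 0x21d)) (.node (.leaf 0x2d8) (.leaf 0x0))) (.node (.node (.leaf 0x380) (.leaf 0x5d8)) (.node (.leaf 0x3d8) (.leaf 0x0)))))) (.node (.node (.node (.node (.node (.leaf 0x38) (.leaf 0x57c)) (.node (.leaf 0x238) (.leaf 0x0))) (.node (.node (.leaf 0x138) (.leaf 0x2fc)) (.node (.leaf 0x24c) (.leaf 0x0)))) (.node (.node (.node (.leaf 0xb8) (.leaf 0x210)) (.node (.leaf 0x5b2) (.leaf 0x0))) (.node (.node (.leaf 0x68) (.leaf 0x5b8)) (.node (.leaf 0x3b8) (.leaf 0x0))))) (.node (.node (.node (.node (.leaf 0xec) (.leaf 0x28c)) (.node (.leaf 0x278) (.leaf 0x0))) (.node (.node (.leaf 0x71) (.leaf 0x43c))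 (.node (.leaf 0x1ec) (.leaf 0x0)))) (.node (.node (.node (.leaf 0x170) (.leaf 0x4f8)) (.node (.leaf 0x53c) (.leaf 0x0))) (.node (.node (.leaf 0x1f8) (.leaf 0x0)) (.node (.leaf 0x52c) (.leaf 0x0))))))))) (.node (.node (.node (.node (.node (.node (.node (.node (.leaf 0x10c) (.leaf 0x404)) (.node (.leaf 0x4ac) (.leaf 0x0))) (.node (.node (.leaf 0x104) (.leaf 0x491)) (.node (.leaf 0x304) (.leaf 0x0)))) (.node (.node (.node (.leaf 0x84) (.leaf 0x484)) (.node (.leaf 0x3b0) (.leaf 0x0))) (.node (.node (.leaf 0xe4) (.leaf 0x584)) (.node (.leaf 0x1dc) (.leaf 0x0))))) (.node (.node (.node (.node (.leaf 0x194) (.leaf 0x5a0)) (.node (.leaf 0x3e8) (.leaf 0x0))) (.node (.node (.leaf 0x144) (.leaf 0x2d0)) (.node (.leaf 0x344) (.leaf 0x0)))) (.node (.node (.node (.leaf 0xc4) (.leaf 0x4d0)) (.node (.leaf 0x575) (.leaf 0x0))) (.node (.node (.leaf 0xac) (.leaf 0x464)) (.node (.leaf 0x32c) (.leaf 0x0))))))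 (.node (.node (.node (.node (.node (.leaf 0x24) (.leaf 0x424)) (.node (.leaf 0x224) (.leaf 0x0))) (.node (.node (.leaf 0x124) (.leaf 0x310)) (.node (.leaf 0x324) (.leaf 0x0)))) (.node (.node (.node (.leaf 0x1c8) (.leaf 0x4a4)) (.node (.leaf 0x5e2) (.leaf 0x0))) (.node (.node (.leaf 0xc8) (.leaf 0x440)) (.node (.leaf 0x3a4) (.leaf 0x0))))) (.node (.node (.node (.node (.leaf 0x1b4) (.leaf 0x5c4)) (.node (.leaf 0x264) (.leaf 0x0))) (.node (.node (.leaf 0x16) (.leaf 0x450)) (.node (.leaf 0x364) (.leaf 0x0)))) (.node (.node (.node (.leaf 0x184) (.leaf 0x208)) (.node (.leaf 0x42c) (.leaf 0x0))) (.node (.node (.leaf 0x38c) (.leaf 0x2a0)) (.node (.leaf 0x334) (.leaf 0x0))))))) (.node (.node (.node (.node (.node (.node (.leaf 0x165) (.leaf 0x510)) (.node (.leaf 0x4bc) (.leaf 0x0))) (.node (.node (.leaf 0x154) (.leaf 0x410)) (.node (.leaf 0x520) (.leaf 0x0)))) (.node (.node (.node (.leaf 0x4c)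 (.leaf 0x500)) (.node (.leaf 0x472) (.leaf 0x0))) (.node (.node (.leaf 0x44) (.leaf 0x2cc)) (.node (.leaf 0x394) (.leaf 0x0))))) (.node (.node (.node (.node (.leaf 0xa8) (.leaf 0x560)) (.node (.leaf 0x254) (.leaf 0x0))) (.node (.node (.leaf 0x114) (.leaf 0x554)) (.node (.leaf 0x354) (.leaf 0x0)))) (.node (.node (.node (.leaf 0x198) (.leaf 0x4c0)) (.node (.leaf 0x540) (.leaf 0x0))) (.node (.node (.leaf 0x1d4) (.leaf 0x45a)) (.node (.leaf 0x3d4) (.leaf 0x0)))))) (.node (.node (.node (.node (.node (.leaf 0xc0) (.leaf 0x548)) (.node (.leaf 0x508) (.leaf 0x0))) (.node (.node (.leaf 0x134) (.leaf 0x534)) (.node (.leaf 0x3e4) (.leaf 0x0)))) (.node (.node (.node (.leaf 0xb4) (.leaf 0x4b4)) (.node (.leaf 0x5cc) (.leaf 0x0))) (.node (.node (.leaf 0x64) (.leaf 0x2bc)) (.node (.leaf 0x281) (.leaf 0x0))))) (.node (.node (.node (.node (.leaf 0x74) (.leaf 0x290)) (.node (.leaf 0x348) (.leaf 0x0)))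 (.node (.node (.leaf 0x90) (.leaf 0x2c6)) (.node (.leaf 0x374) (.leaf 0x0)))) (.node (.node (.node (.leaf 0xf4) (.leaf 0x498)) (.node (.leaf 0x3f4) (.leaf 0x0))) (.node (.node (.leaf 0x1f4) (.leaf 0x0)) (.node (.leaf 0x2f4) (.leaf 0x0)))))))) (.node (.node (.node (.node (.node (.node (.node (.leaf 0x15e) (.leaf 0x30c)) (.node (.leaf 0x4e0) (.leaf 0x0))) (.node (.node (.leaf 0x4) (.leaf 0x231)) (.node (.leaf 0x40c) (.leaf 0x0)))) (.node (.node (.node (.leaf 0xfc) (.leaf 0x22c)) (.node (.leaf 0x478) (.leaf 0x0))) (.node (.node (.leaf 0x18c) (.leaf 0x58c)) (.node (.leaf 0x1e4) (.leaf 0x0))))) (.node (.node (.node (.node (.leaf 0x94) (.leaf 0x59a)) (.node (.leaf 0x338) (.leaf 0x0))) (.node (.node (.leaf 0x120) (.leaf 0x430)) (.node (.leaf 0x270) (.leaf 0x0)))) (.node (.node (.node (.leaf 0x2c) (.leaf 0x4cc)) (.node (.leaf 0x594) (.leaf 0x0))) (.node (.node (.leaf 0x1cc) (.leaf 0x2b4))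 (.node (.leaf 0x268) (.leaf 0x0)))))) (.node (.node (.node (.node (.node (.leaf 0xcc) (.leaf 0x2e4)) (.node (.leaf 0x48c) (.leaf 0x0))) (.node (.node (.leaf 0x12c) (.leaf 0x3f8)) (.node (.leaf 0x3c4) (.leaf 0x0)))) (.node (.node (.node (.leaf 0x1c4) (.leaf 0x204)) (.node (.leaf 0x55c) (.leaf 0x0))) (.node (.node (.leaf 0x3e) (.leaf 0x5ac)) (.node (.leaf 0x35c) (.leaf 0x0))))) (.node (.node (.node (.node (.leaf 0x1bc) (.leaf 0x298)) (.node (.leaf 0x3ca) (.leaf 0x0))) (.node (.node (.leaf 0x16c) (.leaf 0x56c)) (.node (.leaf 0x36c) (.leaf 0x0)))) (.node (.node (.node (.leaf 0x78) (.leaf 0x4ec)) (.node (.leaf 0x2ec) (.leaf 0x0))) (.node (.node (.leaf 0x378) (.leaf 0x0)) (.node (.leaf 0x241) (.leaf 0x0))))))) (.node (.node (.node (.node (.node (.node (.leaf 0x148) (.leaf 0x41c)) (.node (.leaf 0x4da) (.leaf 0x0))) (.node (.node (.leaf 0x11c) (.leaf 0x51c)) (.node (.leaf 0x259) (.leaf 0x0))))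 (.node (.node (.node (.leaf 0x1c0) (.leaf 0x4f0)) (.node (.leaf 0x468) (.leaf 0x0))) (.node (.node (.leaf 0x19c) (.leaf 0x448)) (.node (.leaf 0x39c) (.leaf 0x0))))) (.node (.node (.node (.node (.leaf 0x5c) (.leaf 0x5d0)) (.node (.leaf 0x318) (.leaf 0x0))) (.node (.node (.leaf 0xd) (.leaf 0x2ac)) (.node (.leaf 0x3ac) (.leaf 0x0)))) (.node (.node (.node (.leaf 0x7c) (.leaf 0x218)) (.node (.leaf 0x2dc) (.leaf 0x0))) (.node (.node (.leaf 0x384) (.leaf 0x5dc)) (.node (.leaf 0x3dc) (.leaf 0x0)))))) (.node (.node (.node (.node (.node (.leaf 0x1ad) (.leaf 0x578)) (.node (.leaf 0x23c) (.leaf 0x0))) (.node (.node (.leaf 0x13c) (.leaf 0x2f8)) (.node (.leaf 0x249) (.leaf 0x0)))) (.node (.node (.node (.leaf 0x1b1) (.leaf 0x214)) (.node (.leaf 0x5b4) (.leaf 0x0))) (.node (.node (.leaf 0x6c) (.leaf 0x5bc)) (.node (.leaf 0x3bc) (.leaf 0x0))))) (.node (.node (.node (.node (.leaf 0xdc) (.leaf 0x289))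 (.node (.leaf 0x27c) (.leaf 0x0))) (.node (.node (.leaf 0x17c) (.leaf 0x438)) (.node (.leaf 0x1e9) (.leaf 0x0)))) (.node (.node (.node (.leaf 0x8c) (.leaf 0x4fc)) (.node (.leaf 0x538) (.leaf 0x0))) (.node (.node (.leaf 0x1fc) (.leaf 0x0)) (.node (.leaf 0x528) (.leaf 0x0)))))))))), (.node (.node (.node (.node (.node (.node (.node (.node (.node (.leaf 0x0) (.leaf 0x400)) (.node (.leaf 0x388) (.leaf 0x0))) (.node (.node (.leaf 0x1d5) (.leaf 0x500)) (.node (.leaf 0x44c) (.leaf 0x0)))) (.node (.node (.node (.leaf 0x80) (.leaf 0x480)) (.node (.leaf 0x588) (.leaf 0x0))) (.node (.node (.leaf 0x154) (.leaf 0x580)) (.node (.leaf 0x4a6) (.leaf 0x0))))) (.node (.node (.node (.node (.leaf 0x1b0) (.leaf 0x440)) (.node (.leaf 0x544) (.leaf 0x0))) (.node (.node (.leaf 0x36) (.leaf 0x245)) (.node (.leaf 0x46a) (.leaf 0x0)))) (.node (.node (.node (.leaf 0xc0) (.leaf 0x23e)) (.node (.leaf 0x40a) (.leaf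 0x0))) (.node (.node (.leaf 0x114) (.leaf 0x5c0)) (.node (.leaf 0x3fd) (.leaf 0x0)))))) (.node (.node (.node (.node (.node (.leaf 0xe0) (.leaf 0x291)) (.node (.leaf 0x494) (.leaf 0x0))) (.node (.node (.leaf 0x86) (.leaf 0x5ad)) (.node (.leaf 0x320) (.leaf 0x0)))) (.node (.node (.node (.leaf 0xc) (.leaf 0x386)) (.node (.leaf 0x3d4) (.leaf 0x0))) (.node (.node (.leaf 0x138) (.leaf 0x279)) (.node (.leaf 0x218) (.leaf 0x0))))) (.node (.node (.node (.node (.leaf 0x168) (.leaf 0x2ed)) (.node (.leaf 0x5d0) (.leaf 0x0))) (.node (.node (.leaf 0x160) (.leaf 0x52d)) (.node (.leaf 0x360) (.leaf 0x0)))) (.node (.node (.node (.leaf 0x20) (.leaf 0x1e2)) (.node (.leaf 0x2e0) (.leaf 0x0))) (.node (.node (.leaf 0x4e1) (.leaf 0x5e0)) (.node (.leaf 0x3e0) (.leaf 0x0))))))) (.node (.node (.node (.node (.node (.node (.leaf 0x10) (.leaf 0x3ad)) (.node (.leaf 0x210) (.leaf 0x0))) (.node (.node (.leaf 0x110)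 (.leaf 0x57d)) (.node (.leaf 0x310) (.leaf 0x0)))) (.node (.node (.node (.leaf 0x1d0) (.leaf 0x224)) (.node (.leaf 0x422) (.leaf 0x0))) (.node (.node (.leaf 0x190) (.leaf 0x51d)) (.node (.leaf 0x390) (.leaf 0x0))))) (.node (.node (.node (.node (.leaf 0x158) (.leaf 0x329)) (.node (.leaf 0x54d) (.leaf 0x0))) (.node (.node (.leaf 0x189) (.leaf 0x24d)) (.node (.leaf 0x350) (.leaf 0x0)))) (.node (.node (.node (.leaf 0xd0) (.leaf 0x4d0)) (.node (.leaf 0x47d) (.leaf 0x0))) (.node (.node (.leaf 0x90) (.leaf 0x260)) (.node (.leaf 0x2a4) (.leaf 0x0)))))) (.node (.node (.node (.node (.node (.leaf 0x1a6) (.leaf 0x430)) (.node (.leaf 0x370) (.leaf 0x0))) (.node (.node (.leaf 0x130) (.leaf 0x5cd)) (.node (.leaf 0x2de) (.leaf 0x0)))) (.node (.node (.node (.leaf 0xb0) (.leaf 0x4b0)) (.node (.leaf 0x2b0) (.leaf 0x0))) (.node (.node (.leaf 0x40) (.leaf 0x5b0)) (.node (.leaf 0x3b0) (.leaf 0x0))))) (.node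 (.node (.node (.node (.leaf 0x10c) (.leaf 0x470)) (.node (.leaf 0x570) (.leaf 0x0))) (.node (.node (.leaf 0x5c) (.leaf 0x270)) (.node (.leaf 0x230) (.leaf 0x0)))) (.node (.node (.node (.leaf 0xa8) (.leaf 0x1f2)) (.node (.leaf 0x31e) (.leaf 0x0))) (.node (.node (.leaf 0x4f1) (.leaf 0x0)) (.node (.leaf 0x2a8) (.leaf 0x0)))))))) (.node (.node (.node (.node (.node (.node (.node (.leaf 0xae) (.leaf 0x2c1)) (.node (.leaf 0x4ae) (.leaf 0x0))) (.node (.node (.leaf 0x108) (.leaf 0x508)) (.node (.leaf 0x34c) (.leaf 0x0)))) (.node (.node (.node (.leaf 0x88) (.leaf 0x39e)) (.node (.leaf 0x3ec) (.leaf 0x0))) (.node (.node (.leaf 0x152) (.leaf 0x280)) (.node (.leaf 0x200) (.leaf 0x0))))) (.node (.node (.node (.node (.leaf 0x128) (.leaf 0x304)) (.node (.leaf 0x554) (.leaf 0x0))) (.node (.node (.leaf 0x64) (.leaf 0x255)) (.node (.leaf 0x30c) (.leaf 0x0)))) (.node (.node (.node (.leaf 0xc8) (.leaf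 0x4c8)) (.node (.leaf 0x2c8) (.leaf 0x0))) (.node (.node (.leaf 0x74) (.leaf 0x535)) (.node (.leaf 0x3c8) (.leaf 0x0)))))) (.node (.node (.node (.node (.node (.leaf 0x28) (.leaf 0x3dd)) (.node (.leaf 0x228) (.leaf 0x0))) (.node (.node (.leaf 0x48) (.leaf 0x565)) (.node (.leaf 0x452) (.leaf 0x0)))) (.node (.node (.node (.leaf 0xf0) (.leaf 0x20e)) (.node (.leaf 0x3f0) (.leaf 0x0))) (.node (.node (.leaf 0x1a8) (.leaf 0x525)) (.node (.leaf 0x415) (.leaf 0x0))))) (.node (.node (.node (.node (.leaf 0x68) (.leaf 0x341)) (.node (.leaf 0x5be) (.leaf 0x0))) (.node (.node (.leaf 0x60) (.leaf 0x568)) (.node (.leaf 0x4be) (.leaf 0x0)))) (.node (.node (.node (.leaf 0x9c) (.leaf 0x1e8)) (.node (.leaf 0x465) (.leaf 0x0))) (.node (.node (.leaf 0x4e8) (.leaf 0x0)) (.node (.leaf 0x28d) (.leaf 0x0))))))) (.node (.node (.node (.node (.node (.node (.leaf 0x18) (.leaf 0x418)) (.node (.leaf 0x3a0) (.leaf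 0x0))) (.node (.node (.leaf 0x118) (.leaf 0x595)) (.node (.leaf 0x2f4) (.leaf 0x0)))) (.node (.node (.node (.leaf 0x98) (.leaf 0x498)) (.node (.leaf 0x298) (.leaf 0x0))) (.node (.node (.leaf 0x38) (.leaf 0x598)) (.node (.leaf 0x48e) (.leaf 0x0))))) (.node (.node (.node (.node (.leaf 0x58) (.leaf 0x458)) (.node (.leaf 0x558) (.leaf 0x0))) (.node (.node (.leaf 0x50) (.leaf 0x258)) (.node (.leaf 0x43a) (.leaf 0x0)))) (.node (.node (.node (.leaf 0xd8) (.leaf 0x4d8)) (.node (.leaf 0x336) (.leaf 0x0))) (.node (.node (.leaf 0x1d8) (.leaf 0x53d)) (.node (.leaf 0x42d) (.leaf 0x0)))))) (.node (.node (.node (.node (.node (.leaf 0x198) (.leaf 0x359)) (.node (.leaf 0x4c6) (.leaf 0x0))) (.node (.node (.leaf 0x1a0) (.leaf 0x5dd)) (.node (.leaf 0x338) (.leaf 0x0)))) (.node (.node (.node (.leaf 0xb8) (.leaf 0x36e)) (.node (.leaf 0x3bc) (.leaf 0x0))) (.node (.node (.leaf 0x11d) (.leaf 0x26c)) (.node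 (.leaf 0x2bd) (.leaf 0x0))))) (.node (.node (.node (.node (.leaf 0x78) (.leaf 0x2d5)) (.node (.leaf 0x5a2) (.leaf 0x0))) (.node (.node (.leaf 0x4d) (.leaf 0x515)) (.node (.leaf 0x378) (.leaf 0x0)))) (.node (.node (.node (.leaf 0xf8) (.leaf 0x4f8)) (.node (.leaf 0x2f8) (.leaf 0x0))) (.node (.node (.leaf 0x1f8) (.leaf 0x0)) (.node (.leaf 0x3c5) (.leaf 0x0))))))))) (.node (.node (.node (.node (.node (.node (.node (.node (.leaf 0x94) (.leaf 0x404)) (.node (.leaf 0x38e) (.leaf 0x0))) (.node (.node (.leaf 0x8c) (.leaf 0x504)) (.node (.leaf 0x448) (.leaf 0x0)))) (.node (.node (.node (.leaf 0x121) (.leaf 0x484)) (.node (.leaf 0x58c) (.leaf 0x0))) (.node (.node (.leaf 0x184) (.leaf 0x584)) (.node (.leaf 0x4a1) (.leaf 0x0))))) (.node (.node (.node (.node (.leaf 0x44) (.leaf 0x444)) (.node (.leaf 0x542) (.leaf 0x0))) (.node (.node (.leaf 0x194) (.leaf 0x240)) (.node (.leaf 0x46d) (.leaf 0x0))))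 (.node (.node (.node (.leaf 0xc4) (.leaf 0x239)) (.node (.leaf 0x40d) (.leaf 0x0))) (.node (.node (.leaf 0x1c4) (.leaf 0x5c4)) (.node (.leaf 0x3fa) (.leaf 0x0)))))) (.node (.node (.node (.node (.node (.leaf 0xe4) (.leaf 0x294)) (.node (.leaf 0x490) (.leaf 0x0))) (.node (.node (.leaf 0x124) (.leaf 0x5aa)) (.node (.leaf 0x324) (.leaf 0x0)))) (.node (.node (.node (.leaf 0xa4) (.leaf 0x381)) (.node (.leaf 0x3d0) (.leaf 0x0))) (.node (.node (.leaf 0x31) (.leaf 0x27e)) (.node (.leaf 0x21c) (.leaf 0x0))))) (.node (.node (.node (.node (.leaf 0x148) (.leaf 0x2ea)) (.node (.leaf 0x5d4) (.leaf 0x0))) (.node (.node (.leaf 0x16c) (.leaf 0x52a)) (.node (.leaf 0x364) (.leaf 0x0)))) (.node (.node (.node (.leaf 0x24) (.leaf 0x1e5)) (.node (.leaf 0x2e4) (.leaf 0x0))) (.node (.node (.leaf 0x4e6) (.leaf 0x5e4)) (.node (.leaf 0x3e4) (.leaf 0x0))))))) (.node (.node (.node (.node (.node (.node (.leaf 0x14)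 (.leaf 0x3aa)) (.node (.leaf 0x214) (.leaf 0x0))) (.node (.node (.leaf 0x1c0) (.leaf 0x57a)) (.node (.leaf 0x314) (.leaf 0x0)))) (.node (.node (.node (.leaf 0x4) (.leaf 0x220)) (.node (.leaf 0x424) (.leaf 0x0))) (.node (.node (.leaf 0x144) (.leaf 0x51a)) (.node (.leaf 0x394) (.leaf 0x0))))) (.node (.node (.node (.node (.leaf 0x54) (.leaf 0x32e)) (.node (.leaf 0x54a) (.leaf 0x0))) (.node (.node (.leaf 0x180) (.leaf 0x248)) (.node (.leaf 0x354) (.leaf 0x0)))) (.node (.node (.node (.leaf 0xd4) (.leaf 0x4d4)) (.node (.leaf 0x47a) (.leaf 0x0))) (.node (.node (.leaf 0x102) (.leaf 0x264)) (.node (.leaf 0x2a0) (.leaf 0x0)))))) (.node (.node (.node (.node (.node (.leaf 0x141) (.leaf 0x434)) (.node (.leaf 0x376) (.leaf 0x0))) (.node (.node (.leaf 0x2d) (.leaf 0x5ca)) (.node (.leaf 0x2d9) (.leaf 0x0)))) (.node (.node (.node (.leaf 0xec) (.leaf 0x4b4)) (.node (.leaf 0x2b4) (.leaf 0x0))) (.node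 (.node (.leaf 0x7c) (.leaf 0x5b4)) (.node (.leaf 0x3b4) (.leaf 0x0))))) (.node (.node (.node (.node (.leaf 0x1c8) (.leaf 0x474)) (.node (.leaf 0x574) (.leaf 0x0))) (.node (.node (.leaf 0x174) (.leaf 0x274)) (.node (.leaf 0x235) (.leaf 0x0)))) (.node (.node (.node (.leaf 0xf4) (.leaf 0x1f5)) (.node (.leaf 0x318) (.leaf 0x0))) (.node (.node (.leaf 0x4f6) (.leaf 0x0)) (.node (.leaf 0x2ac) (.leaf 0x0)))))))) (.node (.node (.node (.node (.node (.node (.node (.leaf 0xa0) (.leaf 0x2c6)) (.node (.leaf 0x4a9) (.leaf 0x0))) (.node (.node (.leaf 0x70) (.leaf 0x50c)) (.node (.leaf 0x348) (.leaf 0x0)))) (.node (.node (.node (.leaf 0x104) (.leaf 0x399)) (.node (.leaf 0x3ea) (.leaf 0x0))) (.node (.node (.leaf 0x6e) (.leaf 0x284)) (.node (.leaf 0x205) (.leaf 0x0))))) (.node (.node (.node (.node (.leaf 0x17a) (.leaf 0x300)) (.node (.leaf 0x552) (.leaf 0x0))) (.node (.node (.leaf 0x14c) (.leaf 0x252))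 (.node (.leaf 0x308) (.leaf 0x0)))) (.node (.node (.node (.leaf 0xcc) (.leaf 0x4cc)) (.node (.leaf 0x2cc) (.leaf 0x0))) (.node (.node (.leaf 0x1cc) (.leaf 0x532)) (.node (.leaf 0x3cc) (.leaf 0x0)))))) (.node (.node (.node (.node (.node (.leaf 0x136) (.leaf 0x3da)) (.node (.leaf 0x22c) (.leaf 0x0))) (.node (.node (.leaf 0x1ac) (.leaf 0x562)) (.node (.leaf 0x455) (.leaf 0x0)))) (.node (.node (.node (.leaf 0x9) (.leaf 0x209)) (.node (.leaf 0x3f4) (.leaf 0x0))) (.node (.node (.leaf 0x12c) (.leaf 0x522)) (.node (.leaf 0x412) (.leaf 0x0))))) (.node (.node (.node (.node (.leaf 0x18d) (.leaf 0x346)) (.node (.leaf 0x5b8) (.leaf 0x0))) (.node (.node (.leaf 0x164) (.leaf 0x56c)) (.node (.leaf 0x4b9) (.leaf 0x0)))) (.node (.node (.node (.leaf 0xb4) (.leaf 0x1ed)) (.node (.leaf 0x462) (.leaf 0x0))) (.node (.node (.leaf 0x4ee) (.leaf 0x0)) (.node (.leaf 0x288) (.leaf 0x0))))))) (.node (.node (.node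 (.node (.node (.node (.leaf 0xdc) (.leaf 0x41c)) (.node (.leaf 0x3a4) (.leaf 0x0))) (.node (.node (.leaf 0x1ba) (.leaf 0x592)) (.node (.leaf 0x2f1) (.leaf 0x0)))) (.node (.node (.node (.leaf 0xe8) (.leaf 0x49c)) (.node (.leaf 0x29c) (.leaf 0x0))) (.node (.node (.leaf 0x19c) (.leaf 0x59c)) (.node (.leaf 0x489) (.leaf 0x0))))) (.node (.node (.node (.node (.leaf 0x170) (.leaf 0x45c)) (.node (.leaf 0x55c) (.leaf 0x0))) (.node (.node (.leaf 0x15c) (.leaf 0x25c)) (.node (.leaf 0x43d) (.leaf 0x0)))) (.node (.node (.node (.leaf 0x1c) (.leaf 0x4dc)) (.node (.leaf 0x331) (.leaf 0x0))) (.node (.node (.leaf 0x1dc) (.leaf 0x53a)) (.node (.leaf 0x42a) (.leaf 0x0)))))) (.node (.node (.node (.node (.node (.leaf 0x3c) (.leaf 0x35e)) (.node (.leaf 0x4c1) (.leaf 0x0))) (.node (.node (.leaf 0x13c) (.leaf 0x5da)) (.node (.leaf 0x33c) (.leaf 0x0)))) (.node (.node (.node (.leaf 0xbc) (.leaf 0x369)) (.node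 (.leaf 0x3ba) (.leaf 0x0))) (.node (.node (.leaf 0x1bc) (.leaf 0x269)) (.node (.leaf 0x2b8) (.leaf 0x0))))) (.node (.node (.node (.node (.leaf 0x1b4) (.leaf 0x2d2)) (.node (.leaf 0x5a5) (.leaf 0x0))) (.node (.node (.leaf 0x17c) (.leaf 0x512)) (.node (.leaf 0x37c) (.leaf 0x0)))) (.node (.node (.node (.leaf 0xfc) (.leaf 0x4fc)) (.node (.leaf 0x2fc) (.leaf 0x0))) (.node (.node (.leaf 0x1fc) (.leaf 0x0)) (.node (.leaf 0x3c2) (.leaf 0x0))))))))))]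

/-- The three multiples of the vector of a point. -/
def vecT : PTree := (.node (.node (.node (.node (.node (.node (.node (.node (.node (.node (.node (.leaf 0x1a9b8555c1cbff) (.leaf 0x4000000000)) (.node (.leaf 0x40000008000) (.leaf 0x0))) (.node (.node (.leaf 0x29b73cb3dd186a) (.leaf 0x0)) (.node (.leaf 0x24a44b8f6d3157) (.leaf 0x0)))) (.node (.node (.node (.leaf 0x3bcbce5203516) (.leaf 0x0)) (.node (.leaf 0x1034308ecd8ffc) (.leaf 0x0))) (.node (.node (.leaf 0x2e840c8dec04c2) (.leaf 0x0)) (.node (.leaf 0x3d5949bb069518) (.leaf 0x0))))) (.node (.node (.node (.node (.leaf 0x169be4dcdeee35) (.leaf 0x2529437eb9b402)) (.node (.leaf 0x1b2908b1cdcd21) (.leaf 0x0))) (.node (.node (.leaf 0x40000008) (.leaf 0x0)) (.node (.leaf 0x239fdb77d66be6) (.leaf 0x0)))) (.node (.node (.node (.leaf 0x4832db2d06b64) (.leaf 0x0)) (.node (.leaf 0x1a78e407f3c4b) (.leaf 0x0))) (.node (.node (.leaf 0x4eacb47c9053)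 (.leaf 0x0)) (.node (.leaf 0x15dda2161d9c2d) (.leaf 0x0)))))) (.node (.node (.node (.node (.node (.leaf 0x1942b4b578ba65) (.leaf 0x1523d362a74138)) (.node (.leaf 0x3eeeccb369e872) (.leaf 0x0))) (.node (.node (.leaf 0x301e5d1384a83c) (.leaf 0x0)) (.node (.leaf 0x8d31e4082b801) (.leaf 0x0)))) (.node (.node (.node (.leaf 0x29fdafa13cec4e) (.leaf 0x0)) (.node (.leaf 0x3ba4abfecdda4d) (.leaf 0x0))) (.node (.node (.leaf 0x1e101debf3727) (.leaf 0x0)) (.node (.leaf 0x1c8b6cfb6603e0) (.leaf 0x0))))) (.node (.node (.node (.node (.leaf 0xa71965978354a) (.leaf 0xc0aca601ec09e)) (.node (.leaf 0xcdf8c2c84af8c) (.leaf 0x0))) (.node (.node (.leaf 0x25430b76fa6d2d) (.leaf 0x0)) (.node (.leaf 0x32867bc3ca561d) (.leaf 0x0)))) (.node (.node (.node (.leaf 0x23ca255e65963e) (.leaf 0x0)) (.node (.leaf 0x14b2c6f55adef1) (.leaf 0x0))) (.node (.node (.leaf 0x8b52fd1c2efa0) (.leaf 0x0)) (.node (.leaf 0x33fa5f23c9ed8a)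 (.leaf 0x0))))))) (.node (.node (.node (.node (.node (.node (.leaf 0x2249dac176ce90) (.leaf 0x33b4819532f38)) (.node (.leaf 0x35eaac515b01ed) (.leaf 0x0))) (.node (.node (.leaf 0x3c0ea96a02dfe3) (.leaf 0x0)) (.node (.leaf 0x3fd969fb149111) (.leaf 0x0)))) (.node (.node (.node (.leaf 0x1fec3664e04a2f) (.leaf 0x0)) (.node (.leaf 0x2c2e719739d371) (.leaf 0x0))) (.node (.node (.leaf 0x287b07f66ac932) (.leaf 0x0)) (.node (.leaf 0x2244a4279034a7) (.leaf 0x0))))) (.node (.node (.node (.node (.leaf 0x67c782429250a) (.leaf 0x3b1d231b55318e)) (.node (.leaf 0x1eb05b954935b0) (.leaf 0x0))) (.node (.node (.leaf 0x27459962ee4e48) (.leaf 0x0)) (.node (.leaf 0x6756749170a68) (.leaf 0x0)))) (.node (.node (.node (.leaf 0x1a5f0d342bc476) (.leaf 0x0)) (.node (.leaf 0x32d64fda693a81) (.leaf 0x0))) (.node (.node (.leaf 0x3a0f56753ef484) (.leaf 0x0)) (.node (.leaf 0x2af834ecdac711) (.leaf 0x0)))))) (.node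 (.node (.node (.node (.node (.leaf 0x21e5105fa208a9) (.leaf 0x800000000)) (.node (.leaf 0x400000080000) (.leaf 0x0))) (.node (.node (.leaf 0x28def7b78c80af) (.leaf 0x0)) (.node (.leaf 0x93f1c84a92e1f) (.leaf 0x0)))) (.node (.node (.node (.leaf 0x1bfc1fd1c93d85) (.leaf 0x0)) (.node (.leaf 0x1a1fe146a30392) (.leaf 0x0))) (.node (.node (.leaf 0x3198f920604ebf) (.leaf 0x0)) (.node (.leaf 0x2d43cf47db91be) (.leaf 0x0))))) (.node (.node (.node (.node (.leaf 0x2000000000) (.leaf 0x0)) (.node (.leaf 0x35a410f3879b68) (.leaf 0x0))) (.node (.node (.leaf 0x186b846c7a3cfc) (.leaf 0x0)) (.node (.leaf 0x1347a8a42a0c5e) (.leaf 0x0)))) (.node (.node (.node (.leaf 0xed0d27948bc1b) (.leaf 0x0)) (.node (.leaf 0x332b9ab3712523) (.leaf 0x0))) (.node (.node (.leaf 0x3e5d3e1a34139b) (.leaf 0x0)) (.node (.leaf 0x38863c13631bd5) (.leaf 0x0)))))))) (.node (.node (.node (.node (.node (.node (.node (.leaf 0x2bcfce00b1aea)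 (.leaf 0x22fd31cffb587b)) (.node (.leaf 0x15889481d40aa3) (.leaf 0x0))) (.node (.node (.leaf 0x1000000) (.leaf 0x0)) (.node (.leaf 0xe8649001ce48) (.leaf 0x0)))) (.node (.node (.node (.leaf 0x238d49565eaebe) (.leaf 0x0)) (.node (.leaf 0x1f43e0d52a5b33) (.leaf 0x0))) (.node (.node (.leaf 0x1000000200) (.leaf 0x0)) (.node (.leaf 0x137337662f3651) (.leaf 0x0))))) (.node (.node (.node (.node (.leaf 0x900a897bd3176) (.leaf 0x379157c296d10c)) (.node (.leaf 0x29df3024381ede) (.leaf 0x0))) (.node (.node (.leaf 0x369899abc4045d) (.leaf 0x0)) (.node (.leaf 0x29c746253a18d8) (.leaf 0x0)))) (.node (.node (.node (.leaf 0x35e536b29d2753) (.leaf 0x0)) (.node (.leaf 0x2f2529b9cdbd10) (.leaf 0x0))) (.node (.node (.leaf 0x113ed4cddb66a6) (.leaf 0x0)) (.node (.leaf 0x200000040) (.leaf 0x0)))))) (.node (.node (.node (.node (.node (.leaf 0x23f571f22f07b4) (.leaf 0x3e2302e2933008)) (.node (.leaf 0x1cfacd5b3b3b98)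 (.leaf 0x0))) (.node (.node (.leaf 0x5e0e74be7ac3b) (.leaf 0x0)) (.node (.leaf 0x1ed83e0550fbf8) (.leaf 0x0)))) (.node (.node (.node (.leaf 0xd5c0992e0757a) (.leaf 0x0)) (.node (.leaf 0x200000040000) (.leaf 0x0))) (.node (.node (.leaf 0x37d03b97734b8d) (.leaf 0x0)) (.node (.leaf 0x393b8952a37195) (.leaf 0x0))))) (.node (.node (.node (.node (.leaf 0x3017943a38778d) (.leaf 0x3fd6edaed0aa58)) (.node (.leaf 0x1b32c6044d5deb) (.leaf 0x0))) (.node (.node (.leaf 0x3770b33e37c88e) (.leaf 0x0)) (.node (.leaf 0x7af7c3911a243) (.leaf 0x0)))) (.node (.node (.node (.leaf 0xca29cb165aa19) (.leaf 0x0)) (.node (.leaf 0x247f05f75b49f2) (.leaf 0x0))) (.node (.node (.leaf 0x3cdf5f6d2eb7fc) (.leaf 0x0)) (.node (.leaf 0x237fe952935aa7) (.leaf 0x0))))))) (.node (.node (.node (.node (.node (.node (.leaf 0x19d1cc4d9e66ef) (.leaf 0x2fc43a4d5ae3ca)) (.node (.leaf 0x2a215d1f51a9ba) (.leaf 0x0))) (.node (.node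 (.leaf 0x2e992b9f9f8e39) (.leaf 0x0)) (.node (.leaf 0xabe1edf633d17) (.leaf 0x0)))) (.node (.node (.node (.leaf 0x3402561f2078d5) (.leaf 0x0)) (.node (.leaf 0x232949af8df837) (.leaf 0x0))) (.node (.node (.leaf 0x380238c33ae4a8) (.leaf 0x0)) (.node (.leaf 0x3c1462955bdc3) (.leaf 0x0))))) (.node (.node (.node (.node (.leaf 0x2d09735ca562d) (.leaf 0x16355224053afb)) (.node (.leaf 0x219519bff920dd) (.leaf 0x0))) (.node (.node (.leaf 0x10c844fd3e5fcc) (.leaf 0x0)) (.node (.leaf 0x21b16c17c1245f) (.leaf 0x0)))) (.node (.node (.node (.leaf 0x3c024e5feaa298) (.leaf 0x0)) (.node (.leaf 0x112b631a9c53a) (.leaf 0x0))) (.node (.node (.leaf 0x25c4f39f22b327) (.leaf 0x0)) (.node (.leaf 0x3c176ffb126565) (.leaf 0x0)))))) (.node (.node (.node (.node (.node (.leaf 0x3449e536c721d2) (.leaf 0x3bf87c698908ff)) (.node (.leaf 0x3ab8396b89cddf) (.leaf 0x0))) (.node (.node (.leaf 0x1b66ac8da97862) (.leaf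 0x0)) (.node (.leaf 0x2c98b976c2c1a5) (.leaf 0x0)))) (.node (.node (.node (.leaf 0x235e5b360bc6f7) (.leaf 0x0)) (.node (.leaf 0x2716c77ed28172) (.leaf 0x0))) (.node (.node (.leaf 0x1c088e8d24007a) (.leaf 0x0)) (.node (.leaf 0x23ff26a65199c3) (.leaf 0x0))))) (.node (.node (.node (.node (.leaf 0x13494e0c33e17a) (.leaf 0x0)) (.node (.leaf 0xb188b0a550cab) (.leaf 0x0))) (.node (.node (.leaf 0x1cc00149a2f87b) (.leaf 0x0)) (.node (.leaf 0x29f51177bf0bf4) (.leaf 0x0)))) (.node (.node (.node (.leaf 0x2ae93557f2b83b) (.leaf 0x0)) (.node (.leaf 0x8000000) (.leaf 0x0))) (.node (.node (.leaf 0x1da48702590a5d) (.leaf 0x0)) (.node (.leaf 0x228d059f1449f7) (.leaf 0x0))))))))) (.node (.node (.node (.node (.node (.node (.node (.node (.leaf 0x294c863dc40557) (.leaf 0x3742d1709f067)) (.node (.leaf 0x38b38001cd9d2) (.leaf 0x0))) (.node (.node (.leaf 0xb1c5a1d90f3ca) (.leaf 0x0)) (.node (.leaf 0x4ad7ae993c368)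 (.leaf 0x0)))) (.node (.node (.node (.leaf 0x80) (.leaf 0x0)) (.node (.leaf 0x3bab8912b17195) (.leaf 0x0))) (.node (.node (.leaf 0x2743b11f019b21) (.leaf 0x0)) (.node (.leaf 0xfbf04612bb891) (.leaf 0x0))))) (.node (.node (.node (.node (.leaf 0x1cb5cddd5d24fb) (.leaf 0x29a17dd763a9b3)) (.node (.leaf 0x1989146d5f8d79) (.leaf 0x0))) (.node (.node (.leaf 0x2e9508af5d9ba8) (.leaf 0x0)) (.node (.leaf 0x262cffe6ca086d) (.leaf 0x0)))) (.node (.node (.node (.leaf 0x10eb20c48387bf) (.leaf 0x0)) (.node (.leaf 0x3d88448adc3a31) (.leaf 0x0))) (.node (.node (.leaf 0x33fac5938dec0a) (.leaf 0x0)) (.node (.leaf 0x17bdc935ac8d38) (.leaf 0x0)))))) (.node (.node (.node (.node (.node (.leaf 0x290070574a8039) (.leaf 0x2869b1c6c30c18)) (.node (.leaf 0x3b36ca5db7da33) (.leaf 0x0))) (.node (.node (.leaf 0x17dc738c4c0e29) (.leaf 0x0)) (.node (.leaf 0x3ed943e24a9401) (.leaf 0x0)))) (.node (.node (.node (.leaf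 0x1f638c6c2d20ad) (.leaf 0x0)) (.node (.leaf 0x1270ba6cddad27) (.leaf 0x0))) (.node (.node (.leaf 0x2fd1717656bcfa) (.leaf 0x0)) (.node (.leaf 0x3738f018694ffc) (.leaf 0x0))))) (.node (.node (.node (.node (.leaf 0x165f128c142c8c) (.leaf 0x371146072554a9)) (.node (.leaf 0xf494957962eee) (.leaf 0x0))) (.node (.node (.leaf 0x37f9f1ba59844d) (.leaf 0x0)) (.node (.leaf 0x2a95555f6a9633) (.leaf 0x0)))) (.node (.node (.node (.leaf 0x1000) (.leaf 0x0)) (.node (.leaf 0x30839b1a50b049) (.leaf 0x0))) (.node (.node (.leaf 0x2e4be00db189f1) (.leaf 0x0)) (.node (.leaf 0x27530bfe8a6935) (.leaf 0x0))))))) (.node (.node (.node (.node (.node (.node (.leaf 0x39b507820d6bce) (.leaf 0x1fffe08417218)) (.node (.leaf 0x243c2db6e1de7e) (.leaf 0x0))) (.node (.node (.leaf 0x3960a4e5479304) (.leaf 0x0)) (.node (.leaf 0x9fd596c800e50) (.leaf 0x0)))) (.node (.node (.node (.leaf 0x298eafaf5d35a7) (.leaf 0x0)) (.node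 (.leaf 0x1efea9d7dde07) (.leaf 0x0))) (.node (.node (.leaf 0x2e1541c2ea2e72) (.leaf 0x0)) (.node (.leaf 0x134ae9b82c9843) (.leaf 0x0))))) (.node (.node (.node (.node (.leaf 0x1439ccb9f4e2bf) (.leaf 0x34245ac5ba9eed)) (.node (.leaf 0x2000000400000) (.leaf 0x0))) (.node (.node (.leaf 0x225b2fbeb4e691) (.leaf 0x0)) (.node (.leaf 0x3ae18149d3f4fb) (.leaf 0x0)))) (.node (.node (.node (.leaf 0x10000002) (.leaf 0x0)) (.node (.leaf 0x253313bf9e5bef) (.leaf 0x0))) (.node (.node (.leaf 0xa3bdb37c917f7) (.leaf 0x0)) (.node (.leaf 0x395f1bb7163758) (.leaf 0x0)))))) (.node (.node (.node (.node (.node (.leaf 0xe040ca0591310) (.leaf 0x245a61d7fecd36)) (.node (.leaf 0x1bb83d6fa9885f) (.leaf 0x0))) (.node (.node (.leaf 0x24a70a6eff9a8a) (.leaf 0x0)) (.node (.leaf 0x3f532d4a4224c3) (.leaf 0x0)))) (.node (.node (.node (.leaf 0x2a078336b4f1a3) (.leaf 0x0)) (.node (.leaf 0x5e103de9f73a7) (.leaf 0x0)))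 (.node (.node (.leaf 0x24ba06575a36b6) (.leaf 0x0)) (.node (.leaf 0x1b3be03351c0c6) (.leaf 0x0))))) (.node (.node (.node (.node (.leaf 0x20fe3abf410f3) (.leaf 0x0)) (.node (.leaf 0x3c48604ab63e38) (.leaf 0x0))) (.node (.node (.leaf 0x3c18600abc7e38) (.leaf 0x0)) (.node (.leaf 0x3d184d6b9ead22) (.leaf 0x0)))) (.node (.node (.node (.leaf 0x22646f731702ee) (.leaf 0x0)) (.node (.leaf 0xddf9fea068e77) (.leaf 0x0))) (.node (.node (.leaf 0x2f9a5adf1285c6) (.leaf 0x0)) (.node (.leaf 0xeabfb9a603b8) (.leaf 0x0)))))))) (.node (.node (.node (.node (.node (.node (.node (.leaf 0x2c5950276d6c4b) (.leaf 0x1a40abff809c41)) (.node (.leaf 0x3ed6ed72f2ae52) (.leaf 0x0))) (.node (.node (.leaf 0x1ebca605192ffa) (.leaf 0x0)) (.node (.leaf 0x15babe4d116d61) (.leaf 0x0)))) (.node (.node (.node (.leaf 0x193902554bc631) (.leaf 0x0)) (.node (.leaf 0x26ddb3c6d670fb) (.leaf 0x0))) (.node (.node (.leaf 0x3f03bdd343f408)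 (.leaf 0x0)) (.node (.leaf 0x14833ae4320576) (.leaf 0x0))))) (.node (.node (.node (.node (.leaf 0xc21d820ea039c) (.leaf 0x33438991085087)) (.node (.leaf 0x386eb221b6b30e) (.leaf 0x0))) (.node (.node (.leaf 0xb38d458d135cb) (.leaf 0x0)) (.node (.leaf 0xcd376a9ba0e48) (.leaf 0x0)))) (.node (.node (.node (.leaf 0x3b7f0641c48a2a) (.leaf 0x0)) (.node (.leaf 0x3ba0bbdafd5849) (.leaf 0x0))) (.node (.node (.leaf 0x3011324cb2a4a0) (.leaf 0x0)) (.node (.leaf 0x272399f7e65cec) (.leaf 0x0)))))) (.node (.node (.node (.node (.node (.leaf 0x100000020) (.leaf 0x4000000)) (.node (.leaf 0x18c790e5381272) (.leaf 0x0))) (.node (.node (.leaf 0x225a45172f962b) (.leaf 0x0)) (.node (.leaf 0xbb65e80b762cc) (.leaf 0x0)))) (.node (.node (.node (.leaf 0x1847c924583061) (.leaf 0x0)) (.node (.leaf 0x27dde17fff2d36) (.leaf 0x0))) (.node (.node (.leaf 0xd115148a81d6b) (.leaf 0x0)) (.node (.leaf 0x4000000000000) (.leaf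 0x0))))) (.node (.node (.node (.node (.leaf 0x38e9adba6c6056) (.leaf 0x2284e777b2116b)) (.node (.leaf 0x2ddeaf0601c7e9) (.leaf 0x0))) (.node (.node (.leaf 0x351cbfe23c885b) (.leaf 0x0)) (.node (.leaf 0x34c91c73a42872) (.leaf 0x0)))) (.node (.node (.node (.leaf 0x3723ae2d5c85e2) (.leaf 0x0)) (.node (.leaf 0x14088eed3e28be) (.leaf 0x0))) (.node (.node (.leaf 0xea1b719ad5756) (.leaf 0x0)) (.node (.leaf 0x28855f31151c2) (.leaf 0x0))))))) (.node (.node (.node (.node (.node (.node (.leaf 0x2a373c33ed986e) (.leaf 0x80000010000)) (.node (.leaf 0x128ae9698e9c2a) (.leaf 0x0))) (.node (.node (.leaf 0x800000100000) (.leaf 0x0)) (.node (.leaf 0x36e58c5ae7810f) (.leaf 0x0)))) (.node (.node (.node (.leaf 0x672c0a1b5e48c) (.leaf 0x0)) (.node (.leaf 0x6f972e0f3ed51) (.leaf 0x0))) (.node (.node (.leaf 0x346b565c43c48f) (.leaf 0x0)) (.node (.leaf 0x3077d8a37dc413) (.leaf 0x0))))) (.node (.node (.node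 (.node (.leaf 0x1fe4176ed74a8e) (.leaf 0x1a406694906576)) (.node (.leaf 0x19aef66446e3df) (.leaf 0x0))) (.node (.node (.leaf 0x13813d284a1bb) (.leaf 0x0)) (.node (.leaf 0x1c87e924983071) (.leaf 0x0)))) (.node (.node (.node (.leaf 0x1d606c0d5d9c97) (.leaf 0x0)) (.node (.leaf 0x26094f37492f60) (.leaf 0x0))) (.node (.node (.leaf 0x3bc76b0bc89497) (.leaf 0x0)) (.node (.leaf 0x339cbe3a24ec5f) (.leaf 0x0)))))) (.node (.node (.node (.node (.node (.leaf 0x313723531af215) (.leaf 0x6f246080f741f)) (.node (.leaf 0x199ba084facc) (.leaf 0x0))) (.node (.node (.leaf 0x2ef347ffefff41) (.leaf 0x0)) (.node (.leaf 0x35d12543722212) (.leaf 0x0)))) (.node (.node (.node (.leaf 0x22df8effd6aed6) (.leaf 0x0)) (.node (.leaf 0x20000000) (.leaf 0x0))) (.node (.node (.leaf 0x3303bbdb6af448) (.leaf 0x0)) (.node (.leaf 0x100000020000) (.leaf 0x0))))) (.node (.node (.node (.node (.leaf 0x17d245bdeb8c1e) (.leaf 0x0))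 (.node (.leaf 0x27137896e06cf8) (.leaf 0x0))) (.node (.node (.leaf 0x11258155873fcb) (.leaf 0x0)) (.node (.leaf 0x36679fb22de350) (.leaf 0x0)))) (.node (.node (.node (.leaf 0x8e676e1a58248) (.leaf 0x0)) (.node (.leaf 0x304401e27f8f4e) (.leaf 0x0))) (.node (.node (.leaf 0x2fe31736f65f77) (.leaf 0x0)) (.node (.leaf 0x7f13ef5b96a7) (.leaf 0x0)))))))))) (.node (.node (.node (.node (.node (.node (.node (.node (.node (.leaf 0x2e0e5ffe92bb55) (.leaf 0x3b3bae286e85a2)) (.node (.leaf 0x2673951f354c2f) (.leaf 0x0))) (.node (.node (.leaf 0x279bc449638b43) (.leaf 0x0)) (.node (.leaf 0x3b698abbf9b826) (.leaf 0x0)))) (.node (.node (.node (.leaf 0x10000000000000) (.leaf 0x0)) (.node (.leaf 0x2e2005bf757122) (.leaf 0x0))) (.node (.node (.leaf 0x2f6026103c8553) (.leaf 0x0)) (.node (.leaf 0x2840990e50b3fb) (.leaf 0x0))))) (.node (.node (.node (.node (.leaf 0x365cea0396b9bb) (.leaf 0x1d592a90e6200a))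 (.node (.leaf 0xe6e690aa8ec37) (.leaf 0x0))) (.node (.node (.leaf 0x12d38cb4488429) (.leaf 0x0)) (.node (.leaf 0x107cbc8cc59ffc) (.leaf 0x0)))) (.node (.node (.node (.leaf 0x16835b22400ed2) (.leaf 0x0)) (.node (.leaf 0x3063cea8dda4f6) (.leaf 0x0))) (.node (.node (.leaf 0x2f95a5c67f58b2) (.leaf 0x0)) (.node (.leaf 0x30ece16ca6286f) (.leaf 0x0)))))) (.node (.node (.node (.node (.node (.leaf 0x9439fa7d8fda6) (.leaf 0x153a09c0033b54)) (.node (.leaf 0x16881bc766d94b) (.leaf 0x0))) (.node (.node (.leaf 0x1c2541e587639e) (.leaf 0x0)) (.node (.leaf 0x1f3b8bd3f37585) (.leaf 0x0)))) (.node (.node (.node (.leaf 0x3e0a8903ec718d) (.leaf 0x0)) (.node (.leaf 0x366ed269b94f32) (.leaf 0x0))) (.node (.node (.leaf 0x13752615adbfa6) (.leaf 0x0)) (.node (.leaf 0x34728ffee71e03) (.leaf 0x0))))) (.node (.node (.node (.node (.leaf 0xbc1aa50360781) (.leaf 0xe3be34ee228c0)) (.node (.leaf 0x108802cd46beea)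 (.leaf 0x0))) (.node (.node (.leaf 0x2535d3d6ff3e37) (.leaf 0x0)) (.node (.leaf 0x1e52b0ed9a9965) (.leaf 0x0)))) (.node (.node (.node (.leaf 0x201794b4a2e79) (.leaf 0x0)) (.node (.leaf 0x22061956107363) (.leaf 0x0))) (.node (.node (.leaf 0xe177d00d44a5a) (.leaf 0x0)) (.node (.leaf 0x2cce2dd69ea5af) (.leaf 0x0))))))) (.node (.node (.node (.node (.node (.node (.leaf 0x29de59f736a0f0) (.leaf 0x31ad86e37b9ab0)) (.node (.leaf 0xad80f6fe65467) (.leaf 0x0))) (.node (.node (.leaf 0x221d0f3f569968) (.leaf 0x0)) (.node (.leaf 0x2dfd2be93fab2d) (.leaf 0x0)))) (.node (.node (.node (.leaf 0x2702517f1dcce3) (.leaf 0x0)) (.node (.leaf 0xdaa79b2795367) (.leaf 0x0))) (.node (.node (.leaf 0x39443255c2a838) (.leaf 0x0)) (.node (.leaf 0x3c81a53bd8a023) (.leaf 0x0))))) (.node (.node (.node (.node (.leaf 0x377ca93a094d4a) (.leaf 0x1aa98c743695ed)) (.node (.leaf 0x400000) (.leaf 0x0))) (.node (.node (.leaf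 0x1772724606fd64) (.leaf 0x0)) (.node (.leaf 0x1ca14a837d815b) (.leaf 0x0)))) (.node (.node (.node (.leaf 0x2) (.leaf 0x0)) (.node (.leaf 0x1349d40c33f37a) (.leaf 0x0))) (.node (.node (.leaf 0x2a92d06f70c47b) (.leaf 0x0)) (.node (.leaf 0x1eea1772be376) (.leaf 0x0)))))) (.node (.node (.node (.node (.node (.leaf 0x3d10454b9eaaa2) (.leaf 0x1bac08648b4c3a)) (.node (.leaf 0x19ce46a5d45f62) (.leaf 0x0))) (.node (.node (.leaf 0x135bde3c94e14d) (.leaf 0x0)) (.node (.leaf 0x254970fd8ecd8f) (.leaf 0x0)))) (.node (.node (.node (.leaf 0x3ac8299b5458c0) (.leaf 0x0)) (.node (.leaf 0x311a9ee0bc207b) (.leaf 0x0))) (.node (.node (.leaf 0x30275fe53519b) (.leaf 0x0)) (.node (.leaf 0x6602d720b5578) (.leaf 0x0))))) (.node (.node (.node (.node (.leaf 0x1daf643041fc75) (.leaf 0x0)) (.node (.leaf 0x1c3cdb45331976) (.leaf 0x0))) (.node (.node (.leaf 0x37960d2b11d69b) (.leaf 0x0)) (.node (.leaf 0x21ed247fa309ad)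 (.leaf 0x0)))) (.node (.node (.node (.leaf 0xa45e0d892a654) (.leaf 0x0)) (.node (.leaf 0x1c9cbcbcc4680c) (.leaf 0x0))) (.node (.node (.leaf 0x170e74edf34b5b) (.leaf 0x0)) (.node (.leaf 0x1b18deac73dc57) (.leaf 0x0)))))))) (.node (.node (.node (.node (.node (.node (.node (.leaf 0x1bc234b5f1a9e0) (.leaf 0x3fdac3dba4fe42)) (.node (.leaf 0x29439fe7daddae) (.leaf 0x0))) (.node (.node (.leaf 0x8000001000000) (.leaf 0x0)) (.node (.leaf 0x9ad704c61fd8f) (.leaf 0x0)))) (.node (.node (.node (.leaf 0x336733db27204a) (.leaf 0x0)) (.node (.leaf 0x2952d99ec22729) (.leaf 0x0))) (.node (.node (.leaf 0x88df3f7fe287e) (.leaf 0x0)) (.node (.leaf 0x3513115290675c) (.leaf 0x0))))) (.node (.node (.node (.node (.leaf 0x3de98bb69d2464) (.leaf 0x3b010dae687132)) (.node (.leaf 0x260b2f3749eb60) (.leaf 0x0))) (.node (.node (.leaf 0xdb17a01671a8b) (.leaf 0x0)) (.node (.leaf 0x29d0c6c002f01c) (.leaf 0x0)))) (.node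 (.node (.node (.leaf 0x28e2c5168691a7) (.leaf 0x0)) (.node (.leaf 0x2c4a799774177b) (.leaf 0x0))) (.node (.node (.leaf 0x2edb3537fcbc3f) (.leaf 0x0)) (.node (.leaf 0x7af04e0133ccc) (.leaf 0x0)))))) (.node (.node (.node (.node (.node (.leaf 0x20) (.leaf 0x621eae91a5aed)) (.node (.leaf 0x19d9dcc0a46233) (.leaf 0x0))) (.node (.node (.leaf 0x29d4399620776a) (.leaf 0x0)) (.node (.leaf 0xe0d48e176cbd0) (.leaf 0x0)))) (.node (.node (.node (.leaf 0x1703abd34bf448) (.leaf 0x0)) (.node (.leaf 0x3096d1235cef59) (.leaf 0x0))) (.node (.node (.leaf 0x851ba11a22a29) (.leaf 0x0)) (.node (.leaf 0x151b8cad8400bf) (.leaf 0x0))))) (.node (.node (.node (.node (.leaf 0x3a1a59f3cceccc) (.leaf 0x368552c12a77ed)) (.node (.leaf 0x1dd0904dbbd5e0) (.leaf 0x0))) (.node (.node (.leaf 0x31be4470d9dee9) (.leaf 0x0)) (.node (.leaf 0x10000000000) (.leaf 0x0)))) (.node (.node (.node (.leaf 0x1dc7813ee475c5) (.leaf 0x0))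 (.node (.leaf 0x3ada4f93d4a94c) (.leaf 0x0))) (.node (.node (.leaf 0x80bd4190ecdbe) (.leaf 0x0)) (.node (.leaf 0x1a02dbe0510abe) (.leaf 0x0))))))) (.node (.node (.node (.node (.node (.node (.leaf 0x2cf3377ea45f66) (.leaf 0x10000)) (.node (.leaf 0x2c4679b744157b) (.leaf 0x0))) (.node (.node (.leaf 0x100000) (.leaf 0x0)) (.node (.leaf 0x3b19e8be34fecc) (.leaf 0x0)))) (.node (.node (.node (.leaf 0x2cfdfd3f831f7c) (.leaf 0x0)) (.node (.leaf 0x1661868df2e5c) (.leaf 0x0))) (.node (.node (.leaf 0x19d725443aa3b0) (.leaf 0x0)) (.node (.leaf 0x3b86572a1516d6) (.leaf 0x0))))) (.node (.node (.node (.node (.leaf 0x295e431bfc82ed) (.leaf 0x30067f6baa1889)) (.node (.leaf 0x3fc906ebcb83ea) (.leaf 0x0))) (.node (.node (.leaf 0x1fead60d810bf2) (.leaf 0x0)) (.node (.leaf 0x38466aab90fd24) (.leaf 0x0)))) (.node (.node (.node (.leaf 0x3f5514c06aeb53) (.leaf 0x0)) (.node (.leaf 0xc549ba82452ed) (.leaf 0x0)))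 (.node (.node (.leaf 0x2583cfb778ed61) (.leaf 0x0)) (.node (.leaf 0x18932b2c90889a) (.leaf 0x0)))))) (.node (.node (.node (.node (.node (.leaf 0x1a30ba69d5ad67) (.leaf 0xc4847fef60772)) (.node (.leaf 0x43e4dc0033374) (.leaf 0x0))) (.node (.node (.leaf 0x2d4bc316c5adf3) (.leaf 0x0)) (.node (.leaf 0x3ce941c21e739b) (.leaf 0x0)))) (.node (.node (.node (.leaf 0x1c6af84c5bf1df) (.leaf 0x0)) (.node (.leaf 0x36940b9230599d) (.leaf 0x0))) (.node (.node (.leaf 0x3abe1963a9005e) (.leaf 0x0)) (.node (.leaf 0x20000) (.leaf 0x0))))) (.node (.node (.node (.node (.leaf 0x219f0bd65ac8bb) (.leaf 0x0)) (.node (.leaf 0x2993495edb2565) (.leaf 0x0))) (.node (.node (.leaf 0x3d1c7f0a24b02a) (.leaf 0x0)) (.node (.leaf 0x3df85fa281a9da) (.leaf 0x0)))) (.node (.node (.node (.leaf 0x3e1378cac2e3e3) (.leaf 0x0)) (.node (.leaf 0x23b87b9608803c) (.leaf 0x0))) (.node (.node (.leaf 0x12c852e9ed9abd) (.leaf 0x0))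 (.node (.leaf 0x13a391b795e6c2) (.leaf 0x0))))))))) (.node (.node (.node (.node (.node (.node (.node (.node (.leaf 0x2e42bb0579f9c) (.leaf 0x34b4ad33dac904)) (.node (.leaf 0xe6ce906dbed2) (.leaf 0x0))) (.node (.node (.leaf 0x93341f6bf7b2f) (.leaf 0x0)) (.node (.leaf 0xe616d01d0c92) (.leaf 0x0)))) (.node (.node (.node (.leaf 0x400000080) (.leaf 0x0)) (.node (.leaf 0x2ca91717e11cf4) (.leaf 0x0))) (.node (.node (.leaf 0x200) (.leaf 0x0)) (.node (.leaf 0x95dc488dc581d) (.leaf 0x0))))) (.node (.node (.node (.node (.leaf 0xb442fc05acbc9) (.leaf 0x3b1d4d9a578609)) (.node (.leaf 0x81fc6d53be604) (.leaf 0x0))) (.node (.node (.leaf 0x3aecdd428f3abd) (.leaf 0x0)) (.node (.leaf 0x207fe16bdfb425) (.leaf 0x0)))) (.node (.node (.node (.leaf 0x210c0c2ebca6d6) (.leaf 0x0)) (.node (.leaf 0x16e1d18d6d32a0) (.leaf 0x0))) (.node (.node (.leaf 0x2a7f014f6648f4) (.leaf 0x0)) (.node (.leaf 0x40) (.leaf 0x0))))))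 (.node (.node (.node (.node (.node (.leaf 0x3a5401ca6a8e33) (.leaf 0x2aba82a7c4605c)) (.node (.leaf 0x2e5c111fbc343a) (.leaf 0x0))) (.node (.node (.leaf 0x1add8690bc1ce9) (.leaf 0x0)) (.node (.leaf 0x1254a00d91bc7d) (.leaf 0x0)))) (.node (.node (.node (.leaf 0x30eb6ba2a3890f) (.leaf 0x0)) (.node (.leaf 0x40000) (.leaf 0x0))) (.node (.node (.leaf 0x32b5e7d3ac92d4) (.leaf 0x0)) (.node (.leaf 0x80000000) (.leaf 0x0))))) (.node (.node (.node (.node (.leaf 0x21d4285602f287) (.leaf 0xb0a73a1656681)) (.node (.leaf 0x3cb177767f07c4) (.leaf 0x0))) (.node (.node (.leaf 0x23766ca5c5675c) (.leaf 0x0)) (.node (.leaf 0xf226e20f5ef87) (.leaf 0x0)))) (.node (.node (.node (.leaf 0x8000001000) (.leaf 0x0)) (.node (.leaf 0x1fbe0834c1f8b3) (.leaf 0x0))) (.node (.node (.leaf 0x15aae08f9bebed) (.leaf 0x0)) (.node (.leaf 0x345349aa60084a) (.leaf 0x0))))))) (.node (.node (.node (.node (.node (.node (.leaf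 0x2de6c7c78799bb) (.leaf 0x20b90c07e8dd9)) (.node (.leaf 0x10ac10cd442ba3) (.leaf 0x0))) (.node (.node (.leaf 0x2a3c98226b8798) (.leaf 0x0)) (.node (.leaf 0x26afe6b72d3fa9) (.leaf 0x0)))) (.node (.node (.node (.leaf 0xd0190b6804ac3) (.leaf 0x0)) (.node (.leaf 0x2beef03d402354) (.leaf 0x0))) (.node (.node (.leaf 0x78e0ae196c31d) (.leaf 0x0)) (.node (.leaf 0x96ca8307828c5) (.leaf 0x0))))) (.node (.node (.node (.node (.leaf 0xfa715fb73db28) (.leaf 0x361c85fac6aa44)) (.node (.leaf 0x1df2d9c3e76e15) (.leaf 0x0))) (.node (.node (.leaf 0x393aba9a19089f) (.leaf 0x0)) (.node (.leaf 0xe9fa7de8fc4d2) (.leaf 0x0)))) (.node (.node (.node (.leaf 0x20000000000) (.leaf 0x0)) (.node (.leaf 0xc5c9fe02256c6) (.leaf 0x0))) (.node (.node (.leaf 0x3e48bfbe8e6c91) (.leaf 0x0)) (.node (.leaf 0x38282de3b1c907) (.leaf 0x0)))))) (.node (.node (.node (.node (.node (.leaf 0x270eba6893ca6) (.leaf 0x3ad9a77eee6956))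 (.node (.leaf 0x3d4c42fcde8ff2) (.leaf 0x0))) (.node (.node (.leaf 0xe28026061e3dd) (.leaf 0x0)) (.node (.leaf 0x1a8eb45d93172e) (.leaf 0x0)))) (.node (.node (.node (.leaf 0x35a78d1bf401c5) (.leaf 0x0)) (.node (.leaf 0x2bd56d27c812e3) (.leaf 0x0))) (.node (.node (.leaf 0x35288d5b8111d1) (.leaf 0x0)) (.node (.leaf 0x1a8e063036bcc0) (.leaf 0x0))))) (.node (.node (.node (.node (.leaf 0x21ad2a7fab1aed) (.leaf 0x0)) (.node (.leaf 0x19b0ee51631161) (.leaf 0x0))) (.node (.node (.leaf 0x15e3f1c53f7239) (.leaf 0x0)) (.node (.leaf 0x422d5d007b579) (.leaf 0x0)))) (.node (.node (.node (.leaf 0x157cf48d5d26aa) (.leaf 0x0)) (.node (.leaf 0x103473bbbd7d8a) (.leaf 0x0))) (.node (.node (.leaf 0x10febcdfa70b13) (.leaf 0x0)) (.node (.leaf 0x1a2f4a2451a0b3) (.leaf 0x0)))))))) (.node (.node (.node (.node (.node (.node (.node (.leaf 0x3b6b625ae6464f) (.leaf 0x9a231d8676903)) (.node (.leaf 0x3af82fdecb9d40)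 (.leaf 0x0))) (.node (.node (.leaf 0x2c18567781d52d) (.leaf 0x0)) (.node (.leaf 0x288b6b0fa63aa8) (.leaf 0x0)))) (.node (.node (.node (.leaf 0x37a0e05c574f1d) (.leaf 0x0)) (.node (.leaf 0x15e0ea1d85ce32) (.leaf 0x0))) (.node (.node (.leaf 0x1a1fa044a383b2) (.leaf 0x0)) (.node (.leaf 0x1a3c0db2794bc0) (.leaf 0x0))))) (.node (.node (.node (.node (.leaf 0x27355070cf8f04) (.leaf 0xd9a0719e3d72)) (.node (.leaf 0xdb59876bb654a) (.leaf 0x0))) (.node (.node (.leaf 0x9cc113b20e7f4) (.leaf 0x0)) (.node (.leaf 0xecd3408ceace9) (.leaf 0x0)))) (.node (.node (.node (.leaf 0xe245156ab6ae2) (.leaf 0x0)) (.node (.leaf 0x14ddd7534e150d) (.leaf 0x0))) (.node (.node (.leaf 0x13f8f25741eace) (.leaf 0x0)) (.node (.leaf 0x3f32e763022fd2) (.leaf 0x0)))))) (.node (.node (.node (.node (.node (.leaf 0x1000000000000) (.leaf 0x20000004000000)) (.node (.leaf 0x80000) (.leaf 0x0))) (.node (.node (.leaf 0x397cb15b64de89)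 (.leaf 0x0)) (.node (.leaf 0x1d48a77e5cdf00) (.leaf 0x0)))) (.node (.node (.node (.leaf 0x15b5f3fb7f83fa) (.leaf 0x0)) (.node (.leaf 0x3ff969b3049119) (.leaf 0x0))) (.node (.node (.leaf 0x9ef8811e37b7a) (.leaf 0x0)) (.node (.leaf 0x139f42b5a879e8) (.leaf 0x0))))) (.node (.node (.node (.node (.leaf 0x136302b57155e1) (.leaf 0x0)) (.node (.leaf 0x37bb0d86acdf89) (.leaf 0x0))) (.node (.node (.leaf 0x3bba638b0d708d) (.leaf 0x0)) (.node (.leaf 0x1d2143953d0bfc) (.leaf 0x0)))) (.node (.node (.node (.leaf 0x3f6969bb449511) (.leaf 0x0)) (.node (.leaf 0x28a2b3ae657356) (.leaf 0x0))) (.node (.node (.leaf 0xd6abab07961b5) (.leaf 0x0)) (.node (.leaf 0x12d8e65ceddb02) (.leaf 0x0))))))) (.node (.node (.node (.node (.node (.node (.leaf 0x3287679b285696) (.leaf 0x300048060400)) (.node (.leaf 0xc74e153dfc107) (.leaf 0x0))) (.node (.node (.leaf 0x126b2ce1abafa8) (.leaf 0x0)) (.node (.leaf 0xcc6de491a63c8)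 (.leaf 0x0)))) (.node (.node (.node (.leaf 0xdaf24617bbc98) (.leaf 0x0)) (.node (.leaf 0x2aa8396b8bccff) (.leaf 0x0))) (.node (.node (.leaf 0x3418b8e03c203b) (.leaf 0x0)) (.node (.leaf 0x1bee209d733f07) (.leaf 0x0))))) (.node (.node (.node (.node (.leaf 0x18212c34a589e4) (.leaf 0x24832bb7d869a4)) (.node (.leaf 0x28faf0499bf185) (.leaf 0x0))) (.node (.node (.leaf 0x14250ddaa3a3c1) (.leaf 0x0)) (.node (.leaf 0x2842ae3ee8a6b1) (.leaf 0x0)))) (.node (.node (.node (.leaf 0x10e694ac7944ab) (.leaf 0x0)) (.node (.leaf 0x3a497b03880686) (.leaf 0x0))) (.node (.node (.leaf 0x127f3a4c9310a7) (.leaf 0x0)) (.node (.leaf 0x2db533767f4be4) (.leaf 0x0)))))) (.node (.node (.node (.node (.node (.leaf 0x18d790ad3c167f) (.leaf 0x10e4e36ca5286f)) (.node (.leaf 0x38be824a7bdea4) (.leaf 0x0))) (.node (.node (.leaf 0x8) (.leaf 0x0)) (.node (.leaf 0x1b911095c806ba) (.leaf 0x0)))) (.node (.node (.node (.leaf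 0x1ea2638bb57c84) (.leaf 0x0)) (.node (.leaf 0x25e6c1834f1c8) (.leaf 0x0))) (.node (.node (.leaf 0x1b57a2450a8333) (.leaf 0x0)) (.node (.leaf 0x3d414e895a652e) (.leaf 0x0))))) (.node (.node (.node (.node (.leaf 0x2abd145077979c) (.leaf 0x0)) (.node (.leaf 0x370367c20203ea) (.leaf 0x0))) (.node (.node (.leaf 0x216b40b7e15127) (.leaf 0x0)) (.node (.leaf 0x256de17fab2937) (.leaf 0x0)))) (.node (.node (.node (.leaf 0xd2c1240b94c94) (.leaf 0x0)) (.node (.leaf 0x39b68aa0c47eaf) (.leaf 0x0))) (.node (.node (.leaf 0x8000) (.leaf 0x0)) (.node (.leaf 0x3adcb53f5474da) (.leaf 0x0))))))))))) (.node (.node (.node (.node (.node (.node (.node (.node (.node (.node (.leaf 0x3495daab5370aa) (.leaf 0x4000000800)) (.node (.leaf 0x39aa617bfb3e8c) (.leaf 0x0))) (.node (.node (.leaf 0x375fffe536e796) (.leaf 0x0)) (.node (.leaf 0x1fcdc134948971) (.leaf 0x0)))) (.node (.node (.node (.leaf 0x2000000) (.leaf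 0x0)) (.node (.leaf 0x26584f6a068611) (.leaf 0x0))) (.node (.node (.leaf 0x1e42a9dd08191) (.leaf 0x0)) (.node (.leaf 0x32859fdb58a0da) (.leaf 0x0))))) (.node (.node (.node (.node (.leaf 0x306c9572d37c9b) (.leaf 0x73100534d0558)) (.node (.leaf 0x154761bb652116) (.leaf 0x0))) (.node (.node (.leaf 0x2244214e12f5bf) (.leaf 0x0)) (.node (.leaf 0x1d2c844473fb6e) (.leaf 0x0)))) (.node (.node (.node (.leaf 0x120076909065b6) (.leaf 0x0)) (.node (.leaf 0x6ed27b6d1dd23) (.leaf 0x0))) (.node (.node (.leaf 0x23aa2e2809d596) (.leaf 0x0)) (.node (.leaf 0x2531437abbb442) (.leaf 0x0)))))) (.node (.node (.node (.node (.node (.leaf 0x3ec7ed36f08e52) (.leaf 0x19daa2a47a6c)) (.node (.leaf 0x25a18f27ddd996) (.leaf 0x0))) (.node (.node (.leaf 0x2c3b1cf603cba2) (.leaf 0x0)) (.node (.leaf 0x1f9bac281404ff) (.leaf 0x0)))) (.node (.node (.node (.leaf 0x201acdd53fb5f4) (.leaf 0x0)) (.node (.leaf 0xdca799774957f)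 (.leaf 0x0))) (.node (.node (.leaf 0x2d6dfd37c31b64) (.leaf 0x0)) (.node (.leaf 0x7bb73fb916d9f) (.leaf 0x0))))) (.node (.node (.node (.node (.leaf 0x1b03c094e32cb) (.leaf 0xcfcce9181594c)) (.node (.leaf 0x2a35f75757beb3) (.leaf 0x0))) (.node (.node (.leaf 0x1290621ca8616e) (.leaf 0x0)) (.node (.leaf 0x2cd4cb2e50cf78) (.leaf 0x0)))) (.node (.node (.node (.leaf 0x1a5173cb0a0150) (.leaf 0x0)) (.node (.leaf 0x3e64317a9658de) (.leaf 0x0))) (.node (.node (.leaf 0x6a252d116a5fa) (.leaf 0x0)) (.node (.leaf 0x34f52d7b076015) (.leaf 0x0))))))) (.node (.node (.node (.node (.node (.node (.leaf 0x29ffae44493b58) (.leaf 0x1bdcd5854e2a6c)) (.node (.leaf 0x3f32a33ebd558a) (.leaf 0x0))) (.node (.node (.leaf 0x3ab4cb4315388f) (.leaf 0x0)) (.node (.leaf 0x277de177fb2d3f) (.leaf 0x0)))) (.node (.node (.node (.leaf 0x38ee671bfd86cc) (.leaf 0x0)) (.node (.leaf 0x13ca9b3bcc1c51) (.leaf 0x0))) (.node (.node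 (.leaf 0x1b2d4e650f60fe) (.leaf 0x0)) (.node (.leaf 0x1ec5011c489484) (.leaf 0x0))))) (.node (.node (.node (.node (.leaf 0x104a6a54e6d86d) (.leaf 0x21b4af6f63a463)) (.node (.leaf 0x34f9f613d60b72) (.leaf 0x0))) (.node (.node (.leaf 0x3037eb24e8b32c) (.leaf 0x0)) (.node (.leaf 0x1bec0ad8e9a80b) (.leaf 0x0)))) (.node (.node (.node (.leaf 0x3b012e834be1a6) (.leaf 0x0)) (.node (.leaf 0x219f9bd65ac9fb) (.leaf 0x0))) (.node (.node (.leaf 0x3b8623da229e76) (.leaf 0x0)) (.node (.leaf 0xc2e0c655f069d) (.leaf 0x0)))))) (.node (.node (.node (.node (.node (.leaf 0x1cf555143ca20b) (.leaf 0x800000100)) (.node (.leaf 0x2ea2fb16ed97b6) (.leaf 0x0))) (.node (.node (.leaf 0x14baf2cd1bdef6) (.leaf 0x0)) (.node (.leaf 0x2c766c7927e390) (.leaf 0x0)))) (.node (.node (.node (.leaf 0x1aa2c6040d5df3) (.leaf 0x0)) (.node (.leaf 0x2f07fdd343fc28) (.leaf 0x0))) (.node (.node (.leaf 0x329a8cde331f24) (.leaf 0x0))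 (.node (.leaf 0x105aabc2c750d6) (.leaf 0x0))))) (.node (.node (.node (.node (.leaf 0x2000000400) (.leaf 0x0)) (.node (.leaf 0x2998cbb6b4821e) (.leaf 0x0))) (.node (.node (.leaf 0x188eb4dde3173e) (.leaf 0x0)) (.node (.leaf 0x3217ca5268f514) (.leaf 0x0)))) (.node (.node (.node (.leaf 0x49532a1da1a4f) (.leaf 0x0)) (.node (.leaf 0x2623406757ff9b) (.leaf 0x0))) (.node (.node (.leaf 0x2ffda2c7cba7c3) (.leaf 0x0)) (.node (.leaf 0x239ee2bf10c782) (.leaf 0x0)))))))) (.node (.node (.node (.node (.node (.node (.node (.leaf 0x2f8d4f0689ef76) (.leaf 0x1d27f2145fa639)) (.node (.leaf 0x1b28c19ab11290) (.leaf 0x0))) (.node (.node (.leaf 0x8000000000000) (.leaf 0x0)) (.node (.leaf 0x230fec7d545386) (.leaf 0x0)))) (.node (.node (.node (.leaf 0x11783ca471a92a) (.leaf 0x0)) (.node (.leaf 0x3611394be87c1a) (.leaf 0x0))) (.node (.node (.leaf 0x3ff143f6ef9600) (.leaf 0x0)) (.node (.leaf 0x220a85ea6e66ec)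 (.leaf 0x0))))) (.node (.node (.node (.node (.leaf 0x34e92321201512) (.leaf 0x2327dfa6f22af8)) (.node (.leaf 0x3a4f5b03888e86) (.leaf 0x0))) (.node (.node (.leaf 0x28b8bb46d31335) (.leaf 0x0)) (.node (.leaf 0x1780e538e8c4) (.leaf 0x0)))) (.node (.node (.node (.leaf 0x34348d3b9ac905) (.leaf 0x0)) (.node (.leaf 0x2148c13de4a537) (.leaf 0x0))) (.node (.node (.leaf 0x3fe5e1fa27da99) (.leaf 0x0)) (.node (.leaf 0x99e660e6dc50) (.leaf 0x0)))))) (.node (.node (.node (.node (.node (.leaf 0x328d4c547eae3e) (.leaf 0x8d2d769de67b0)) (.node (.leaf 0x523119b9f59ab) (.leaf 0x0))) (.node (.node (.leaf 0x3103bb531af058) (.leaf 0x0)) (.node (.leaf 0x345fe1c3db07c0) (.leaf 0x0)))) (.node (.node (.node (.leaf 0x1a5fa241ab8132) (.leaf 0x0)) (.node (.leaf 0x1ae77acd4e357d) (.leaf 0x0))) (.node (.node (.leaf 0xc4a67fefa0772) (.leaf 0x0)) (.node (.leaf 0x2c2005ff27712a) (.leaf 0x0))))) (.node (.node (.node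 (.node (.leaf 0x1e6766648fa7f2) (.leaf 0x953bf6ffaddb5)) (.node (.leaf 0x3958295b6658c0) (.leaf 0x0))) (.node (.node (.leaf 0x6cef74eee1667) (.leaf 0x0)) (.node (.leaf 0x2000) (.leaf 0x0)))) (.node (.node (.node (.leaf 0x78fcc79945396) (.leaf 0x0)) (.node (.leaf 0x1ea54a648fe0be) (.leaf 0x0))) (.node (.node (.leaf 0x8766df00fb73d) (.leaf 0x0)) (.node (.leaf 0x37e53c6c6ffd2a) (.leaf 0x0))))))) (.node (.node (.node (.node (.node (.node (.leaf 0x3522fb333a3989) (.leaf 0x513241df88749)) (.node (.leaf 0x3a20abdaccda4d) (.leaf 0x0))) (.node (.node (.leaf 0x12655a55d32573) (.leaf 0x0)) (.node (.leaf 0x31a7f66157c3db) (.leaf 0x0)))) (.node (.node (.node (.leaf 0x3c18fbe21ca0db) (.leaf 0x0)) (.node (.leaf 0x1f468814652935) (.leaf 0x0))) (.node (.node (.leaf 0x21d51d87004718) (.leaf 0x0)) (.node (.leaf 0x10a8b6b565dc33) (.leaf 0x0))))) (.node (.node (.node (.node (.leaf 0x2c8226585a12e6) (.leaf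 0x1d50c44daad764)) (.node (.leaf 0x1e5c1f5432a337) (.leaf 0x0))) (.node (.node (.leaf 0x2c085f967c5133) (.leaf 0x0)) (.node (.leaf 0x1fb84eec362d82) (.leaf 0x0)))) (.node (.node (.node (.leaf 0x3575a9f8049cb) (.leaf 0x0)) (.node (.leaf 0x1229769aec198) (.leaf 0x0))) (.node (.node (.leaf 0x1cd16aa4b89e73) (.leaf 0x0)) (.node (.leaf 0x248444d782edff) (.leaf 0x0)))))) (.node (.node (.node (.node (.node (.leaf 0xead6b3a93ba2a) (.leaf 0x37b03b977f0f8d)) (.node (.leaf 0x26f6579757072d) (.leaf 0x0))) (.node (.node (.leaf 0x362d6f9b6cd591) (.leaf 0x0)) (.node (.leaf 0x10f39cdd835ba3) (.leaf 0x0)))) (.node (.node (.node (.leaf 0x13006c8c6bcb66) (.leaf 0x0)) (.node (.leaf 0x1182ccece2d8ef) (.leaf 0x0))) (.node (.node (.leaf 0x1d4802f4fec372) (.leaf 0x0)) (.node (.leaf 0x1173e8bc7fe4d4) (.leaf 0x0))))) (.node (.node (.node (.node (.leaf 0x32d645da6929c1) (.leaf 0x0)) (.node (.leaf 0x36d92b2be94c4e)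 (.leaf 0x0))) (.node (.node (.leaf 0x11d7c293980029) (.leaf 0x0)) (.node (.leaf 0x140d4ed53ea22e) (.leaf 0x0)))) (.node (.node (.node (.leaf 0x16171f1d008cfa) (.leaf 0x0)) (.node (.leaf 0x8000001) (.leaf 0x0))) (.node (.node (.leaf 0xf6cd5ebb490e0) (.leaf 0x0)) (.node (.leaf 0x3caf3615e194f4) (.leaf 0x0))))))))) (.node (.node (.node (.node (.node (.node (.node (.node (.leaf 0x76cac852990c7) (.leaf 0x1ed648254c5ca2)) (.node (.leaf 0x36df690716700) (.leaf 0x0))) (.node (.node (.leaf 0x35fbd97f991311) (.leaf 0x0)) (.node (.leaf 0x83361a895af5d) (.leaf 0x0)))) (.node (.node (.node (.leaf 0x400000000) (.leaf 0x0)) (.node (.leaf 0x3f08e7a2743e16) (.leaf 0x0))) (.node (.node (.leaf 0x1f4f6814e87623) (.leaf 0x0)) (.node (.leaf 0x6e2c0e9f7e08c) (.leaf 0x0))))) (.node (.node (.node (.node (.leaf 0x2d65e49324e31) (.leaf 0x12bc304d342fba)) (.node (.leaf 0x33757fa331228d) (.leaf 0x0))) (.node (.node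 (.leaf 0x1479d5edd2a115) (.leaf 0x0)) (.node (.leaf 0x1efda12fd04808) (.leaf 0x0)))) (.node (.node (.node (.leaf 0x34f71d3a1d6418) (.leaf 0x0)) (.node (.leaf 0x2b699507b10891) (.leaf 0x0))) (.node (.node (.leaf 0x3b3247a229a8dd) (.leaf 0x0)) (.node (.leaf 0x3ad9a0f2f7b926) (.leaf 0x0)))))) (.node (.node (.node (.node (.node (.leaf 0x1354719d200e0a) (.leaf 0x1e71d1050d3638)) (.node (.leaf 0x3de1a1d277b619) (.leaf 0x0))) (.node (.node (.leaf 0x35bc02c2fb8e71) (.leaf 0x0)) (.node (.leaf 0x2c8de3efdb287c) (.leaf 0x0)))) (.node (.node (.node (.leaf 0x151c487cbee47b) (.leaf 0x0)) (.node (.leaf 0x349dd3524e174d) (.leaf 0x0))) (.node (.node (.leaf 0x1d6496a5fa2e2e) (.leaf 0x0)) (.node (.leaf 0x10) (.leaf 0x0))))) (.node (.node (.node (.node (.leaf 0x36fe76eacbe251) (.leaf 0xb2b34080428f5)) (.node (.leaf 0x33f83e21e9292a) (.leaf 0x0))) (.node (.node (.leaf 0x2e2b3ae1abaac8) (.leaf 0x0)) (.node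 (.leaf 0x11c1e4c552aaab) (.leaf 0x0)))) (.node (.node (.node (.leaf 0x8000000000) (.leaf 0x0)) (.node (.leaf 0x260fc59f3639b5) (.leaf 0x0))) (.node (.node (.leaf 0x3c7af85c97c01) (.leaf 0x0)) (.node (.leaf 0x13004254ea617f) (.leaf 0x0))))))) (.node (.node (.node (.node (.node (.node (.leaf 0x3c3ccdda3b4143) (.leaf 0x3f46ec83fffc1)) (.node (.leaf 0x1332de448785b6) (.leaf 0x0))) (.node (.node (.leaf 0x135c3cc72c149c) (.leaf 0x0)) (.node (.leaf 0x3969fd4bf8c37f) (.leaf 0x0)))) (.node (.node (.node (.leaf 0x1367029531d5f5) (.leaf 0x0)) (.node (.leaf 0x2a011aa03dfd53) (.leaf 0x0))) (.node (.node (.leaf 0xcb618e9670241) (.leaf 0x0)) (.node (.leaf 0x122e2ba2695d37) (.leaf 0x0))))) (.node (.node (.node (.node (.leaf 0x1b9ed942873997) (.leaf 0x19f0adae848b58)) (.node (.leaf 0x1f3b70a859352d) (.leaf 0x0))) (.node (.node (.leaf 0x17fc1b344b65f7) (.leaf 0x0)) (.node (.leaf 0x347e26975c3029) (.leaf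 0x0)))) (.node (.node (.node (.leaf 0x4000) (.leaf 0x0)) (.node (.leaf 0x19c1ccc4a66277) (.leaf 0x0))) (.node (.node (.leaf 0x34736489477b66) (.leaf 0x0)) (.node (.leaf 0x1d8e483cb4ccbb) (.leaf 0x0)))))) (.node (.node (.node (.node (.node (.leaf 0xccc9421c08194) (.leaf 0x37734ab1b55db9)) (.node (.leaf 0x26f47f937707ad) (.leaf 0x0))) (.node (.node (.leaf 0x30f1ee9a4e391) (.leaf 0x0)) (.node (.leaf 0x2d420b57ea65a9) (.leaf 0x0)))) (.node (.node (.node (.leaf 0x1fa00e2d40f066) (.leaf 0x0)) (.node (.leaf 0x3e40971ab2bf47) (.leaf 0x0))) (.node (.node (.leaf 0x1e6bb3e49740ca) (.leaf 0x0)) (.node (.leaf 0x1b5e603677c06) (.leaf 0x0))))) (.node (.node (.node (.node (.leaf 0x3d58d76b9ebfa2) (.leaf 0x0)) (.node (.leaf 0x29f9918f890c09) (.leaf 0x0))) (.node (.node (.leaf 0x29fb91cf830c01) (.leaf 0x0)) (.node (.leaf 0x3dabc883efc3) (.leaf 0x0)))) (.node (.node (.node (.leaf 0x3adc78044c8dee) (.leaf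 0x0)) (.node (.leaf 0x1debec51bbf3fd) (.leaf 0x0))) (.node (.node (.leaf 0x3d38589db8dc88) (.leaf 0x0)) (.node (.leaf 0xddaa2781d57f7) (.leaf 0x0)))))))) (.node (.node (.node (.node (.node (.node (.node (.leaf 0x1732327d8b2a04) (.leaf 0x264449f348157f)) (.node (.leaf 0x365cea019498bb) (.leaf 0x0))) (.node (.node (.leaf 0x3675d9d3d794c0) (.leaf 0x0)) (.node (.leaf 0x3d31d542b757c9) (.leaf 0x0)))) (.node (.node (.node (.leaf 0x22ba78eaa35316) (.leaf 0x0)) (.node (.leaf 0x106e341cdbb678) (.leaf 0x0))) (.node (.node (.leaf 0x251c1d97e077ba) (.leaf 0x0)) (.node (.leaf 0x13ca5e013eca76) (.leaf 0x0))))) (.node (.node (.node (.node (.leaf 0xb71c4c1843b04) (.leaf 0xcf1eb9185097c)) (.node (.leaf 0x35db2a570dd644) (.leaf 0x0))) (.node (.node (.leaf 0x19073fa21965d3) (.leaf 0x0)) (.node (.leaf 0x10304e99a6ed5) (.leaf 0x0)))) (.node (.node (.node (.leaf 0x355b57176fe0c8) (.leaf 0x0)) (.node (.leaf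 0x1a70a869d5afe7) (.leaf 0x0))) (.node (.node (.leaf 0x1584174e022649) (.leaf 0x0)) (.node (.leaf 0x18117e94e4733e) (.leaf 0x0)))))) (.node (.node (.node (.node (.node (.leaf 0x200000) (.leaf 0x20000000000000)) (.node (.leaf 0x3107037318f21c) (.leaf 0x0))) (.node (.node (.leaf 0x1b26f44c4b48a2) (.leaf 0x0)) (.node (.leaf 0x32e6f805f5cbef) (.leaf 0x0)))) (.node (.node (.node (.leaf 0x3a864a2b08f924) (.leaf 0x0)) (.node (.leaf 0x182488ccfbbc2f) (.leaf 0x0))) (.node (.node (.leaf 0xf1bdbd0de8a78) (.leaf 0x0)) (.node (.leaf 0x4000000800000) (.leaf 0x0))))) (.node (.node (.node (.node (.leaf 0x2b8aaf0f1d35b7) (.leaf 0x1f146c2c509cee)) (.node (.leaf 0x3566fc485bbe39) (.leaf 0x0))) (.node (.node (.leaf 0x24f8fd3ea397fc) (.leaf 0x0)) (.node (.leaf 0x29e85fe699238e) (.leaf 0x0)))) (.node (.node (.node (.leaf 0x1a24a88ca9b826) (.leaf 0x0)) (.node (.leaf 0x3df9cb1a8111dd) (.leaf 0x0))) (.node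 (.node (.leaf 0x3cb0da9d436e3) (.leaf 0x0)) (.node (.leaf 0x276ed816b6c7c9) (.leaf 0x0))))))) (.node (.node (.node (.node (.node (.node (.leaf 0x355bff4546e786) (.leaf 0x302000000409)) (.node (.leaf 0x1efe083a515d2d) (.leaf 0x0))) (.node (.node (.leaf 0xd5d7d43e6ca34) (.leaf 0x0)) (.node (.leaf 0x21d98426dcb18b) (.leaf 0x0)))) (.node (.node (.node (.leaf 0xbdde4c0ce5814) (.leaf 0x0)) (.node (.leaf 0x1c5e67fedecbd2) (.leaf 0x0))) (.node (.node (.leaf 0x167572268d6acb) (.leaf 0x0)) (.node (.leaf 0x2b99f83e0efb14) (.leaf 0x0))))) (.node (.node (.node (.node (.leaf 0x252c4f27a1ac62) (.leaf 0x3ec34d23480cd2)) (.node (.leaf 0x3b99e89b35decc) (.leaf 0x0))) (.node (.node (.leaf 0x151d1e0827027a) (.leaf 0x0)) (.node (.leaf 0x3745358be0f376) (.leaf 0x0)))) (.node (.node (.node (.leaf 0x378c88b3ac0d81) (.leaf 0x0)) (.node (.leaf 0x1c403434c129e6) (.leaf 0x0))) (.node (.node (.leaf 0x2498853edcf7ee)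 (.leaf 0x0)) (.node (.leaf 0x22bbdcc67397c7) (.leaf 0x0)))))) (.node (.node (.node (.node (.node (.leaf 0x29e0b3fe26e46a) (.leaf 0x689e6f0de48c1)) (.node (.leaf 0x13def5256c0eed) (.leaf 0x0))) (.node (.node (.leaf 0x118cbdf5de68ff) (.leaf 0x0)) (.node (.leaf 0x2e4035d6ba24a8) (.leaf 0x0)))) (.node (.node (.node (.leaf 0x1dabe4206130f5) (.leaf 0x0)) (.node (.leaf 0x20000004) (.leaf 0x0))) (.node (.node (.leaf 0x2854199e60777b) (.leaf 0x0)) (.node (.leaf 0xad32976f24cff) (.leaf 0x0))))) (.node (.node (.node (.node (.leaf 0x388e254afa48b7) (.leaf 0x0)) (.node (.leaf 0x10101f54e26f12) (.leaf 0x0))) (.node (.node (.leaf 0x3f0a893bcc3931) (.leaf 0x0)) (.node (.leaf 0x27088536ccf3f6) (.leaf 0x0)))) (.node (.node (.node (.leaf 0x5ca64a11ccedc) (.leaf 0x0)) (.node (.leaf 0x623f57ff2affb) (.leaf 0x0))) (.node (.node (.leaf 0x1851ec8dfc62e6) (.leaf 0x0)) (.node (.leaf 0x3aa3a6d00fe27d) (.leaf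 0x0)))))))))) (.node (.node (.node (.node (.node (.node (.node (.node (.node (.leaf 0x2e202ab8ed9590) (.leaf 0x384f833f6775c5)) (.node (.leaf 0x1fd9f464ce72a3) (.leaf 0x0))) (.node (.node (.leaf 0x2c879e54f37889) (.leaf 0x0)) (.node (.leaf 0xc9e1b41066c35) (.leaf 0x0)))) (.node (.node (.node (.leaf 0x10000002000000) (.leaf 0x0)) (.node (.leaf 0x158b8cadc400b7) (.leaf 0x0))) (.node (.node (.leaf 0x380cd90be9ed02) (.leaf 0x0)) (.node (.leaf 0x1ac506d5081321) (.leaf 0x0))))) (.node (.node (.node (.node (.leaf 0x2ae927decb9d40) (.leaf 0x1a682ac3ab2552)) (.node (.leaf 0x2afc6bce6eaff4) (.leaf 0x0))) (.node (.node (.leaf 0x3097adfa5a7196) (.leaf 0x0)) (.node (.leaf 0x3650436a0f9791) (.leaf 0x0)))) (.node (.node (.node (.leaf 0x241c3dfe9ee3a7) (.leaf 0x0)) (.node (.leaf 0x368ee91e0c79d5) (.leaf 0x0))) (.node (.node (.leaf 0x1c6f6055f2b4b8) (.leaf 0x0)) (.node (.leaf 0x2d6469c75b341e) (.leaf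 0x0)))))) (.node (.node (.node (.node (.node (.leaf 0x378472912873f4) (.leaf 0x361860c3ce3a20)) (.node (.leaf 0x2dbed19ad10378) (.leaf 0x0))) (.node (.node (.leaf 0x2260714eb78058) (.leaf 0x0)) (.node (.leaf 0xa027fbe7717a) (.leaf 0x0)))) (.node (.node (.node (.leaf 0x2169056fc15120) (.leaf 0x0)) (.node (.leaf 0x26ed693e93ba6a) (.leaf 0x0))) (.node (.node (.leaf 0x3e18db226ea4c2) (.leaf 0x0)) (.node (.leaf 0x34a7fe68e51ff) (.leaf 0x0))))) (.node (.node (.node (.node (.leaf 0x20a16466dfcedd) (.leaf 0x392aa549c77c69)) (.node (.leaf 0x3abdf59a110059) (.leaf 0x0))) (.node (.node (.leaf 0x12cc226ca6ba7a) (.leaf 0x0)) (.node (.leaf 0x3b54b19a383c98) (.leaf 0x0)))) (.node (.node (.node (.leaf 0x18500a80402f29) (.leaf 0x0)) (.node (.leaf 0x1285824c40c32a) (.leaf 0x0))) (.node (.node (.leaf 0x2d8c4f8878f5f0) (.leaf 0x0)) (.node (.leaf 0x183b00ad99c5ba) (.leaf 0x0))))))) (.node (.node (.node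 (.node (.node (.node (.leaf 0x106b5e753bcb3e) (.leaf 0x2a71536635b0dc)) (.node (.leaf 0x370ef3f2665bc8) (.leaf 0x0))) (.node (.node (.leaf 0x18a9c47c43a1e7) (.leaf 0x0)) (.node (.leaf 0x24007285bfa57d) (.leaf 0x0)))) (.node (.node (.node (.leaf 0x3ae9ad3a6ce052) (.leaf 0x0)) (.node (.leaf 0x1e60e289b54f36) (.leaf 0x0))) (.node (.node (.leaf 0x1751739728864a) (.leaf 0x0)) (.node (.leaf 0x164c21a45c574) (.leaf 0x0))))) (.node (.node (.node (.node (.leaf 0x2736c36eef9527) (.leaf 0x2dd4f76b3e15b5)) (.node (.leaf 0x2000000000000) (.leaf 0x0))) (.node (.node (.leaf 0x35a7348aff8366) (.leaf 0x0)) (.node (.leaf 0x74d405b942950) (.leaf 0x0)))) (.node (.node (.node (.leaf 0x10000000) (.leaf 0x0)) (.node (.leaf 0x3cf2df7b383998) (.leaf 0x0))) (.node (.node (.leaf 0x1114f3b5525a0d) (.leaf 0x0)) (.node (.leaf 0x38b1bac03dd42e) (.leaf 0x0)))))) (.node (.node (.node (.node (.node (.leaf 0x2c89881999284)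 (.leaf 0x3ff669b375810c)) (.node (.leaf 0x376cbdb339c8d4) (.leaf 0x0))) (.node (.node (.leaf 0x37fcd4526b7bc7) (.leaf 0x0)) (.node (.leaf 0x1211261da8416a) (.leaf 0x0)))) (.node (.node (.node (.leaf 0x206aef9f590533) (.leaf 0x0)) (.node (.leaf 0x34fb9d3e2353dc) (.leaf 0x0))) (.node (.node (.leaf 0x3ad1b5b3cd767c) (.leaf 0x0)) (.node (.leaf 0x163a86b0cc05ae) (.leaf 0x0))))) (.node (.node (.node (.node (.leaf 0x1fa0879bb5ec86) (.leaf 0x0)) (.node (.leaf 0x15b1f1c53f3231) (.leaf 0x0))) (.node (.node (.leaf 0x2f18b9f6f2c1a5) (.leaf 0x0)) (.node (.leaf 0x1cf569143da48f) (.leaf 0x0)))) (.node (.node (.node (.leaf 0x18b817775b8f00) (.leaf 0x0)) (.node (.leaf 0x3abffcdb939797) (.leaf 0x0))) (.node (.node (.leaf 0x38942e32e1ce9d) (.leaf 0x0)) (.node (.leaf 0xd301dc1bb544f) (.leaf 0x0)))))))) (.node (.node (.node (.node (.node (.node (.node (.leaf 0x344f7bb3784696) (.leaf 0x3c04e20cc8893e))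 (.node (.leaf 0x179572952873fc) (.leaf 0x0))) (.node (.node (.leaf 0x28c97fd6cebb3a) (.leaf 0x0)) (.node (.leaf 0x2aa29c3135ae09) (.leaf 0x0)))) (.node (.node (.node (.leaf 0x2a5e318e6ce67b) (.leaf 0x0)) (.node (.leaf 0x36b387da0dc683) (.leaf 0x0))) (.node (.node (.leaf 0x377cb00111be7e) (.leaf 0x0)) (.node (.leaf 0x21902bb6a2622a) (.leaf 0x0))))) (.node (.node (.node (.node (.leaf 0x7501ce16e3898) (.leaf 0x842843f6021b5)) (.node (.leaf 0x1c447434c165e6) (.leaf 0x0))) (.node (.node (.leaf 0x689ae59b62f40) (.leaf 0x0)) (.node (.leaf 0xdd0724020609d) (.leaf 0x0)))) (.node (.node (.node (.leaf 0x1cd6482d1c58a2) (.leaf 0x0)) (.node (.leaf 0x17eac24d894f32) (.leaf 0x0))) (.node (.node (.leaf 0x25952502b082e9) (.leaf 0x0)) (.node (.leaf 0x736e280f5e09c) (.leaf 0x0)))))) (.node (.node (.node (.node (.node (.leaf 0x100000000) (.leaf 0xef33d80c43d5d)) (.node (.leaf 0x29c0939620e06e) (.leaf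 0x0))) (.node (.node (.leaf 0x18d782c53a8732) (.leaf 0x0)) (.node (.leaf 0x5bb1661c1a91c) (.leaf 0x0)))) (.node (.node (.node (.leaf 0x22c1830f50c945) (.leaf 0x0)) (.node (.leaf 0x2a71abee12da24) (.leaf 0x0))) (.node (.node (.leaf 0x540eb590a3742) (.leaf 0x0)) (.node (.leaf 0x800000) (.leaf 0x0))))) (.node (.node (.node (.node (.leaf 0x247d3f97434b3e) (.leaf 0x3d908b5be28d85)) (.node (.leaf 0x300e3f4bba1209) (.leaf 0x0))) (.node (.node (.leaf 0x11e442dc9f1fa7) (.leaf 0x0)) (.node (.leaf 0x10000002000) (.leaf 0x0)))) (.node (.node (.node (.leaf 0x2ae42f13b8f027) (.leaf 0x0)) (.node (.leaf 0x29f145f7bf3963) (.leaf 0x0))) (.node (.node (.leaf 0x7db9e9017a83) (.leaf 0x0)) (.node (.leaf 0x188a8e13405b7c) (.leaf 0x0))))))) (.node (.node (.node (.node (.node (.node (.leaf 0x1f6cc376ab7fe8) (.leaf 0x80000000000)) (.node (.leaf 0x1666d26d88cf36) (.leaf 0x0))) (.node (.node (.leaf 0x800000000000)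 (.leaf 0x0)) (.node (.leaf 0x173c087c3b3084) (.leaf 0x0)))) (.node (.node (.node (.leaf 0x10e506dd9fbfa7) (.leaf 0x0)) (.node (.leaf 0x79f6a882cc30d) (.leaf 0x0))) (.node (.node (.leaf 0x221e247aceae44) (.leaf 0x0)) (.node (.leaf 0x2b2ee19f70cae5) (.leaf 0x0))))) (.node (.node (.node (.node (.leaf 0x36ba54752bc863) (.leaf 0x2d56bb2600cfed)) (.node (.leaf 0x22371eff733d13) (.leaf 0x0))) (.node (.node (.leaf 0x33e2899bfd5ac1) (.leaf 0x0)) (.node (.leaf 0x24c1838f08cd55) (.leaf 0x0)))) (.node (.node (.node (.leaf 0x2aece4bef19116) (.leaf 0x0)) (.node (.leaf 0xd760cc18a9375) (.leaf 0x0))) (.node (.node (.leaf 0x1e44a4bcb079f6) (.leaf 0x0)) (.node (.leaf 0x112762fc577b98) (.leaf 0x0)))))) (.node (.node (.node (.node (.node (.leaf 0x149dd15346174d) (.leaf 0x7ba0f8d13cde)) (.node (.leaf 0x427d66087c9b8) (.leaf 0x0))) (.node (.node (.leaf 0x3f7ffa0a3197be) (.leaf 0x0)) (.node (.leaf 0x2c1add1f9d2838)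 (.leaf 0x0)))) (.node (.node (.node (.leaf 0x3eb576b38d5f09) (.leaf 0x0)) (.node (.leaf 0x4) (.leaf 0x0))) (.node (.node (.leaf 0x27f61b9757c32c) (.leaf 0x0)) (.node (.leaf 0x100000000000) (.leaf 0x0))))) (.node (.node (.node (.node (.leaf 0x2f5c60f711c4a9) (.leaf 0x0)) (.node (.leaf 0x1f4a627532692b) (.leaf 0x0))) (.node (.node (.leaf 0x2c39fe5fa38fe1) (.leaf 0x0)) (.node (.leaf 0x116f1a84e110a6) (.leaf 0x0)))) (.node (.node (.node (.leaf 0x280467d7c26f19) (.leaf 0x0)) (.node (.leaf 0x13fc7a74770f72) (.leaf 0x0))) (.node (.node (.leaf 0x37b2fbbb0a3d91) (.leaf 0x0)) (.node (.leaf 0x2f0ca7a2747236) (.leaf 0x0))))))))) (.node (.node (.node (.node (.node (.node (.node (.node (.leaf 0x58d7505c8576) (.leaf 0x2a62e5169695a6)) (.node (.leaf 0xea0551b651833) (.leaf 0x0))) (.node (.node (.leaf 0x3cc8988926683e) (.leaf 0x0)) (.node (.leaf 0xe72401cc2da) (.leaf 0x0)))) (.node (.node (.node (.leaf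 0x32f575f22f0794) (.leaf 0x0)) (.node (.leaf 0x13a1f0b59522e2) (.leaf 0x0))) (.node (.node (.leaf 0x1000000000) (.leaf 0x0)) (.node (.leaf 0x3179b28c4150bd) (.leaf 0x0))))) (.node (.node (.node (.node (.leaf 0x99271896885f8) (.leaf 0x14b6886464fbf4)) (.node (.leaf 0x21c0f6f103f8da) (.leaf 0x0))) (.node (.node (.leaf 0x1e2022ed171768) (.leaf 0x0)) (.node (.leaf 0x3e8240440ffc2d) (.leaf 0x0)))) (.node (.node (.node (.leaf 0x14e93a9c218185) (.leaf 0x0)) (.node (.leaf 0xe6de884291827) (.leaf 0x0))) (.node (.node (.leaf 0x114d46ed4fe029) (.leaf 0x0)) (.node (.leaf 0x200000000) (.leaf 0x0)))))) (.node (.node (.node (.node (.node (.leaf 0x11783da651a98a) (.leaf 0x14998045575054)) (.node (.leaf 0x13bdb0cdcb8223) (.leaf 0x0))) (.node (.node (.leaf 0x1f3d61db5bb0d2) (.leaf 0x0)) (.node (.leaf 0x2a87dfc68bfc38) (.leaf 0x0)))) (.node (.node (.node (.leaf 0x25f723de1d6d74) (.leaf 0x0)) (.node (.leaf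 0x200000000000) (.leaf 0x0))) (.node (.node (.leaf 0x3b9a5c69894cff) (.leaf 0x0)) (.node (.leaf 0x80000010) (.leaf 0x0))))) (.node (.node (.node (.node (.leaf 0x11c3bc6c3a850a) (.leaf 0x2147a9614e74)) (.node (.leaf 0x226aef5f2b052b) (.leaf 0x0))) (.node (.node (.leaf 0xd5d56446ecd94) (.leaf 0x0)) (.node (.leaf 0x88d1219e44dc4) (.leaf 0x0)))) (.node (.node (.node (.leaf 0xb2d50c8f1f98f) (.leaf 0x0)) (.node (.leaf 0x39b1cdabf7c106) (.leaf 0x0))) (.node (.node (.leaf 0x2975bfe2b55c11) (.leaf 0x0)) (.node (.leaf 0x149ad53efca78d) (.leaf 0x0))))))) (.node (.node (.node (.node (.node (.node (.leaf 0x11da0a1dbcd8f8) (.leaf 0x2ad71e50a26483)) (.node (.leaf 0x3a8d4dd2158219) (.leaf 0x0))) (.node (.node (.leaf 0x3cfc71ca4cab4a) (.leaf 0x0)) (.node (.leaf 0x1fc61bfcd5fcd6) (.leaf 0x0)))) (.node (.node (.node (.leaf 0x3903c6a9a03216) (.leaf 0x0)) (.node (.leaf 0x3c6fc1bbe8d102) (.leaf 0x0))) (.node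 (.node (.leaf 0xb381208f1c15c) (.leaf 0x0)) (.node (.leaf 0xaadee192d9506) (.leaf 0x0))))) (.node (.node (.node (.node (.leaf 0x2e52b16d9044cb) (.leaf 0x2029d7dec390bf)) (.node (.leaf 0x2c9a96bbe5b38) (.leaf 0x0))) (.node (.node (.leaf 0x29f2fe67275753) (.leaf 0x0)) (.node (.leaf 0x3e0922fbf709dd) (.leaf 0x0)))) (.node (.node (.node (.leaf 0x20000004000) (.leaf 0x0)) (.node (.leaf 0xd4e29d18b93fc) (.leaf 0x0))) (.node (.node (.leaf 0x3915993b9a2d54) (.leaf 0x0)) (.node (.leaf 0x25a665df0505bc) (.leaf 0x0)))))) (.node (.node (.node (.node (.node (.leaf 0x36390e904e1d74) (.leaf 0xdaaedcf5b34ef)) (.node (.leaf 0x1c4e6efcdecaf2) (.leaf 0x0))) (.node (.node (.leaf 0xd271c89c5004c) (.leaf 0x0)) (.node (.leaf 0x36160d2b51d68b) (.leaf 0x0)))) (.node (.node (.node (.leaf 0x305e37ba600d91) (.leaf 0x0)) (.node (.leaf 0x1595fa3d7aada4) (.leaf 0x0))) (.node (.node (.leaf 0x292003d6a511ab) (.leaf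 0x0)) (.node (.leaf 0x328cce1a2e7d17) (.leaf 0x0))))) (.node (.node (.node (.node (.leaf 0x1cf5fd1435a54f) (.leaf 0x0)) (.node (.leaf 0x12a8655b361dca) (.leaf 0x0))) (.node (.node (.leaf 0xd17c3da3af852) (.leaf 0x0)) (.node (.leaf 0x41f7e18845aba) (.leaf 0x0)))) (.node (.node (.node (.leaf 0x3f95c1daaf9e91) (.leaf 0x0)) (.node (.leaf 0x1) (.leaf 0x0))) (.node (.node (.leaf 0x2dc6e4421fd79b) (.leaf 0x0)) (.node (.leaf 0x38a24fbb45e944) (.leaf 0x0)))))))) (.node (.node (.node (.node (.node (.node (.node (.leaf 0xbb674853ff5c8) (.leaf 0xa9979c134463b)) (.node (.leaf 0xca4c5df5f05fb) (.leaf 0x0))) (.node (.node (.leaf 0x1016ff1d830ace) (.leaf 0x0)) (.node (.leaf 0x18a4888cefbc2e) (.leaf 0x0)))) (.node (.node (.node (.leaf 0x151a98b6f41c0b) (.leaf 0x0)) (.node (.leaf 0x39ce9b8abc1d43) (.leaf 0x0))) (.node (.node (.leaf 0x3356499365a9cc) (.leaf 0x0)) (.node (.leaf 0x9f653b34781b6) (.leaf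 0x0))))) (.node (.node (.node (.node (.leaf 0x21492854e6aa0e) (.leaf 0xc284be01b340e)) (.node (.leaf 0x2a49ad869f3ec2) (.leaf 0x0))) (.node (.node (.leaf 0x10cb2e99398227) (.leaf 0x0)) (.node (.leaf 0x8b85341d9a681) (.leaf 0x0)))) (.node (.node (.node (.leaf 0x215e23b76025d0) (.leaf 0x0)) (.node (.leaf 0xead7f3a9bbaea) (.leaf 0x0))) (.node (.node (.leaf 0x29f7a4227f1e4a) (.leaf 0x0)) (.node (.leaf 0x26d6388985c18c) (.leaf 0x0)))))) (.node (.node (.node (.node (.node (.leaf 0x1000000200000) (.leaf 0x100)) (.node (.leaf 0x400000000000) (.leaf 0x0))) (.node (.node (.leaf 0x3c64057a975e59) (.leaf 0x0)) (.node (.leaf 0x2fae5f7ba914ef) (.leaf 0x0)))) (.node (.node (.node (.leaf 0xe49ec2ab6be7f) (.leaf 0x0)) (.node (.leaf 0x35181c95e0ffba) (.leaf 0x0))) (.node (.node (.leaf 0x6f453c13df102) (.leaf 0x0)) (.node (.leaf 0x3edc8df273e856) (.leaf 0x0))))) (.node (.node (.node (.node (.leaf 0x400)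 (.leaf 0x0)) (.node (.leaf 0x2ddf1cef761b0) (.leaf 0x0))) (.node (.node (.leaf 0x23d1e7e7774c71) (.leaf 0x0)) (.node (.leaf 0x215062f642f94a) (.leaf 0x0)))) (.node (.node (.node (.leaf 0x254dc137ed2d37) (.leaf 0x0)) (.node (.leaf 0x1b89291d145675) (.leaf 0x0))) (.node (.node (.leaf 0x11a09cddffb458) (.leaf 0x0)) (.node (.leaf 0x35b63e4a5b1ccb) (.leaf 0x0))))))) (.node (.node (.node (.node (.node (.node (.leaf 0x2bc5d32e50ecf3) (.leaf 0x2048060009)) (.node (.leaf 0x1b4f4394b431e4) (.leaf 0x0))) (.node (.node (.leaf 0x1f3651a24d659c) (.leaf 0x0)) (.node (.leaf 0x415c00998dbc9) (.leaf 0x0)))) (.node (.node (.node (.leaf 0x9e762740359ba) (.leaf 0x0)) (.node (.leaf 0x36f65e9555072d) (.leaf 0x0))) (.node (.node (.leaf 0x35f9b93e83171c) (.leaf 0x0)) (.node (.leaf 0x1b301f00f76e7f) (.leaf 0x0))))) (.node (.node (.node (.node (.leaf 0x3d0d6313042586) (.leaf 0xf604f19f99d2)) (.node (.leaf 0x24257c651f5e09)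 (.leaf 0x0))) (.node (.node (.leaf 0x37d3696a520c43) (.leaf 0x0)) (.node (.leaf 0x1f079bb50855c7) (.leaf 0x0)))) (.node (.node (.node (.leaf 0x332cb1f21cd295) (.leaf 0x0)) (.node (.leaf 0x2ad6f78fcc862f) (.leaf 0x0))) (.node (.node (.leaf 0x36e7bf724fe749) (.leaf 0x0)) (.node (.leaf 0x1e4f6c55b6a66e) (.leaf 0x0)))))) (.node (.node (.node (.node (.node (.leaf 0x26f771ae0d92ae) (.leaf 0x35cda0121c9c6d)) (.node (.leaf 0x2b60776f17d049) (.leaf 0x0))) (.node (.node (.leaf 0x40000000) (.leaf 0x0)) (.node (.leaf 0x3eb35f33a59088) (.leaf 0x0)))) (.node (.node (.node (.leaf 0x30987abd44c71) (.leaf 0x0)) (.node (.leaf 0x3f9e2584bcd83) (.leaf 0x0))) (.node (.node (.leaf 0x23e4829c7545c5) (.leaf 0x0)) (.node (.leaf 0x379267ffa829d1) (.leaf 0x0))))) (.node (.node (.node (.node (.leaf 0x2901a8b557a28a) (.leaf 0x0)) (.node (.leaf 0x366c7fe4cb09ed) (.leaf 0x0))) (.node (.node (.leaf 0x1e61c98c2d6816)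 (.leaf 0x0)) (.node (.leaf 0x1834a8c4adbc2f) (.leaf 0x0)))) (.node (.node (.node (.leaf 0x1ee8c356ebfffc) (.leaf 0x0)) (.node (.leaf 0x3f957fdf36d154) (.leaf 0x0))) (.node (.node (.leaf 0x40000000000) (.leaf 0x0)) (.node (.leaf 0x800) (.leaf 0x0))))))))))))

/-- For each generator, the images of the 27 basis vectors, 54 bits each. -/
def colAT : List ℕ := [0x1a02dbe0510abe000000080000000000000000008e218f04d8c6f540000000400000843030baf29b5800000001000003c6f6f437a29e2623406757ff9bd861830f38e882db533767f4be400000000020003103bb531af0580000000000800000000000010004e7d0ad6a1e7a000000000004006d3d0e52d0c79276ed816b6c7c9000000000002014b6886464fbf49070f7fa7b8e9fd908b5be28d85000000040000026094f37492f608981c53ade01600000000000001, 0x13ca5e013eca76120cb6cb41ad90672c0a1b5e48ce119aaae43f490000000040000000000000800000000000010000000000000200000d301dc1bb544f9c4de25b81b3e32d64fda693a810000000002000290070574a8039d87217eb1aa91000000000010005cf021f0ecc210000000000040021d9b7c03edcf7513115290675c843030baf29b580000000000040000000000000800000000000010b0217e59f144cc0000000000004ca1d9e6ca15a580000000000001,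 0x3f08e7a2743e1600000000400001c6af84c5bf1df00000002000003b010dae6871320000000080000000000020000000000000020000139f42b5a879e800000000080000000000001000044fb53376d9a99add8690bc1ce94f2a6cef307144d0190b6804ac3988d019d5ffe6c0000000000400345f0f68ebe14ae2005bf7571223575f50f9b28d0fbf04612bb89100000000000083b54b19a383c98f82a240fb1c63400000000000048981c53ade01600f604f19f99d2, 0x4000000fdffe828c65ef800000000000080000000200000230fec7d5453862ed9d214ffd7200000000100000cc0eef6dabd1200000000040000ca19ef0f2958763b87b9608803c28ef6cdf245fdf7d3696a520c439bb5a4fa4ee9a8d5d7d43e6ca3469c2a1a756bf9c0000000000400000000000008000000000000100d7ef65fe644c441661868df2e5c000000000000800000000000010000000040000000000000000004f82a240fb1c636ad71e50a26483, 0x4000000efe1f1a62423ffb54b19a383c988bf4c73fed61ef9aa617bfb3e8c000000008000000e616d01d0c920000040000000000000000400000000000008000000000000100000000000002000260fc59f3639b589abbd7cac14aff0a893bcc3931000000000020001fffe08417218facd7cce964221d4802f4fec37200000000000200000000000004001000000200001c6af84c5bf1df92912e3db4c55fab4cb4315388f00000000000009c4e6efcdecaf2,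 0x40000006f08d2d7c6a7800000001000000ca6a3378cc7c935eaac515b01ed641cfe8865974db9ed942873997f1bf06efa34409b4f4394b431e46f73561538a9b0000000001000066c3b9458c4584900a897bd317600000000008000d5d7d43e6ca34345f0f68ebe14ae202ab8ed9590988d019d5ffe6c0000000000100340642da012b0edd4f76b3e15b5000000000000837734ab1b55db900000000000021b2908b1cdcd210000000000000881fc6d53be604, 0x10ac10cd442ba3d69cd22bfe0d98000000100000000000000000803b3247a229a8dd4b4e32d12210a5b9ed94287399700000000200003770b33e37c88e000000000800032e6f805f5cbefeceeb8a1ba16880000000004000b5b7f4df0c6d90000000000100000000000002000ead6b3a93ba2a00000002000003a20abdaccda4da782cff89b91abb9a5c69894cff000000000000839443255c2a83800000000000020000000000000467473136799bbdc4e6efcdecaf2, 0x38282de3b1c90701635d417215d80000001000000d472ff88f2216dc4e6efcdecaf200000000800001a30ba69d5ad67334ddaa6e83922e840c8dec04c200000000080002af834ecdac711377e7fa81a39dcb38d458d135cbd3ee74f88d4f700000000001000d4a2356e044746e202ab8ed95906b141b54204c8795f1bb71637580000000000020000000000000404d6f78f2538534000000000001000000000000020cb618e96702410000000000000b9aa617bfb3e8c]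

/-- For each generator, the images of the multiples of the basis vectors. -/
def colBT : List ℕ := [0x188a8e13405b7c4000000000000000000400000008e7b8afc431e08200000000000053a4ea70860614080000000000027be20478dede9c9cbcbcc4680ca1a6c71b0c3061e4f6c55b6a66e001000000000029d4399620776a000400000000000008000000000fb7237c9cfa1580002000000000fbbb32cda7a1c92d8e65ceddb020000100000000379157c296d10c43ac83120e1efe284e777b2116b20000000000001c403434c129e65f71ce313038a40000008000000, 0x1a3c0db2794bc04801da424196d8bdde4c0ce581493060e3c2335542000000000000040000000000000800000000000010000000000000eabfb9a603b840407d5389bc4a19f9bd65ac9fb00100000000001354719d200e0a80a75f7b0e42fc0008000000000db96316b9e043c0002000000000202f50643b36fa1902bb6a2622a53a4ea7086061400002000000000000040000000000000800000007fab5836042fc80000020000000af174cb943b3cc0000008000000, 0x2ca91717e11cf402000000000003eb576b38d5f0910000000000000842843f6021b504000000000001000000000000001000000000003edc8df273e856004000000000000080000000000ff9787e89f6a65f3d61db5bb0d236a9e6c9e54d9f903c6a9a032167272f2f311a0300002000000000730005268be1ed58b8cadc400b749acb386aebea06e2c0e9f7e08c00000400000002a95555f6a963385a415bf05448000000200000005f71ce313038a4c0aca601ec09e,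 0x20000000000000bbcd1fffbffd040000040000000100000000000009ad704c61fd8f89276b05db3a400800000000000a150667981ddec0200000000000b3532cb9433de13fc7a74770f72d1cd92251ded9a5430b76fa6d2d49c2e9b376b49d26b2ce1abafa853775d4d385434000200000000000004000000000000080000000024cd07dafdecbc79f6a882cc30d00000400000000000008000000020000000000000000002000000085a415bf054482fc43a4d5ae3ca, 0x20000000000000dec0ee5dfc3e36a95555f6a9633749fc8517e98e6673951f354c2f0400000000000000e72401cc2da00000400000080020000000000000400000000000008000000000000100000000001fbe0834c1f8b36ccb18113577ae16b40b7e15127000100000000003f46ec83fffc18e7f6ddf59af9babe1963a9005e00001000000000000020000000000000000200003eb576b38d5f097f3704d25225c621d0f3f56996800000040000003ab8396b89cddf, 0x20000000000000d13deecde11a5880000000000000c09d7f94d466ff32a33ebd558a273044ec839fd0fa715fb73db288ca526be37e0dfeeeccb369e872c6b61b8dee6ac000800000000004aa1956cd8772b4e923212015120004000000000126b2ce1abafa8730005268be1ee94c863dc405577272f2f311a0300000800000000e40f1aa680c85b4245ac5ba9eed00000400000003ad9a77eee69560000010000000154761bb652116000000400000021c0f6f103f8da,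 0x3a8d4dd2158219896cbefad39a44800000000000000004000000002a7f014f6648f4c25eb7e969c658fa715fb73db28010000000000006cef74eee166700400000000001d48a77e5cdf00e13e0cfd9dd71400200000000004dd49856b6fe98000800000000000010000000001a30ba69d5ad6710000000000002c4679b744157b635e42b4f059ff7d03b97734b8d00000400000001751739728864a000001000000000000020000000d48beccce8e627ab8396b89cddf, 0x25a665df0505bc0af3f3802c6ba8800000000000093e3f4fa8e5ff3ab8396b89cddf0400000000000149dd15346174d040c13a669bb541e42a9dd0819100400000000000c2e0c655f069d77afb146efcff4db17a01671a8b17840f7a7dce9c0008000000000a4800f5a9446ae94c863dc40557ca167f6d6283681eea1772be376000010000000000000200000000dff35149adef1c00000800000000000010000000078e0ae196c31d00000040000002673951f354c2f]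

/-- The points of the basis vectors. -/
def basisPts : List ℕ := [253, 70, 233, 106, 311, 14, 322, 44, 357, 130, 37, 341, 76, 291, 71, 170, 350, 318, 226, 186, 94, 15, 198, 313, 88, 43, 356]

end Cfsg.Agent.OmegaSevenCover
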